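import Groth.Agent.NumType.SubApp

/-!
# Numerical types all of whose indices are `(-2)`-indices: the affine diagrams
-/

namespace Groth.Agent.NumType

open Finset Models

variable {n : ℕ} {T : Models.NumericalType n}

/-- Kinds of ends of a chain: a short leaf, a long leaf, a fork. -/
inductive Kind | S | L | F
deriving DecidableEq

/-- Number of leaves at an end. -/
def Kind.size : Kind → ℕ
  | .S => 1
  | .L => 1
  | .F => 2

variable (T) in
/-- Data of a leaf `x` at an end `u` of kind `k`, the middle having multiplicity `M` and weight `W`. -/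
def LeafData : Kind → ℤ → ℤ → Fin n → Fin n → Prop
  | .S, M, W, u, x => T.m x = M ∧ 2 * T.w x = W ∧ T.a x u = W
  | .L, M, W, u, x => 2 * T.m x = M ∧ T.w x = 2 * W ∧ T.a x u = 2 * W
  | .F, M, W, u, x => 2 * T.m x = M ∧ T.w x = W ∧ T.a x u = W

/-- A cycle through all indices. -/
structure Cyc (T : Models.NumericalType n) (σ : Equiv.Perm (Fin n)) (M W : ℤ) : Prop where
  hm : ∀ i, T.m (σ i) = M
  hw : ∀ i, T.w (σ i) = W
  edge : ∀ i j : Fin n, j.val = i.val + 1 → T.a (σ i) (σ j) = W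
  close : ∀ i j : Fin n, i.val = 0 → j.val + 1 = n → T.a (σ i) (σ j) = W
  zero : ∀ i j : Fin n, i.val < j.val → ¬ (j.val = i.val + 1) → ¬ (i.val = 0 ∧ j.val + 1 = n) →
    T.a (σ i) (σ j) = 0

/-- A chain through all indices with two ends of the given kinds. -/
structure Fam (T : Models.NumericalType n) (k0 k1 : Kind) (σ : Equiv.Perm (Fin n)) (M W : ℤ) : Prop where
  hn : k0.size + k1.size < n
  mid : ∀ i : Fin n, k0.size ≤ i.val → i.val + k1.size < n → T.m (σ i) = M ∧ T.w (σ i) = W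
  midE : ∀ i j : Fin n, k0.size ≤ i.val → j.val = i.val + 1 → j.val + k1.size < n → T.a (σ i) (σ j) = W
  left : ∀ i j : Fin n, i.val < k0.size → j.val = k0.size → LeafData T k0 M W (σ j) (σ i)
  right : ∀ i j : Fin n, i.val + k1.size + 1 = n → n ≤ j.val + k1.size → LeafData T k1 M W (σ i) (σ j)
  zero : ∀ i j : Fin n, i.val < j.val →
    ¬ (k0.size ≤ i.val ∧ j.val = i.val + 1 ∧ j.val + k1.size < n) →
    ¬ (i.val < k0.size ∧ j.val = k0.size) → ¬ (i.val + k1.size + 1 = n ∧ n ≤ j.val + k1.size) →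
    T.a (σ i) (σ j) = 0

theorem Fam.swap {k0 k1 : Kind} {σ : Equiv.Perm (Fin n)} {M W : ℤ} (h : Fam T k0 k1 σ M W) :
    Fam T k1 k0 (Fin.revPerm.trans σ) M W := by
  have hn := h.hn
  refine ⟨by omega, fun i h1 h2 => h.mid _ ?_ ?_, fun i j h1 h2 h3 => ?_, fun i j h1 h2 => h.right _ _ ?_ ?_,
    fun i j h1 h2 => h.left _ _ ?_ ?_, fun i j h1 h2 h3 h4 => ?_⟩
  all_goals try simp only [Fin.revPerm_apply, Fin.val_rev, Equiv.trans_apply]
  all_goals try omega
  · rw [a_symm]
    refine h.midE _ _ ?_ ?_ ?_ <;> simp only [Fin.val_rev] <;> omega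
  · rw [a_symm]
    refine h.zero _ _ ?_ ?_ ?_ ?_ <;> simp only [Fin.val_rev] <;> omega

/-- The leaves at an end of total weight two. -/
theorem kind_of_end {u : Fin n} {M₀ : Finset (Fin n)} {S : Finset (Fin n)} {M : ℤ}
    (h : IsLeaves T u M₀ S) (hsum : sumP T u S = 2) (hm : ∀ s ∈ S, 2 * T.m s = c T s u * M) :
    ∃ (k : Kind) (l : ℕ → Fin n), #S = k.size ∧ (∀ x ∈ S, ∃ i < k.size, l i = x) ∧
      (∀ i < k.size, l i ∈ S ∧ LeafData T k M (T.w u) u (l i)) ∧
      ∀ i < k.size, ∀ j < k.size, l i = l j → i = j := by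
  have hge : ∀ s ∈ S, 1 ≤ P T u s := fun s hs => by rw [P_comm]; exact one_le_P T (h.adj s hs)
  have hcard : (#S : ℤ) ≤ 2 := by
    calc (#S : ℤ) = ∑ _s ∈ S, (1 : ℤ) := by simp
      _ ≤ sumP T u S := sum_le_sum hge
      _ = 2 := hsum
  have hne : S.Nonempty := nonempty_iff_ne_empty.2 fun e => by simp [sumP, e] at hsum
  rcases (show #S = 1 ∨ #S = 2 by have := hne.card_pos; omega) with e | e
  · obtain ⟨s, rfl⟩ := card_eq_one.1 e
    have hP : P T s u = 2 := by rw [P_comm]; simpa [sumP] using hsum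
    have hms := hm s (mem_singleton_self _)
    rcases P_eq_two T (h.adj s (mem_singleton_self _)) hP with ⟨hc, -, ha, hw⟩ | ⟨hc, -, ha, hw⟩
    · exact ⟨.S, fun _ => s, rfl, fun x hx => ⟨0, Nat.one_pos, (mem_singleton.1 hx).symm⟩,
        fun i _ => ⟨mem_singleton_self _, by rw [hc] at hms; linarith, hw.symm, ha⟩,
        fun i (hi : i < 1) j (hj : j < 1) _ => by omega⟩
    · exact ⟨.L, fun _ => s, rfl, fun x hx => ⟨0, Nat.one_pos, (mem_singleton.1 hx).symm⟩,
        fun i _ => ⟨mem_singleton_self _, by rw [hc] at hms; linarith, hw, ha.trans hw⟩,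
        fun i (hi : i < 1) j (hj : j < 1) _ => by omega⟩
  · obtain ⟨s, t, hst, rfl⟩ := card_eq_two.1 e
    rw [sumP, sum_pair hst] at hsum
    have h1 := hge s (mem_insert_self _ _)
    have h2 := hge t (mem_insert_of_mem (mem_singleton_self _))
    have data : ∀ x ∈ ({s, t} : Finset (Fin n)), LeafData T .F M (T.w u) u x := fun x hx => by
      have hP : P T x u = 1 := by
        rw [P_comm]
        rcases mem_insert.1 hx with rfl | hx
        · omega
        · rw [mem_singleton.1 hx]; omega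
      obtain ⟨ha, hw⟩ := P_eq_one T (h.adj x hx) hP
      have hc : c T x u = 1 := by
        have := w_mul_c T x u
        have hw0 := T.w_pos x
        nlinarith
      exact ⟨by rw [hm x hx, hc, one_mul], hw.symm, ha.trans hw.symm⟩
    refine ⟨.F, fun i => if i = 0 then s else t, e, fun x hx => ?_, fun i _ => ?_, fun i (hi : i < 2) j (hj : j < 2) he => ?_⟩
    · rcases mem_insert.1 hx with rfl | hx
      · exact ⟨0, Nat.two_pos, if_pos rfl⟩
      · exact ⟨1, Nat.one_lt_two, by rw [mem_singleton.1 hx]; simp⟩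
    · have : (if i = 0 then s else t) ∈ ({s, t} : Finset (Fin n)) := by split <;> simp
      exact ⟨this, data _ this⟩
    · by_contra hij
      rcases (show i = 0 ∧ j = 1 ∨ i = 1 ∧ j = 0 by omega) with ⟨rfl, rfl⟩ | ⟨rfl, rfl⟩
      · exact hst (by simpa using he)
      · exact hst (by simpa using he.symm)

theorem fam_of_ends {v : ℕ → Fin n} {r : ℕ} {S0 S1 : Finset (Fin n)} (hv : IsPath T v r)
    (h0 : IsLeaves T (v 0) (verts v r) S0) (h1 : IsLeaves T (v r) (verts v r) S1) (hd : Disjoint S0 S1)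
    (hs0 : 2 ≤ sumP T (v 0) S0) (hs1 : 2 ≤ sumP T (v r) S1) :
    ∃ k0 k1 σ M W, Fam T k0 k1 σ M W := by
  classical
  have hf := ends hv h0 h1 hd (fun _ => by linarith) (fun _ => ⟨hs0, hs1⟩)
  have hle : n ≤ r + 1 + #S0 + #S1 := hf.card_le hv
  have hge : r + 1 + #S0 + #S1 ≤ n := by
    have d1 : Disjoint (verts v r) S0 := Finset.disjoint_right.2 fun s hs => h0.off s hs
    have d2 : Disjoint (verts v r ∪ S0) S1 :=
      disjoint_union_left.2 ⟨Finset.disjoint_right.2 fun s hs => h1.off s hs, hd⟩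
    have := card_le_univ (verts v r ∪ S0 ∪ S1)
    rw [card_union_of_disjoint d2, card_union_of_disjoint d1, hv.card_verts, Fintype.card_fin] at this
    exact this
  have t0 : sumP T (v 0) S0 = 2 := by linarith [hf.total]
  have t1 : sumP T (v r) S1 = 2 := by linarith [hf.total]
  obtain ⟨k0, l0, hc0, hs0', hd0, -⟩ := kind_of_end h0 t0 hf.m0
  obtain ⟨k1, l1, hc1, hs1', hd1, -⟩ := kind_of_end h1 t1 hf.m1
  rw [hc0, hc1] at hle hge
  let g : Fin n → Fin n := fun i => if i.val < k0.size then l0 i.val else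
    if i.val + k1.size < n then v (i.val - k0.size) else l1 (i.val + k1.size - n)
  have gL : ∀ i : Fin n, i.val < k0.size → g i = l0 i.val := fun i h => if_pos h
  have gM : ∀ i : Fin n, k0.size ≤ i.val → i.val + k1.size < n → g i = v (i.val - k0.size) := fun i h h' => by
    simp only [g]; rw [if_neg (by omega), if_pos h']
  have gR : ∀ i : Fin n, n ≤ i.val + k1.size → g i = l1 (i.val + k1.size - n) := fun i h => by
    simp only [g]; rw [if_neg (by omega), if_neg (by omega)]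
  have hsurj : Function.Surjective g := fun x => by
    rcases hf.cover x with hx | hx | hx
    · obtain ⟨i, hi, rfl⟩ := mem_verts.1 hx
      exact ⟨⟨k0.size + i, by omega⟩, by rw [gM] <;> simp <;> omega⟩
    · obtain ⟨i, hi, rfl⟩ := hs0' x hx
      exact ⟨⟨i, by omega⟩, by rw [gL]; exact hi⟩
    · obtain ⟨i, hi, rfl⟩ := hs1' x hx
      exact ⟨⟨n - k1.size + i, by omega⟩, by rw [gR] <;> (simp only; try congr 1) <;> omega⟩
  refine ⟨k0, k1, Equiv.ofBijective g ⟨Finite.injective_iff_surjective.2 hsurj, hsurj⟩, T.m (v 0), T.w (v 0), ?_⟩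
  have hinj : Function.Injective g := Finite.injective_iff_surjective.2 hsurj
  have gne : ∀ i j : Fin n, i.val ≠ j.val → g i ≠ g j := fun i j h e => h (congrArg Fin.val (hinj e))
  have mem0 : ∀ i : Fin n, i.val < k0.size → g i ∈ S0 := fun i h => by rw [gL i h]; exact (hd0 _ h).1
  have mem1 : ∀ i : Fin n, n ≤ i.val + k1.size → g i ∈ S1 := fun i h => by
    rw [gR i h]; exact (hd1 _ (by omega)).1
  refine ⟨by omega, fun i ha hb => ?_, fun i j ha e hb => ?_, fun i j ha e => ?_, fun i j e hb => ?_,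
    fun i j hij hc1' hc2 hc3 => ?_⟩ <;> simp only [Equiv.ofBijective_apply]
  · rw [gM i ha hb]; exact ⟨hf.mM _ (by omega), hf.wM _ (by omega)⟩
  · rw [gM i ha (by omega), gM j (by omega) hb, show j.val - k0.size = i.val - k0.size + 1 by omega]
    exact hf.edge _ (by omega)
  · rw [gL i ha, gM j (by omega) (by omega), e, Nat.sub_self]
    exact (hd0 _ ha).2
  · rw [gR j hb, gM i (by omega) (by omega), show i.val - k0.size = r by omega, ← hf.wM r le_rfl]
    exact (hd1 _ (by omega)).2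
  · rcases lt_or_ge i.val k0.size with hi | hi
    · refine hf.z0 _ (mem0 i hi) _ (gne j i (by omega)) ?_
      have hv0 : g ⟨k0.size, by omega⟩ = v 0 := by
        rw [gM _ le_rfl (by simp only; omega)]; simp
      rw [← hv0]
      exact gne _ _ (by simp only; omega)
    rcases lt_or_ge (j.val + k1.size) n with hj | hj
    · rw [gM i hi (by omega), gM j (by omega) hj]
      exact hf.zM _ (by omega) _ (by omega) (by omega)
    · rw [a_symm]
      refine hf.z1 _ (mem1 j hj) _ (gne i j (by omega)) ?_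
      have hvr : g ⟨k0.size + r, by omega⟩ = v r := by
        rw [gM _ (by simp) (by simp only; omega)]; simp
      rw [← hvr]
      exact gne _ _ (by simp only; omega)

theorem cyc_of_cycle {v : ℕ → Fin n} {r : ℕ} (hv : IsPath T v r) (hr : 2 ≤ r) (hc : 0 < T.a (v 0) (v r)) :
    ∃ σ M W, Cyc T σ M W := by
  classical
  have hf := cycle hv hr hc
  obtain ⟨hcard⟩ := And.intro hf.card trivial
  have hsurj : Function.Surjective (fun i : Fin n => v i.val) := fun x => by
    obtain ⟨i, hi, rfl⟩ := mem_verts.1 (hf.cover x)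
    exact ⟨⟨i, by omega⟩, rfl⟩
  refine ⟨Equiv.ofBijective _ ⟨Finite.injective_iff_surjective.2 hsurj, hsurj⟩, T.m (v 0), T.w (v 0),
    fun i => hf.mM _ (by omega), fun i => hf.wM _ (by omega), fun i j e => ?_, fun i j e e' => ?_,
    fun i j hij hne hne' => hf.zM _ (by omega) _ (by omega) (by omega) (by omega)⟩
  · simp only [Equiv.ofBijective_apply, e]; exact hf.edge _ (by omega)
  · simp only [Equiv.ofBijective_apply, e, show j.val = r by omega]; exact hf.close

/-- Configuration with equality: it exhausts everything and all data are determined. -/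
theorem config_full {k : ℕ} (hk : 0 < k) (v : Fin k → Fin n) (hinj : Function.Injective v)
    (hv : ∀ p, T.IsMinusTwo (v p)) (x : Fin k → ℕ) (hx : ∀ p, 0 < x p) (cl : Fin k → Fin k → ℕ)
    (hdiag : ∀ p, cl p p = 0) (hcl : ∀ p q, p ≠ q → (cl p q : ℤ) ≤ c T (v p) (v q))
    (hrow : ∀ p, 2 * x p ≤ ∑ q, cl p q * x q) :
    k = n ∧ Function.Surjective v ∧ (∀ p q, T.m (v p) * x q = T.m (v q) * x p) ∧
      ∀ p q, p ≠ q → T.a (v p) (v q) = cl p q * T.w (v p) := by
  classical
  let X : Fin n → ℤ := fun i => ∑ p, if v p = i then (x p : ℤ) else 0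
  have hXv : ∀ p, X (v p) = x p := fun p => by simp [X, hinj.eq_iff]
  have hX : ∀ i, 0 ≤ X i := fun i => sum_nonneg fun p _ => by split <;> simp
  have hout : ∀ i, (∀ p, v p ≠ i) → X i = 0 := fun i hi => sum_eq_zero fun p _ => by simp [hi p]
  have hnot : ∀ p, v p ∉ (univ.erase p).image v := fun p => by simp [hinj.eq_iff]
  have hterm : ∀ p, ∀ q ∈ univ.erase p, T.w (v p) * ((cl p q : ℤ) * x q) ≤ T.a (v p) (v q) * x q :=
    fun p q hq => by
      rw [← w_mul_c T (v p) (v q), mul_assoc]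
      exact mul_le_mul_of_nonneg_left (mul_le_mul_of_nonneg_right (hcl p q (ne_of_mem_erase hq).symm)
        (by positivity)) (T.w_pos _).le
  have hlow : ∀ p, 0 ≤ T.a (v p) (v p) * X (v p) + ∑ q ∈ univ.erase p, T.w (v p) * ((cl p q : ℤ) * x q) := fun p => by
    rw [← mul_sum, sum_erase _ (by simp [hdiag p]), hXv, a_diag T (hv p)]
    have : (2 * x p : ℤ) ≤ ∑ q, (cl p q : ℤ) * x q := by exact_mod_cast hrow p
    nlinarith [T.w_pos (v p)]
  have hrowX : ∀ p, 0 ≤ T.a (v p) (v p) * X (v p) + ∑ s ∈ (univ.erase p).image v, T.a (v p) s * X s := fun p => by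
    refine (hlow p).trans ?_
    rw [sum_image fun a _ b _ h => hinj h]
    simp only [hXv]
    linarith [sum_le_sum (hterm p)]
  obtain ⟨hpos, hprop, hzero⟩ := subharmonic T X hX ⟨v ⟨0, hk⟩, by rw [hXv]; exact_mod_cast hx _⟩ (fun i hi => by
    obtain ⟨p, rfl⟩ : ∃ p, v p = i := by
      by_contra hc
      exact hi.ne' (hout i fun p hp => hc ⟨p, hp⟩)
    exact (hrowX p).trans (row_ge T X hX _ _ (hnot p)))
  have hsurj : Function.Surjective v := fun i => by
    by_contra hc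
    exact (hpos i).ne' (hout i fun p hp => hc ⟨p, hp⟩)
  refine ⟨?_, hsurj, fun p q => ?_, fun p q hpq => ?_⟩
  · simpa using Fintype.card_of_bijective ⟨hinj, hsurj⟩
  · have := hprop (v p) (v q)
    simp only [hXv] at this
    linarith
  · have t := (row_tight T X hpos (v p) _ (hnot p) (hzero _) (hrowX p)).1
    rw [sum_image fun a _ b _ h => hinj h] at t
    simp only [hXv] at t
    have h1 := hlow p
    rw [hXv] at h1
    have heq : ∀ q ∈ univ.erase p, T.w (v p) * ((cl p q : ℤ) * x q) = T.a (v p) (v q) * x q :=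
      (sum_eq_sum_iff_of_le (hterm p)).1 (le_antisymm (sum_le_sum (hterm p)) (by linarith))
    have h3 := heq q (mem_erase.2 ⟨hpq.symm, mem_univ _⟩)
    have hxq : (0 : ℤ) < x q := by exact_mod_cast hx q
    exact mul_right_cancel₀ hxq.ne' (by linarith)

/-- An exceptional diagram given by its Cartan entries and null vector. -/
structure Exc (T : Models.NumericalType n) {k : ℕ} (x : Fin k → ℕ) (cl : Fin k → Fin k → ℕ) : Prop where
  ex : ∃ v : Fin k → Fin n, k = n ∧ Function.Bijective v ∧ (∀ p, T.IsMinusTwo (v p)) ∧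
    (∀ p q, T.m (v p) * x q = T.m (v q) * x p) ∧ ∀ p q, p ≠ q → T.a (v p) (v q) = cl p q * T.w (v p)

theorem Exc.mk' {k : ℕ} (hk : 0 < k) (v : Fin k → Fin n) (hinj : Function.Injective v)
    (hv : ∀ p, T.IsMinusTwo (v p)) (x : Fin k → ℕ) (hx : ∀ p, 0 < x p) (cl : Fin k → Fin k → ℕ)
    (hdiag : ∀ p, cl p p = 0) (hcl : ∀ p q, p ≠ q → (cl p q : ℤ) ≤ c T (v p) (v q))
    (hrow : ∀ p, 2 * x p ≤ ∑ q, cl p q * x q) : Exc T x cl := by
  obtain ⟨h1, h2, h3, h4⟩ := config_full hk v hinj hv x hx cl hdiag hcl hrow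
  exact ⟨v, h1, ⟨hinj, h2⟩, hv, h3, h4⟩

/-- Adjacency matrix from a list of edges. -/
def adjOf (k : ℕ) (E : List (ℕ × ℕ)) : Fin k → Fin k → ℕ := fun p q =>
  if (p.val, q.val) ∈ E ∨ (q.val, p.val) ∈ E then 1 else 0

/-- The vector of `F4` (first kind). -/
def xF41 : Fin 5 → ℕ := ![1, 2, 3, 2, 1]
/-- The entries of `F4` (first kind). -/
def clF41 : Fin 5 → Fin 5 → ℕ := ![![0, 1, 0, 0, 0], ![1, 0, 1, 0, 0], ![0, 1, 0, 2, 0], ![0, 0, 1, 0, 1], ![0, 0, 0, 1, 0]]
/-- The vector of `F4` (second kind). -/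
def xF42 : Fin 5 → ℕ := ![1, 2, 3, 4, 2]
/-- The entries of `F4` (second kind). -/
def clF42 : Fin 5 → Fin 5 → ℕ := ![![0, 1, 0, 0, 0], ![1, 0, 1, 0, 0], ![0, 1, 0, 1, 0], ![0, 0, 2, 0, 1], ![0, 0, 0, 1, 0]]
/-- The vector of `E6`. -/
def xE6 : Fin 7 → ℕ := ![1, 2, 3, 1, 2, 1, 2]
/-- The edges of `E6`. -/
def eE6 : List (ℕ × ℕ) := [(0, 1), (1, 2), (3, 4), (2, 4), (5, 6), (2, 6)]
/-- The vector of `E7`. -/
def xE7 : Fin 8 → ℕ := ![1, 2, 3, 4, 3, 2, 1, 2]
/-- The edges of `E7`. -/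
def eE7 : List (ℕ × ℕ) := [(0, 1), (1, 2), (2, 3), (3, 4), (4, 5), (5, 6), (3, 7)]
/-- The vector of `E8`. -/
def xE8 : Fin 9 → ℕ := ![1, 2, 3, 4, 5, 6, 4, 2, 3]
/-- The edges of `E8`. -/
def eE8 : List (ℕ × ℕ) := [(0, 1), (1, 2), (2, 3), (3, 4), (4, 5), (5, 6), (6, 7), (5, 8)]

/-- The list of affine diagrams. -/
inductive AffineShape (T : Models.NumericalType n) : Prop
  | cyc (σ : Equiv.Perm (Fin n)) (M W : ℤ) (h : Cyc T σ M W)
  | fam (k0 k1 : Kind) (σ : Equiv.Perm (Fin n)) (M W : ℤ) (h : Fam T k0 k1 σ M W)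
  | f41 (h : Exc T xF41 clF41)
  | f42 (h : Exc T xF42 clF42)
  | e6 (h : Exc T xE6 (adjOf 7 eE6))
  | e7 (h : Exc T xE7 (adjOf 8 eE7))
  | e8 (h : Exc T xE8 (adjOf 9 eE8))

theorem shape_of_ends {v : ℕ → Fin n} {r : ℕ} {S0 S1 : Finset (Fin n)} (hv : IsPath T v r)
    (h0 : IsLeaves T (v 0) (verts v r) S0) (h1 : IsLeaves T (v r) (verts v r) S1) (hd : Disjoint S0 S1)
    (hs0 : 2 ≤ sumP T (v 0) S0) (hs1 : 2 ≤ sumP T (v r) S1) : AffineShape T := by
  obtain ⟨k0, k1, σ, M, W, h⟩ := fam_of_ends hv h0 h1 hd hs0 hs1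
  exact .fam k0 k1 σ M W h

theorem shape_of_cycle {v : ℕ → Fin n} {r : ℕ} (hv : IsPath T v r) (hr : 2 ≤ r) (hc : 0 < T.a (v 0) (v r)) :
    AffineShape T := by
  obtain ⟨σ, M, W, h⟩ := cyc_of_cycle hv hr hc
  exact .cyc σ M W h

end Groth.Agent.NumType
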