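import Groth.Prelude.Def_Models
import Mathlib.Tactic

/-!
# Elementary facts on numerical types
-/

namespace Groth.Agent.NumType

open Finset Models

variable {n : ℕ} (T : Models.NumericalType n)

theorem a_symm (i j : Fin n) : T.a i j = T.a j i := (T.symm.apply j i)

theorem row_sum (i : Fin n) : ∑ j, T.a i j * T.m j = 0 := by
  have h := congrFun T.mulVec_m i
  simpa [Matrix.mulVec, dotProduct] using h

/-- The entry `a i j / w i` of the Picard matrix. -/
abbrev c (i j : Fin n) : ℤ := T.picMatrix i j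

theorem w_mul_c (i j : Fin n) : T.w i * c T i j = T.a i j := Int.mul_ediv_cancel' (T.w_dvd i j)

theorem c_nonneg {i j : Fin n} (h : i ≠ j) : 0 ≤ c T i j :=
  Int.ediv_nonneg (T.offDiag_nonneg i j h) (T.w_pos i).le

theorem a_pos {i j : Fin n} (hne : i ≠ j) (h : T.a i j ≠ 0) : 0 < T.a i j :=
  lt_of_le_of_ne (T.offDiag_nonneg i j hne) (Ne.symm h)

theorem one_le_c {i j : Fin n} (h : 0 < T.a i j) : 1 ≤ c T i j := by
  have := w_mul_c T i j
  have := T.w_pos i
  nlinarith

theorem w_le_a {i j : Fin n} (h : 0 < T.a i j) : T.w i ≤ T.a i j :=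
  Int.le_of_dvd h (T.w_dvd i j)

theorem w_le_a' {i j : Fin n} (h : 0 < T.a i j) : T.w j ≤ T.a i j := by
  rw [a_symm T i j] at h ⊢
  exact w_le_a T h

/-- The product of the two Cartan entries of a pair of indices. -/
def P (i j : Fin n) : ℤ := c T i j * c T j i

theorem P_comm (i j : Fin n) : P T i j = P T j i := mul_comm _ _

theorem c_mul_a (i j : Fin n) : c T j i * T.a i j = P T i j * T.w i := by
  rw [← w_mul_c T i j, P]
  ring

theorem one_le_P {i j : Fin n} (h : 0 < T.a i j) : 1 ≤ P T i j := by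
  have h1 := one_le_c T h
  have h2 : 1 ≤ c T j i := one_le_c T (by rwa [a_symm])
  unfold P
  nlinarith

theorem P_eq_one {i j : Fin n} (h : 0 < T.a i j) (hP : P T i j = 1) :
    T.a i j = T.w i ∧ T.w j = T.w i := by
  have h1 := one_le_c T h
  have h2 : 1 ≤ c T j i := one_le_c T (by rwa [a_symm])
  unfold P at hP
  have e1 : c T i j = 1 := by nlinarith
  have e2 : c T j i = 1 := by nlinarith
  have := w_mul_c T i j
  have := w_mul_c T j i
  have := a_symm T i j
  rw [e1] at *
  rw [e2] at *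
  omega

theorem P_eq_two {i j : Fin n} (h : 0 < T.a i j) (hP : P T i j = 2) :
    (c T i j = 2 ∧ c T j i = 1 ∧ T.a i j = T.w j ∧ T.w j = 2 * T.w i) ∨
      (c T i j = 1 ∧ c T j i = 2 ∧ T.a i j = T.w i ∧ T.w i = 2 * T.w j) := by
  have h1 := one_le_c T h
  have h2 : 1 ≤ c T j i := one_le_c T (by rwa [a_symm])
  unfold P at hP
  have b1 : c T i j ≤ 2 := by nlinarith
  have hA := w_mul_c T i j
  have hB := w_mul_c T j i
  have := a_symm T i j
  rcases (show c T i j = 1 ∨ c T i j = 2 by omega) with e1 | e1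
  · have e2 : c T j i = 2 := by rw [e1, one_mul] at hP; exact hP
    rw [e1] at hA
    rw [e2] at hB
    exact Or.inr ⟨e1, e2, by omega, by omega⟩
  · have e2 : c T j i = 1 := by rw [e1] at hP; omega
    rw [e1] at hA
    rw [e2] at hB
    exact Or.inl ⟨e1, e2, by omega, by omega⟩

/-- A non-negative nonzero vector `x` with `(a x)_i ≥ 0` on its support is proportional to `m`
(so has full support) and is killed by `a`. -/
theorem subharmonic (x : Fin n → ℤ) (hx : ∀ i, 0 ≤ x i) (hne : ∃ i, 0 < x i)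
    (h : ∀ i, 0 < x i → 0 ≤ ∑ j, T.a i j * x j) :
    (∀ i, 0 < x i) ∧ (∀ i j, x i * T.m j = x j * T.m i) ∧ ∀ i, ∑ j, T.a i j * x j = 0 := by
  have : Nonempty (Fin n) := ⟨⟨0, T.pos⟩⟩
  obtain ⟨i₀, -, hi₀⟩ := Finset.exists_max_image (univ : Finset (Fin n))
    (fun i => (x i : ℚ) / T.m i) univ_nonempty
  have hmax : ∀ j, x j * T.m i₀ ≤ x i₀ * T.m j := fun j => by
    have := hi₀ j (mem_univ _)
    rw [div_le_div_iff₀ (by exact_mod_cast T.m_pos j) (by exact_mod_cast T.m_pos i₀)] at this
    exact_mod_cast this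
  have hpos₀ : 0 < x i₀ := by
    obtain ⟨i, hi⟩ := hne
    nlinarith [hmax i, T.m_pos i₀, T.m_pos i]
  set S : Finset (Fin n) := univ.filter (fun i => x i * T.m i₀ = x i₀ * T.m i) with hS
  have hclosed : ∀ i ∈ S, ∀ j, T.a i j ≠ 0 → j ∈ S := by
    intro i hi j hij
    rw [hS, mem_filter] at hi ⊢
    refine ⟨mem_univ _, ?_⟩
    have hxi : 0 < x i := by
      nlinarith [hi.2, T.m_pos i₀, mul_pos hpos₀ (T.m_pos i)]
    have hterm : ∀ k, T.a i k * (x k * T.m i₀ - x i₀ * T.m k) ≤ 0 := fun k => by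
      by_cases hk : i = k
      · subst hk; rw [sub_eq_zero.mpr hi.2, mul_zero]
      · exact mul_nonpos_of_nonneg_of_nonpos (T.offDiag_nonneg i k hk) (by linarith [hmax k])
    have hsum : ∑ k, T.a i k * (x k * T.m i₀ - x i₀ * T.m k) =
        (∑ k, T.a i k * x k) * T.m i₀ := by
      have e : ∀ k, T.a i k * (x k * T.m i₀ - x i₀ * T.m k) =
          T.a i k * x k * T.m i₀ - x i₀ * (T.a i k * T.m k) := fun k => by ring
      simp only [e, sum_sub_distrib, ← sum_mul, ← mul_sum, row_sum, mul_zero, sub_zero]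
    have hzero : ∑ k, T.a i k * (x k * T.m i₀ - x i₀ * T.m k) = 0 :=
      le_antisymm (sum_nonpos fun k _ => hterm k)
        (hsum ▸ mul_nonneg (h i hxi) (T.m_pos i₀).le)
    have := (sum_eq_zero_iff_of_nonpos fun k _ => hterm k).1 hzero j (mem_univ _)
    rcases mul_eq_zero.1 this with h0 | h0
    · exact absurd h0 hij
    · linarith
  have hall : S = univ := by
    by_contra hne'
    have : S.Nonempty := ⟨i₀, by rw [hS]; exact mem_filter.2 ⟨mem_univ _, rfl⟩⟩
    obtain ⟨i, hi, j, hj, hij⟩ := T.connected S this hne'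
    exact hj (hclosed i hi j hij)
  have heq : ∀ i, x i * T.m i₀ = x i₀ * T.m i := fun i => by
    have : i ∈ S := hall ▸ mem_univ i
    exact (mem_filter.1 this).2
  refine ⟨fun i => ?_, fun i j => ?_, fun i => ?_⟩
  · nlinarith [heq i, T.m_pos i₀, mul_pos hpos₀ (T.m_pos i)]
  · have := T.m_pos i₀
    refine mul_left_cancel₀ this.ne' ?_
    linear_combination T.m j * heq i - T.m i * heq j
  · refine mul_right_cancel₀ (T.m_pos i₀).ne' ?_
    rw [sum_mul, zero_mul]
    have : ∀ j, T.a i j * x j * T.m i₀ = x i₀ * (T.a i j * T.m j) := fun j => by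
      rw [mul_assoc, heq j]; ring
    simp only [this, ← mul_sum, row_sum, mul_zero]

theorem diag_neg (hn : 1 < n) (i : Fin n) : T.a i i < 0 := by
  by_contra hcon
  push Not at hcon
  have h := subharmonic T (fun j => if j = i then 1 else 0) (fun j => by split <;> simp)
    ⟨i, by simp⟩ (fun j hj => ?_)
  · obtain ⟨j, hj⟩ := Fintype.exists_ne_of_one_lt_card (by simpa using hn) i
    simpa [hj] using h.1 j
  · have : j = i := by
      by_contra hne
      simp [hne] at hj
    subst this
    simpa using hcon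

/-- Lower bound for the row sum of a non-negative vector, using only some of its terms. -/
theorem row_ge (x : Fin n → ℤ) (hx : ∀ i, 0 ≤ x i) (i : Fin n) (s : Finset (Fin n)) (hs : i ∉ s) :
    T.a i i * x i + ∑ j ∈ s, T.a i j * x j ≤ ∑ j, T.a i j * x j := by
  rw [← sum_insert hs (f := fun j => T.a i j * x j)]
  refine sum_le_sum_of_subset_of_nonneg (subset_univ _) fun j _ hj => ?_
  exact mul_nonneg (T.offDiag_nonneg i j (by aesop)) (hx j)

/-- If a positive vector kills the `i`-th row and some terms already do so, the other entries vanish. -/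
theorem row_tight (x : Fin n → ℤ) (hx : ∀ i, 0 < x i) (i : Fin n) (s : Finset (Fin n)) (hs : i ∉ s)
    (h0 : ∑ j, T.a i j * x j = 0) (hge : 0 ≤ T.a i i * x i + ∑ j ∈ s, T.a i j * x j) :
    T.a i i * x i + ∑ j ∈ s, T.a i j * x j = 0 ∧ ∀ j, j ∉ s → j ≠ i → T.a i j = 0 := by
  have hle := row_ge T x (fun j => (hx j).le) i s hs
  refine ⟨le_antisymm (h0 ▸ hle) hge, fun j hj hji => ?_⟩
  have hle' := row_ge T x (fun j => (hx j).le) i (insert j s) (by simp [hs, Ne.symm hji])
  rw [sum_insert hj, h0] at hle'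
  have h1 : 0 ≤ T.a i j := T.offDiag_nonneg i j (Ne.symm hji)
  have h2 : T.a i j * x j ≤ 0 := by linarith
  nlinarith [hx j]

theorem a_diag {i : Fin n} (h : T.IsMinusTwo i) : T.a i i = -2 * T.w i := h.2

/-- For a set of `(-2)`-indices in which each row has the listed lower bound, the set is everything. -/
theorem no_config {k : ℕ} (hk : 0 < k) (hkn : k < n) (v : Fin k → Fin n) (hinj : Function.Injective v)
    (hv : ∀ p, T.IsMinusTwo (v p)) (x : Fin k → ℕ) (hx : ∀ p, 0 < x p)
    (nb : Fin k → Finset (Fin k)) (hnb : ∀ p, ∀ q ∈ nb p, p ≠ q ∧ T.a (v p) (v q) ≠ 0)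
    (hrow : ∀ p, 2 * x p ≤ ∑ q ∈ nb p, x q) : False := by
  classical
  let X : Fin n → ℤ := fun i => ∑ p, if v p = i then (x p : ℤ) else 0
  have hXv : ∀ p, X (v p) = x p := fun p => by simp [X, hinj.eq_iff]
  have hX : ∀ i, 0 ≤ X i := fun i => sum_nonneg fun p _ => by split <;> simp
  have hout : ∀ i, (∀ p, v p ≠ i) → X i = 0 := fun i hi => sum_eq_zero fun p _ => by simp [hi p]
  have h := subharmonic T X hX ⟨v ⟨0, hk⟩, by rw [hXv]; exact_mod_cast hx _⟩ (fun i hi => ?_)
  · have hsurj : Function.Surjective v := fun i => by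
      by_contra hc
      exact (h.1 i).ne' (hout i fun p hp => hc ⟨p, hp⟩)
    have := Fintype.card_le_of_surjective v hsurj
    simp at this
    omega
  · obtain ⟨p, rfl⟩ : ∃ p, v p = i := by
      by_contra hc
      exact hi.ne' (hout i fun p hp => hc ⟨p, hp⟩)
    refine le_trans ?_ (row_ge T X hX (v p) ((nb p).image v) ?_)
    · rw [sum_image fun a _ b _ h => hinj h]
      simp only [hXv]
      rw [a_diag T (hv p)]
      have h1 : T.w (v p) * (2 * (x p : ℤ)) ≤ T.w (v p) * ∑ q ∈ nb p, (x q : ℤ) := by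
        refine mul_le_mul_of_nonneg_left ?_ (T.w_pos _).le
        exact_mod_cast hrow p
      have h2 : T.w (v p) * ∑ q ∈ nb p, (x q : ℤ) ≤ ∑ q ∈ nb p, T.a (v p) (v q) * (x q : ℤ) := by
        rw [mul_sum]
        refine sum_le_sum fun q hq => mul_le_mul_of_nonneg_right ?_ (by positivity)
        exact w_le_a T (a_pos T (fun he => (hnb p q hq).1 (hinj he)) (hnb p q hq).2)
      linarith
    · simp only [mem_image, not_exists, not_and]
      exact fun q hq he => (hnb p q hq).1 (hinj he).symm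

end Groth.Agent.NumType
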