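import Groth.Agent.NumType.Affine

/-!
# Classification of numerical types all of whose indices are `(-2)`-indices
-/

namespace Groth.Agent.NumType

open Finset Models

variable {n : ℕ} {T : Models.NumericalType n}

theorem exists_longest (h2 : ∀ i, T.IsMinusTwo i) :
    ∃ (v : ℕ → Fin n) (r : ℕ), IsPath T v r ∧ r < n ∧ ∀ (v' : ℕ → Fin n) (r' : ℕ), IsPath T v' r' → r' ≤ r := by
  classical
  let P : ℕ → Prop := fun r => ∃ v : ℕ → Fin n, IsPath T v r
  have h0 : P 0 := ⟨fun _ => ⟨0, T.pos⟩, fun _ _ => h2 _, fun _ _ _ _ _ => by omega, fun i hi => absurd hi (by omega)⟩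
  obtain ⟨v, hv⟩ : P (Nat.findGreatest P n) := Nat.findGreatest_spec (Nat.zero_le n) h0
  have hb : ∀ (v' : ℕ → Fin n) (r' : ℕ), IsPath T v' r' → r' < n := fun v' r' h' => by
    have := card_le_univ (verts v' r')
    rw [h'.card_verts, Fintype.card_fin] at this
    omega
  exact ⟨v, _, hv, hb _ _ hv, fun v' r' h' => Nat.le_findGreatest (hb _ _ h').le ⟨v', h'⟩⟩

/-- Closure of a set of indices under adjacency gives everything. -/
theorem closed_univ {S : Finset (Fin n)} (hne : S.Nonempty)
    (h : ∀ x ∈ S, ∀ y, 0 < T.a x y → y ∈ S) : ∀ z, z ∈ S := by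
  intro z
  by_contra hz
  obtain ⟨i, hi, j, hj, hij⟩ := T.connected S hne (fun e => hz (e ▸ mem_univ z))
  exact hj (h i hi j (a_pos T (fun e => hj (e ▸ hi)) hij))

theorem isPath_snoc {v : ℕ → Fin n} {r : ℕ} (hv : IsPath T v r) {u : Fin n} (hu : T.IsMinusTwo u)
    (hu' : ∀ k ≤ r, v k ≠ u) (hadj : 0 < T.a (v r) u) :
    IsPath T (fun k => if k ≤ r then v k else u) (r + 1) := by
  refine ⟨fun k hk => ?_, fun k hk l hl he => ?_, fun k hk => ?_⟩
  · beta_reduce; split_ifs with h
    · exact hv.two k h
    · exact hu
  · beta_reduce at he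
    split_ifs at he with e1 e2 e2
    · exact hv.inj k e1 l e2 he
    · exact absurd he (hu' k e1)
    · exact absurd he.symm (hu' l e2)
    · omega
  · beta_reduce
    rw [if_pos (by omega : k ≤ r)]
    split_ifs with e
    · exact hv.adj k (by omega)
    · rwa [show k = r by omega]

/-- Two forks. -/
theorem fork_fork {v : ℕ → Fin n} {r : ℕ} (hv : IsPath T v r) {i j : ℕ} (hi : 0 < i) (hij : i ≤ j)
    (hj : j < r) {x y : Fin n} (hx : T.IsMinusTwo x) (hy : T.IsMinusTwo y) (hx' : ∀ k ≤ r, v k ≠ x)
    (hy' : ∀ k ≤ r, v k ≠ y) (hxy : x ≠ y) (hxa : 0 < T.a (v i) x) (hya : 0 < T.a (v j) y) :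
    AffineShape T := by
  have hs := hv.seg (p := i) (q := j - i) (by omega)
  have e1 : i + (j - i) = j := by omega
  have ha := hv.adj (i - 1) (by omega)
  rw [Nat.sub_add_cancel hi] at ha
  have hb := hv.adj j hj
  have l0 : IsLeaves T (v (i + 0)) (verts (fun k => v (i + k)) (j - i)) {v (i - 1), x} := by
    refine ⟨fun s hs => ?_, fun s hs => ?_, fun s hs he => ?_⟩ <;>
      simp only [mem_insert, mem_singleton] at hs
    · rcases hs with rfl | rfl
      · exact hv.two _ (by omega)
      · exact hx
    · rcases hs with rfl | rfl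
      · exact ha
      · rw [a_symm]; exact hxa
    · obtain ⟨k, hk, e⟩ := mem_verts.1 he
      rcases hs with rfl | rfl
      · exact hv.ne (by omega) (by omega) (by omega) e
      · exact hx' _ (by omega) e
  have l1 : IsLeaves T (v (i + (j - i))) (verts (fun k => v (i + k)) (j - i)) {v (j + 1), y} := by
    refine ⟨fun s hs => ?_, fun s hs => ?_, fun s hs he => ?_⟩ <;>
      simp only [mem_insert, mem_singleton] at hs
    · rcases hs with rfl | rfl
      · exact hv.two _ (by omega)
      · exact hy
    · rw [e1]
      rcases hs with rfl | rfl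
      · rw [a_symm]; exact hb
      · rw [a_symm]; exact hya
    · obtain ⟨k, hk, e⟩ := mem_verts.1 he
      rcases hs with rfl | rfl
      · exact hv.ne (by omega) (by omega) (by omega) e
      · exact hy' _ (by omega) e
  have n0 : v (i - 1) ≠ x := hx' _ (by omega)
  have n1 : v (j + 1) ≠ y := hy' _ (by omega)
  refine shape_of_ends hs l0 l1 ?_ ?_ ?_
  · simp [hv.ne (by omega : i - 1 ≤ r) (by omega : j + 1 ≤ r) (by omega), hy' (i - 1) (by omega),
      (hv.ne (by omega : i - 1 ≤ r) (by omega : j + 1 ≤ r) (by omega)).symm, (hy' (i - 1) (by omega)).symm,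
      (hx' (j + 1) (by omega)).symm, hxy, hx' (j + 1) (by omega), Ne.symm hxy]
  · rw [sumP, sum_pair n0, Nat.add_zero, P_comm T (v i) (v (i - 1))]
    linarith [one_le_P T ha, one_le_P T hxa]
  · rw [sumP, sum_pair n1, e1]
    linarith [one_le_P T hb, one_le_P T hya]

/-- A double edge and a fork. -/
theorem double_fork {v : ℕ → Fin n} {r b : ℕ} {u : Fin n} (hv : IsPath T v r) (hbr : b < r)
    (hu : T.IsMinusTwo u) (hu' : ∀ k ≤ r, v k ≠ u) (hub : 0 < T.a (v b) u) {i : ℕ} (hi : i < b)
    (h : 2 ≤ P T (v i) (v (i + 1))) : AffineShape T := by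
  have hs := hv.seg (p := i + 1) (q := b - i - 1) (by omega)
  have e1 : i + 1 + (b - i - 1) = b := by omega
  have h0 : IsLeaves T (v (i + 1 + 0)) (verts (fun k => v (i + 1 + k)) (b - i - 1)) {v i} :=
    isLeaves_seg hv (by omega) (by omega) (by omega) (hv.adj i (by omega))
  have hne : v (b + 1) ≠ u := hu' _ (by omega)
  have h1 : IsLeaves T (v (i + 1 + (b - i - 1))) (verts (fun k => v (i + 1 + k)) (b - i - 1)) {v (b + 1), u} := by
    refine ⟨fun s hs => ?_, fun s hs => ?_, fun s hs he => ?_⟩ <;>
      simp only [mem_insert, mem_singleton] at hs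
    · rcases hs with rfl | rfl
      · exact hv.two _ (by omega)
      · exact hu
    · rw [e1]
      rcases hs with rfl | rfl
      · rw [a_symm]; exact hv.adj b hbr
      · rwa [a_symm]
    · obtain ⟨k, hk, e⟩ := mem_verts.1 he
      rcases hs with rfl | rfl
      · exact hv.ne (by omega) (by omega) (by omega) e
      · exact hu' _ (by omega) e
  refine shape_of_ends hs h0 h1 ?_ ?_ ?_
  · simp [hv.ne (by omega : i ≤ r) (by omega : b + 1 ≤ r) (by omega), hu' i (by omega)]
  · simpa [sumP, P_comm] using h
  · rw [sumP, sum_pair hne, e1]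
    linarith [one_le_P T (hv.adj b hbr), one_le_P T hub]

/-- A chain through all indices with a single non-simple edge in the position `(3, 2)`. -/
theorem f4_case {v : ℕ → Fin n} (hv : IsPath T v 4) (h : P T (v 2) (v 3) = 2) : AffineShape T := by
  have c1 := fun i (hi : i < 4) => one_le_c_adj hv hi
  have hcase := P_eq_two T (hv.adj 2 (by omega)) h
  let v' : Fin 5 → Fin n := fun p => v p.val
  have hinj : Function.Injective v' := fun p q e => Fin.ext (hv.inj _ (by omega) _ (by omega) e)
  have hnn : ∀ p q : Fin 5, p ≠ q → (0 : ℤ) ≤ c T (v' p) (v' q) := fun p q h => c_nonneg T (hinj.ne h)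
  obtain ⟨a0, b0⟩ := c1 0 (by omega)
  obtain ⟨a1, b1⟩ := c1 1 (by omega)
  obtain ⟨a2, b2⟩ := c1 2 (by omega)
  obtain ⟨a3, b3⟩ := c1 3 (by omega)
  rcases hcase with ⟨hc, -⟩ | ⟨-, hc, -⟩
  · refine .f41 (Exc.mk' (by omega) v' hinj (fun p => hv.two _ (by omega)) xF41 (by decide) clF41 (by decide) ?_ (by decide))
    intro p q hpq
    have := hnn p q hpq
    fin_cases p <;> fin_cases q <;> simp_all [clF41, v']
  · refine .f42 (Exc.mk' (by omega) v' hinj (fun p => hv.two _ (by omega)) xF42 (by decide) clF42 (by decide) ?_ (by decide))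
    intro p q hpq
    have := hnn p q hpq
    fin_cases p <;> fin_cases q <;> simp_all [clF42, v']

theorem exc_of_edges {k : ℕ} (hk : 0 < k) (v : Fin k → Fin n) (hinj : Function.Injective v)
    (hv : ∀ p, T.IsMinusTwo (v p)) (x : Fin k → ℕ) (hx : ∀ p, 0 < x p) (E : List (ℕ × ℕ))
    (hdiag : ∀ p, adjOf k E p p = 0)
    (hE : ∀ p q : Fin k, (p.val, q.val) ∈ E → 0 < T.a (v p) (v q))
    (hrow : ∀ p, 2 * x p ≤ ∑ q, adjOf k E p q * x q) : Exc T x (adjOf k E) :=
  Exc.mk' hk v hinj hv x hx _ hdiag (fun p q hpq => by
    simp only [adjOf]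
    split_ifs with h
    · rcases h with h | h
      · exact_mod_cast one_le_c T (hE p q h)
      · exact_mod_cast one_le_c T (by rw [a_symm]; exact hE q p h)
    · exact_mod_cast c_nonneg T (hinj.ne hpq)) hrow

/-- The branch point case. -/
theorem branch_case (hn : 4 ≤ n) (h2 : ∀ i, T.IsMinusTwo i) {v : ℕ → Fin n} {r : ℕ} (hv : IsPath T v r)
    (hmax : ∀ (v' : ℕ → Fin n) (r' : ℕ), IsPath T v' r' → r' ≤ r)
    (hchord : ∀ i j, i + 2 ≤ j → j ≤ r → T.a (v i) (v j) = 0)
    {b : ℕ} {u : Fin n} (hbr' : b ≤ r) (hu' : ∀ k ≤ r, v k ≠ u) (hub : 0 < T.a (v b) u) : AffineShape T := by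
  classical
  have hb : 0 < b := by
    by_contra h
    obtain rfl : b = 0 := by omega
    have := hmax _ _ (isPath_snoc hv.rev (h2 u) (fun k _ => hu' _ (by omega)) (by simpa using hub))
    omega
  have hbr : b < r := by
    by_contra h
    obtain rfl : b = r := by omega
    have := hmax _ _ (isPath_snoc hv (h2 u) hu' hub)
    omega
  have hadj := hv.adj (b - 1) (by omega)
  rw [Nat.sub_add_cancel hb] at hadj
  have hpm : v (b - 1) ≠ v (b + 1) := hv.ne (by omega) (by omega) (by omega)
  have hmu : v (b - 1) ≠ u := hu' _ (by omega)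
  have hpu : v (b + 1) ≠ u := hu' _ (by omega)
  have pm := one_le_P T hadj
  rw [P_comm] at pm
  have pp := one_le_P T (hv.adj b hbr)
  have pu := one_le_P T hub
  -- one of the three edges at the branch point is not simple
  by_cases hbig : 4 ≤ P T (v b) (v (b - 1)) + P T (v b) (v (b + 1)) + P T (v b) u
  · have hm_mem : v (b - 1) ∉ ({v (b + 1), u} : Finset (Fin n)) := by simp [hpm, hmu]
    have hstar := star_card (T := T) (u := v b) (S := {v (b - 1), v (b + 1), u}) (h2 _) (fun s hs => by
      simp only [mem_insert, mem_singleton] at hs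
      rcases hs with rfl | rfl | rfl
      · exact ⟨h2 _, hadj⟩
      · exact ⟨h2 _, by rw [a_symm]; exact hv.adj b hbr⟩
      · exact ⟨h2 _, by rw [a_symm]; exact hub⟩)
      (by rw [sumP, sum_insert hm_mem, sum_pair hpu]; linarith)
    rw [card_insert_of_notMem hm_mem, card_pair hpu] at hstar
    -- pick out the non-simple one
    have key : ∀ x y z : Fin n, x ≠ y → x ≠ z → y ≠ z → v b ≠ x → v b ≠ y → v b ≠ z →
        0 < T.a (v b) x → 0 < T.a (v b) y → 0 < T.a (v b) z → 2 ≤ P T (v b) x → AffineShape T := by
      intro x y z hxy hxz hyz bx by' bz ax ay az hP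
      have hp0 : IsPath T (fun _ => v b) 0 :=
        ⟨fun _ _ => h2 _, fun _ _ _ _ _ => by omega, fun i hi => absurd hi (by omega)⟩
      have l0 : IsLeaves T (v b) (verts (fun _ : ℕ => v b) 0) {x} := by
        refine ⟨fun s _ => h2 _, fun s hs => ?_, fun s hs he => ?_⟩ <;> rw [mem_singleton.1 hs] at *
        · rwa [a_symm]
        · obtain ⟨_, _, e⟩ := mem_verts.1 he; exact bx e
      have l1 : IsLeaves T (v b) (verts (fun _ : ℕ => v b) 0) {y, z} := by
        refine ⟨fun s _ => h2 _, fun s hs => ?_, fun s hs he => ?_⟩ <;>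
          simp only [mem_insert, mem_singleton] at hs
        · rcases hs with rfl | rfl <;> rwa [a_symm]
        · obtain ⟨_, _, e⟩ := mem_verts.1 he
          rcases hs with rfl | rfl
          · exact by' e
          · exact bz e
      refine shape_of_ends hp0 l0 l1 (by simp [hxy, hxz]) (by simpa [sumP] using hP) ?_
      rw [sumP, sum_pair hyz]
      linarith [one_le_P T ay, one_le_P T az]
    have bm : v b ≠ v (b - 1) := hv.ne (by omega) (by omega) (by omega)
    have bp : v b ≠ v (b + 1) := hv.ne (by omega) (by omega) (by omega)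
    have bu : v b ≠ u := hu' _ hbr'
    have am : 0 < T.a (v b) (v (b - 1)) := by rw [a_symm]; exact hadj
    have ap := hv.adj b hbr
    rcases (show 2 ≤ P T (v b) (v (b - 1)) ∨ 2 ≤ P T (v b) (v (b + 1)) ∨ 2 ≤ P T (v b) u by omega) with h | h | h
    · exact key _ _ _ hpm hmu hpu bm bp bu am ap hub h
    · exact key _ _ _ hpm.symm hpu hmu bp bm bu ap am hub h
    · exact key _ _ _ hmu.symm hpu.symm hpm bu bm bp hub am ap h
  -- another edge leaving the path
  by_cases hext : ∃ i ≤ r, ∃ x, (∀ k ≤ r, v k ≠ x) ∧ 0 < T.a (v i) x ∧ ¬ (i = b ∧ x = u)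
  · obtain ⟨i, hi, x, hx', hxa, hne⟩ := hext
    have hi0 : 0 < i := by
      by_contra h
      obtain rfl : i = 0 := by omega
      have := hmax _ _ (isPath_snoc hv.rev (h2 x) (fun k _ => hx' _ (by omega)) (by simpa using hxa))
      omega
    have hir : i < r := by
      by_contra h
      obtain rfl : i = r := by omega
      have := hmax _ _ (isPath_snoc hv (h2 x) hx' hxa)
      omega
    by_cases hxu : x = u
    · subst hxu
      have hib : i ≠ b := fun e => hne ⟨e, rfl⟩
      rcases lt_or_gt_of_ne hib with h | h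
      · refine shape_of_cycle (isPath_snoc (hv.seg (p := i) (q := b - i) (by omega)) (h2 x)
          (fun k hk => hu' _ (by omega)) (by rw [show i + (b - i) = b by omega]; exact hub)) (by omega) ?_
        simpa using hxa
      · refine shape_of_cycle (isPath_snoc (hv.seg (p := b) (q := i - b) (by omega)) (h2 x)
          (fun k hk => hu' _ (by omega)) (by rw [show b + (i - b) = i by omega]; exact hxa)) (by omega) ?_
        simpa using hub
    · rcases le_total i b with h | h
      · exact fork_fork hv hi0 h hbr (h2 x) (h2 u) hx' hu' hxu hxa hub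
      · exact fork_fork hv hb h hir (h2 u) (h2 x) hu' hx' (Ne.symm hxu) hub hxa
  push Not at hext
  -- a non-simple edge on the path
  by_cases hdbl : ∃ i < r, 2 ≤ P T (v i) (v (i + 1))
  · obtain ⟨i, hi, h⟩ := hdbl
    rcases lt_or_ge i b with h' | h'
    · exact double_fork hv hbr (h2 u) hu' hub h' h
    · refine double_fork hv.rev (b := r - b) (by omega) (h2 u) (fun k _ => hu' _ (by omega))
        (by rw [Nat.sub_sub_self hbr.le]; exact hub) (i := r - (i + 1)) ?_ ?_
      · omega
      · rw [show r - (r - (i + 1)) = i + 1 by omega, show r - (r - (i + 1) + 1) = i by omega, P_comm]; exact h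
  push Not at hdbl
  have hs : ∀ i < r, P T (v i) (v (i + 1)) = 1 := fun i hi => by
    have := one_le_P T (hv.adj i hi)
    have := hdbl i hi
    omega
  have hsu : P T (v b) u = 1 := by omega
  obtain ⟨hau, hwu⟩ := P_eq_one T hub hsu
  obtain ⟨hw, ha⟩ := w_seg hv (p := 0) (q := r) le_rfl (fun i _ hi => hs i hi)
  set W := T.w (v 0)
  -- the third arm
  by_cases hlong : ∃ x, x ≠ v b ∧ 0 < T.a u x
  · obtain ⟨x, hxb, hxa⟩ := hlong
    have hx' : ∀ k ≤ r, v k ≠ x := fun k hk e => by
      subst e
      exact hxb (congrArg v (hext k hk u hu' (by rwa [a_symm])).1)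
    have hxu : x ≠ u := (ne_of_two_pos (h2 u) hxa).symm
    -- arms of length at least two
    have long : ∀ {v : ℕ → Fin n} {b : ℕ}, IsPath T v r → b ≤ r → (∀ k ≤ r, v k ≠ x) → (∀ k ≤ r, v k ≠ u) →
        0 < T.a (v b) u → 2 ≤ b := by
      intro v b hv hb hx' hu' hub
      have p := isPath_snoc (hv.seg (p := b) (q := r - b) (by omega)).rev (h2 u) (fun k _ => hu' _ (by omega))
        (by simpa [show b + 0 = b by omega] using hub)
      have p' := isPath_snoc p (h2 x) (fun k hk => ?_) (by simp; exact hxa)
      · have := hmax _ _ p'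
        omega
      · beta_reduce
        split_ifs with e
        · exact hx' _ (by omega)
        · exact hxu.symm
    have hb2 := long hv hbr' hx' hu' hub
    have hb2' := long hv.rev (b := r - b) (by omega) (fun k _ => hx' _ (by omega)) (fun k _ => hu' _ (by omega))
      (by rw [Nat.sub_sub_self hbr.le]; exact hub)
    let w : Fin 7 → Fin n := ![v (b - 2), v (b - 1), v b, v (b + 2), v (b + 1), x, u]
    have hinj : Function.Injective w := by
      have e := fun p q (hp : p ≤ r) (hq : q ≤ r) (h : p ≠ q) => hv.ne hp hq h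
      intro p q hpq
      fin_cases p <;> fin_cases q <;> first | rfl | (exfalso; simp only [w] at hpq; revert hpq; simp) <;>
        first
          | exact e _ _ (by omega) (by omega) (by omega)
          | exact hu' _ (by omega)
          | exact hx' _ (by omega)
          | exact (hu' _ (by omega)).symm
          | exact (hx' _ (by omega)).symm
          | exact hxu
          | exact hxu.symm
    refine .e6 (exc_of_edges (by omega) w hinj (fun p => h2 _) xE6 (by decide) eE6 (by decide) ?_ (by decide))
    intro p q hpq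
    have a1 := hv.adj (b - 2) (by omega)
    rw [show b - 2 + 1 = b - 1 by omega] at a1
    have a4 := hv.adj (b + 1) (by omega)
    have a3 := hv.adj b hbr
    rw [a_symm] at a3 a4
    rw [a_symm] at hxa
    have hub' : 0 < T.a u (v b) := by rwa [a_symm]
    fin_cases p <;> fin_cases q <;> simp [eE6] at hpq <;> simp [w] <;> first | assumption | (rw [a_symm]; assumption)
  push Not at hlong
  -- everything is visible
  have hall : ∀ z, z ∈ insert u (verts v r) := closed_univ ⟨u, mem_insert_self _ _⟩ fun y hy z hz => by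
    rcases mem_insert.1 hy with rfl | hy
    · by_cases e : z = v b
      · exact mem_insert_of_mem (mem_verts.2 ⟨b, hbr', e.symm⟩)
      · exact absurd hz (not_lt.2 (hlong z e))
    · obtain ⟨i, hi, rfl⟩ := mem_verts.1 hy
      by_cases e : ∃ k ≤ r, v k = z
      · exact mem_insert_of_mem (mem_verts.2 e)
      · push Not at e
        rw [(hext i hi z e hz).2]
        exact mem_insert_self _ _
  have zout : ∀ i ≤ r, i ≠ b → T.a (v i) u = 0 := fun i hi hib => by
    by_contra h
    exact hib (hext i hi u hu' (a_pos T (hu' i hi) h)).1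
  have huniv : (univ : Finset (Fin n)) = insert u (verts v r) := (eq_univ_of_forall hall).symm
  have hunot : u ∉ verts v r := fun h => by
    obtain ⟨k, hk, e⟩ := mem_verts.1 h; exact hu' k hk e
  have hrow : ∀ i, T.a i u * T.m u + ∑ k ∈ range (r + 1), T.a i (v k) * T.m (v k) = 0 := fun i => by
    rw [← row_sum T i, huniv, sum_insert hunot, verts, sum_image]
    intro p hp q hq e
    simp only [coe_range, Set.mem_Iio] at hp hq
    exact hv.inj p (by omega) q (by omega) e
  have hW : ∀ i ≤ r, T.w (v i) = W := fun i hi => hw i (Nat.zero_le _) hi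
  have aE : ∀ i < r, T.a (v i) (v (i + 1)) = W := fun i hi => ha i (Nat.zero_le _) hi
  have hwW : T.w u = W := by rw [hwu, hW b hbr']
  have haW : T.a (v b) u = W := by rw [hau, hW b hbr']
  -- the three-term recursions
  have rowv : ∀ i ≤ r, 2 * T.m (v i) = (if i = 0 then 0 else T.m (v (i - 1))) +
      (if i = r then 0 else T.m (v (i + 1))) + (if i = b then T.m u else 0) := fun i hi => by
    have h := hrow (v i)
    have e : ∀ k ∈ range (r + 1), T.a (v i) (v k) * T.m (v k) =
        (if k = i then -2 * W * T.m (v i) else 0) + (if k + 1 = i then W * T.m (v k) else 0) +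
          (if k = i + 1 then W * T.m (v k) else 0) := fun k hk => by
      have hk' : k ≤ r := by simpa [Nat.lt_succ_iff] using hk
      rcases lt_trichotomy k i with e | rfl | e
      · rw [if_neg e.ne, if_neg (by omega : ¬ k = i + 1)]
        by_cases e' : k + 1 = i
        · rw [if_pos e', ← e', a_symm, aE k (by omega)]; ring
        · rw [if_neg e', a_symm, hchord k i (by omega) hi]; ring
      · rw [if_pos rfl, if_neg (by omega), if_neg (by omega), a_diag T (h2 _), hW k hk']; ring
      · rw [if_neg e.ne', if_neg (by omega : ¬ k + 1 = i)]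
        by_cases e' : k = i + 1
        · rw [if_pos e', e', aE i (by omega)]; ring
        · rw [if_neg e', hchord i k (by omega) hk']; ring
    have eu : T.a (v i) u * T.m u = if i = b then W * T.m u else 0 := by
      by_cases e' : i = b
      · rw [if_pos e', e', haW]
      · rw [if_neg e', zout i hi e']; ring
    have ep : ∑ k ∈ range (r + 1), (if k + 1 = i then W * T.m (v k) else 0) =
        if i = 0 then 0 else W * T.m (v (i - 1)) := by
      rcases Nat.eq_zero_or_pos i with rfl | hi0
      · simp
      · rw [sum_eq_single (i - 1)]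
        · rw [if_pos (Nat.sub_add_cancel hi0), if_neg (by omega)]
        · intro k _ hk; rw [if_neg (by omega)]
        · simp; omega
    have en : ∑ k ∈ range (r + 1), (if k = i + 1 then W * T.m (v k) else 0) =
        if i = r then 0 else W * T.m (v (i + 1)) := by
      rw [sum_ite_eq' (range (r + 1)) (i + 1) (fun k => W * T.m (v k))]
      rcases eq_or_lt_of_le hi with rfl | hi'
      · simp
      · rw [if_pos (mem_range.2 (by omega)), if_neg hi'.ne]
    rw [sum_congr rfl e, sum_add_distrib, sum_add_distrib, ep, en, eu,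
      sum_ite_eq' (range (r + 1)) i (fun _ => -2 * W * T.m (v i)), if_pos (mem_range.2 (by omega))] at h
    refine mul_left_cancel₀ (show W ≠ 0 from (T.w_pos _).ne') ?_
    split_ifs at h ⊢ <;> linarith
  have hleft : ∀ i ≤ b, T.m (v i) = (i + 1) * T.m (v 0) := fun i => by
    induction i using Nat.strong_induction_on with
    | _ i ih =>
      intro hi
      match i with
      | 0 => simp
      | 1 =>
        have := rowv 0 (Nat.zero_le _)
        rw [if_pos rfl, if_neg (by omega), if_neg (by omega)] at this
        push_cast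
        linarith
      | i + 2 =>
        have := rowv (i + 1) (by omega)
        rw [if_neg (by omega : ¬ i + 1 = 0), if_neg (by omega), if_neg (by omega), Nat.add_sub_cancel,
          ih i (by omega) (by omega), ih (i + 1) (by omega) (by omega)] at this
        push_cast at this ⊢
        rw [show i + 1 + 1 = i + 2 from rfl] at this
        linarith
  have hright : ∀ i ≤ r - b, T.m (v (r - i)) = (i + 1) * T.m (v r) := fun i => by
    induction i using Nat.strong_induction_on with
    | _ i ih =>
      intro hi
      match i with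
      | 0 => simp
      | 1 =>
        have := rowv r le_rfl
        rw [if_neg (by omega), if_pos rfl, if_neg (by omega)] at this
        push_cast
        linarith
      | i + 2 =>
        have := rowv (r - (i + 1)) (by omega)
        rw [if_neg (by omega : ¬ r - (i + 1) = 0), if_neg (by omega), if_neg (by omega),
          show r - (i + 1) - 1 = r - (i + 2) by omega, show r - (i + 1) + 1 = r - i by omega,
          ih i (by omega) (by omega), ih (i + 1) (by omega) (by omega)] at this
        push_cast at this ⊢
        linarith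
  have hu_row : 2 * T.m u = T.m (v b) := by
    have h := hrow u
    rw [sum_eq_single b, a_diag T (h2 u), hwW, a_symm T u (v b), haW] at h
    · have := T.w_pos (v 0)
      nlinarith
    · intro k hk hkb
      rw [a_symm, zout k (by simpa [Nat.lt_succ_iff] using hk) hkb]; ring
    · simp; omega
  obtain ⟨l, rfl⟩ : ∃ l, r = b + l := ⟨r - b, by omega⟩
  have hmid := rowv b hbr'
  rw [if_neg (by omega), if_neg (by omega), if_pos rfl, hleft (b - 1) (by omega),
    show b + 1 = b + l - (l - 1) by omega, hright (l - 1) (by omega), hleft b le_rfl] at hmid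
  have hmb := hright l (by omega)
  rw [show b + l - l = b by omega, hleft b le_rfl] at hmb
  have hmu' := hu_row
  rw [hleft b le_rfl] at hmu'
  push_cast [Nat.cast_sub (by omega : 1 ≤ b), Nat.cast_sub (by omega : 1 ≤ l)] at hmid
  have hα := T.m_pos (v 0)
  have hfac : ((b : ℤ) - 1) * ((l : ℤ) - 1) = 4 := by
    refine mul_right_cancel₀ hα.ne' ?_
    linear_combination (2 * (l : ℤ)) * hmb - (((l : ℤ) + 1)) * (2 * hmid + hmu')
  have hl1 : 1 ≤ l := by omega
  have hfac' : (b - 1) * (l - 1) = 4 := by
    zify [hb, hl1]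
    exact_mod_cast hfac
  have hcases : b = 2 ∧ l = 5 ∨ b = 3 ∧ l = 3 ∨ b = 5 ∧ l = 2 := by
    have hb5 : b - 1 ≤ 4 := Nat.le_of_dvd (by omega) ⟨l - 1, hfac'.symm⟩
    rcases (show b = 1 ∨ b = 2 ∨ b = 3 ∨ b = 4 ∨ b = 5 by omega) with rfl | rfl | rfl | rfl | rfl <;>
      omega
  have adjs : ∀ i < b + l, 0 < T.a (v i) (v (i + 1)) := hv.adj
  rcases hcases with ⟨rfl, rfl⟩ | ⟨rfl, rfl⟩ | ⟨rfl, rfl⟩
  · let w : Fin 9 → Fin n := ![v 7, v 6, v 5, v 4, v 3, v 2, v 1, v 0, u]
    have hinj : Function.Injective w := by
      intro p q hpq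
      fin_cases p <;> fin_cases q <;> first | rfl | (exfalso; simp only [w] at hpq; revert hpq; simp) <;>
        first | exact hv.ne (by omega) (by omega) (by omega) | exact hu' _ (by omega) | exact (hu' _ (by omega)).symm
    refine .e8 (exc_of_edges (by omega) w hinj (fun p => h2 _) xE8 (by decide) eE8 (by decide) ?_ (by decide))
    intro p q hpq
    have hub' : 0 < T.a u (v 2) := by rwa [a_symm]
    have := adjs 0 (by omega); have := adjs 1 (by omega); have := adjs 2 (by omega); have := adjs 3 (by omega)
    have := adjs 4 (by omega); have := adjs 5 (by omega); have := adjs 6 (by omega)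
    fin_cases p <;> fin_cases q <;> simp [eE8] at hpq <;> simp [w] <;> first | assumption | (rw [a_symm]; assumption)
  · let w : Fin 8 → Fin n := ![v 0, v 1, v 2, v 3, v 4, v 5, v 6, u]
    have hinj : Function.Injective w := by
      intro p q hpq
      fin_cases p <;> fin_cases q <;> first | rfl | (exfalso; simp only [w] at hpq; revert hpq; simp) <;>
        first | exact hv.ne (by omega) (by omega) (by omega) | exact hu' _ (by omega) | exact (hu' _ (by omega)).symm
    refine .e7 (exc_of_edges (by omega) w hinj (fun p => h2 _) xE7 (by decide) eE7 (by decide) ?_ (by decide))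
    intro p q hpq
    have := adjs 0 (by omega); have := adjs 1 (by omega); have := adjs 2 (by omega); have := adjs 3 (by omega)
    have := adjs 4 (by omega); have := adjs 5 (by omega)
    fin_cases p <;> fin_cases q <;> simp [eE7] at hpq <;> simp [w] <;> first | assumption | (rw [a_symm]; assumption)
  · let w : Fin 9 → Fin n := ![v 0, v 1, v 2, v 3, v 4, v 5, v 6, v 7, u]
    have hinj : Function.Injective w := by
      intro p q hpq
      fin_cases p <;> fin_cases q <;> first | rfl | (exfalso; simp only [w] at hpq; revert hpq; simp) <;>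
        first | exact hv.ne (by omega) (by omega) (by omega) | exact hu' _ (by omega) | exact (hu' _ (by omega)).symm
    refine .e8 (exc_of_edges (by omega) w hinj (fun p => h2 _) xE8 (by decide) eE8 (by decide) ?_ (by decide))
    intro p q hpq
    have := adjs 0 (by omega); have := adjs 1 (by omega); have := adjs 2 (by omega); have := adjs 3 (by omega)
    have := adjs 4 (by omega); have := adjs 5 (by omega); have := adjs 6 (by omega)
    fin_cases p <;> fin_cases q <;> simp [eE8] at hpq <;> simp [w] <;> first | assumption | (rw [a_symm]; assumption)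

/-- The case of a chain through all indices. -/
theorem chain_case (hn : 4 ≤ n) (h2 : ∀ i, T.IsMinusTwo i) {v : ℕ → Fin n} {r : ℕ} (hv : IsPath T v r)
    (hr : r + 1 = n) (hchord : ∀ i j, i + 2 ≤ j → j ≤ r → T.a (v i) (v j) = 0) : AffineShape T := by
  classical
  have hP : ∀ i < r, P T (v i) (v (i + 1)) = 1 ∨ P T (v i) (v (i + 1)) = 2 := fun i hi => by
    have h1 := one_le_P T (hv.adj i hi)
    rcases lt_or_ge (i + 1) r with e | e
    · have := two_le_three (hv.ne (by omega) (by omega) (by omega : i ≠ i + 1 + 1)) (h2 _) (h2 (v (i + 1)))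
        (h2 (v (i + 1 + 1))) (hv.adj i hi) (hv.adj (i + 1) e) (by omega)
      have := one_le_P T (hv.adj (i + 1) e)
      omega
    · have hadj := hv.adj (i - 1) (by omega)
      rw [Nat.sub_add_cancel (by omega : 1 ≤ i)] at hadj
      have := two_le_three (hv.ne (by omega) (by omega) (by omega : i - 1 ≠ i + 1)) (h2 _) (h2 (v i))
        (h2 (v (i + 1))) hadj (hv.adj i hi) (by omega)
      have := one_le_P T hadj
      omega
  by_cases htwo : ∃ i j, i < j ∧ j < r ∧ P T (v i) (v (i + 1)) = 2 ∧ P T (v j) (v (j + 1)) = 2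
  · obtain ⟨i, j, hij, hj, hi2, hj2⟩ := htwo
    have hs := hv.seg (p := i + 1) (q := j - i - 1) (by omega)
    have e1 : i + 1 + (j - i - 1) = j := by omega
    have h0 : IsLeaves T (v (i + 1 + 0)) (verts (fun k => v (i + 1 + k)) (j - i - 1)) {v i} :=
      isLeaves_seg hv (by omega) (by omega) (by omega) (hv.adj i (by omega))
    have h1 : IsLeaves T (v (i + 1 + (j - i - 1))) (verts (fun k => v (i + 1 + k)) (j - i - 1)) {v (j + 1)} :=
      isLeaves_seg hv (by omega) (by omega) (by omega) (by rw [e1, a_symm]; exact hv.adj j hj)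
    exact shape_of_ends hs h0 h1 (by simpa using hv.ne (by omega) (by omega) (by omega : i ≠ j + 1))
      (le_of_eq (by simpa [sumP, P_comm] using hi2.symm)) (le_of_eq (by simpa [sumP, e1] using hj2.symm))
  push Not at htwo
  have huniv : verts v r = univ := by
    refine eq_univ_of_card _ ?_
    rw [hv.card_verts, Fintype.card_fin, hr]
  have rowv : ∀ i ≤ r, 2 * T.m (v i) = (if i = 0 then 0 else c T (v i) (v (i - 1)) * T.m (v (i - 1))) +
      (if i = r then 0 else c T (v i) (v (i + 1)) * T.m (v (i + 1))) := fun i hi => by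
    have h := row_sum T (v i)
    rw [← huniv, verts, sum_image (fun p hp q hq e => hv.inj p (by simp at hp; omega) q (by simp at hq; omega) e)] at h
    have e : ∀ k ∈ range (r + 1), T.a (v i) (v k) * T.m (v k) =
        (if k = i then -2 * T.w (v i) * T.m (v i) else 0) +
          (if k + 1 = i then T.w (v i) * c T (v i) (v k) * T.m (v k) else 0) +
          (if k = i + 1 then T.w (v i) * c T (v i) (v k) * T.m (v k) else 0) := fun k hk => by
      have hk' : k ≤ r := by simpa [Nat.lt_succ_iff] using hk
      rw [w_mul_c]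
      rcases lt_trichotomy k i with e | rfl | e
      · rw [if_neg e.ne, if_neg (by omega : ¬ k = i + 1)]
        by_cases e' : k + 1 = i
        · rw [if_pos e']; ring
        · rw [if_neg e', a_symm, hchord k i (by omega) hi]; ring
      · rw [if_pos rfl, if_neg (by omega), if_neg (by omega), a_diag T (h2 _)]; ring
      · rw [if_neg e.ne', if_neg (by omega : ¬ k + 1 = i)]
        by_cases e' : k = i + 1
        · rw [if_pos e']; ring
        · rw [if_neg e', hchord i k (by omega) hk']; ring
    have ep : ∑ k ∈ range (r + 1), (if k + 1 = i then T.w (v i) * c T (v i) (v k) * T.m (v k) else 0) =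
        if i = 0 then 0 else T.w (v i) * c T (v i) (v (i - 1)) * T.m (v (i - 1)) := by
      rcases Nat.eq_zero_or_pos i with rfl | hi0
      · simp
      · rw [sum_eq_single (i - 1)]
        · rw [if_pos (Nat.sub_add_cancel hi0), if_neg (by omega)]
        · intro k _ hk; rw [if_neg (by omega)]
        · simp; omega
    have en : ∑ k ∈ range (r + 1), (if k = i + 1 then T.w (v i) * c T (v i) (v k) * T.m (v k) else 0) =
        if i = r then 0 else T.w (v i) * c T (v i) (v (i + 1)) * T.m (v (i + 1)) := by
      rw [sum_ite_eq' (range (r + 1)) (i + 1) (fun k => T.w (v i) * c T (v i) (v k) * T.m (v k))]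
      rcases eq_or_lt_of_le hi with rfl | hi'
      · simp
      · rw [if_pos (mem_range.2 (by omega)), if_neg hi'.ne]
    rw [sum_congr rfl e, sum_add_distrib, sum_add_distrib, ep, en,
      sum_ite_eq' (range (r + 1)) i (fun _ => -2 * T.w (v i) * T.m (v i)), if_pos (mem_range.2 (by omega))] at h
    refine mul_left_cancel₀ (T.w_pos (v i)).ne' ?_
    split_ifs at h ⊢ <;> linarith
  have hc1 : ∀ i < r, P T (v i) (v (i + 1)) = 1 → c T (v i) (v (i + 1)) = 1 ∧ c T (v (i + 1)) (v i) = 1 :=
    fun i hi h => by
      obtain ⟨a1, a2⟩ := one_le_c_adj hv hi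
      unfold P at h
      constructor <;> nlinarith
  -- linear growth up to the first non-simple edge, on each side
  have grow : ∀ {v : ℕ → Fin n}, (∀ i ≤ r, 2 * T.m (v i) = (if i = 0 then 0 else c T (v i) (v (i - 1)) * T.m (v (i - 1))) +
      (if i = r then 0 else c T (v i) (v (i + 1)) * T.m (v (i + 1)))) → ∀ p ≤ r,
      (∀ i < p, c T (v i) (v (i + 1)) = 1 ∧ c T (v (i + 1)) (v i) = 1) → ∀ i ≤ p, T.m (v i) = (i + 1) * T.m (v 0) := by
    intro v rowv p hp hs i
    induction i using Nat.strong_induction_on with
    | _ i ih =>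
      intro hi
      match i with
      | 0 => simp
      | 1 =>
        have := rowv 0 (Nat.zero_le _)
        rw [if_pos rfl, if_neg (by omega), (hs 0 (by omega)).1] at this
        push_cast
        linarith
      | i + 2 =>
        have := rowv (i + 1) (by omega)
        rw [if_neg (by omega : ¬ i + 1 = 0), if_neg (by omega), Nat.add_sub_cancel,
          (hs i (by omega)).2, (hs (i + 1) (by omega)).1,
          ih i (by omega) (by omega), ih (i + 1) (by omega) (by omega)] at this
        push_cast at this ⊢
        rw [show i + 1 + 1 = i + 2 from rfl] at this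
        linarith
  by_cases hone : ∃ i < r, P T (v i) (v (i + 1)) = 2
  · obtain ⟨i, hi, hi2⟩ := hone
    have ho : ∀ j < r, j ≠ i → P T (v j) (v (j + 1)) = 1 := fun j hj hne => (hP j hj).resolve_right fun h => by
      rcases lt_or_gt_of_ne hne with e | e
      · exact htwo j i e hi h hi2
      · exact htwo i j e hj hi2 h
    obtain ⟨l, rfl⟩ : ∃ l, r = i + 1 + l := ⟨r - i - 1, by omega⟩
    have hL := grow rowv i (by omega) (fun j hj => hc1 j (by omega) (ho j (by omega) (by omega)))
    have rowv' : ∀ j ≤ i + 1 + l, 2 * T.m (v (i + 1 + l - j)) =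
        (if j = 0 then 0 else c T (v (i + 1 + l - j)) (v (i + 1 + l - (j - 1))) * T.m (v (i + 1 + l - (j - 1)))) +
        (if j = i + 1 + l then 0 else c T (v (i + 1 + l - j)) (v (i + 1 + l - (j + 1))) * T.m (v (i + 1 + l - (j + 1)))) :=
      fun j hj => by
        rcases Nat.eq_zero_or_pos j with rfl | hj0
        · have := rowv (i + 1 + l) le_rfl
          rw [if_neg (by omega), if_pos rfl] at this
          simp only [Nat.sub_zero, zero_add, ↓reduceIte]
          rw [if_neg (by omega)]
          linarith
        rcases eq_or_lt_of_le hj with rfl | hj'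
        · have := rowv 0 (Nat.zero_le _)
          rw [if_pos rfl, if_neg (by omega)] at this
          rw [Nat.sub_self, if_neg (by omega), if_pos rfl, show i + 1 + l - (i + 1 + l - 1) = 0 + 1 by omega]
          linarith
        · have := rowv (i + 1 + l - j) (by omega)
          rw [if_neg (by omega), if_neg (by omega)] at this
          rw [if_neg (by omega), if_neg (by omega), show i + 1 + l - (j - 1) = i + 1 + l - j + 1 by omega,
            show i + 1 + l - (j + 1) = i + 1 + l - j - 1 by omega]
          linarith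
    have hR := grow (v := fun j => v (i + 1 + l - j)) rowv' l (by omega) (fun j hj => by
      have := hc1 (i + 1 + l - (j + 1)) (by omega) (ho _ (by omega) (by omega))
      rw [show i + 1 + l - (j + 1) + 1 = i + 1 + l - j by omega] at this
      exact ⟨this.2, this.1⟩)
    have e1 := rowv i (by omega)
    have e2 := rowv (i + 1) (by omega)
    rw [if_neg (by omega : ¬ i = i + 1 + l)] at e1
    rw [if_neg (by omega : ¬ i + 1 = 0), Nat.add_sub_cancel] at e2
    have hr' := hR l le_rfl
    simp only [Nat.add_sub_cancel] at hr'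
    have hl := hL i le_rfl
    set α := T.m (v 0)
    set β := T.m (v (i + 1 + l - 0))
    set q := c T (v i) (v (i + 1))
    set q' := c T (v (i + 1)) (v i)
    have hqq : q * q' = 2 := hi2
    have f1 : ((i : ℤ) + 2) * α = q * ((l + 1) * β) := by
      rcases Nat.eq_zero_or_pos i with rfl | e
      · rw [if_pos rfl, hr'] at e1
        push_cast
        linarith
      · rw [if_neg (by omega), hl, hr', hL (i - 1) (by omega)] at e1
        have := hc1 (i - 1) (by omega) (ho (i - 1) (by omega) (by omega))
        rw [Nat.sub_add_cancel e] at this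
        rw [this.2] at e1
        push_cast [Nat.cast_sub (by omega : 1 ≤ i)] at e1
        linarith
    have f2 : ((l : ℤ) + 2) * β = q' * ((i + 1) * α) := by
      rcases Nat.eq_zero_or_pos l with rfl | e
      · rw [if_pos (by omega), hr', hl] at e2
        push_cast at e2 ⊢
        linarith
      · rw [if_neg (by omega), hl, hr', show i + 1 + 1 = i + 1 + l - (l - 1) by omega] at e2
        have h3 := hR (l - 1) (by omega)
        beta_reduce at h3
        rw [h3] at e2
        have := hc1 (i + 1) (by omega) (ho (i + 1) (by omega) (by omega))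
        rw [show i + 1 + 1 = i + 1 + l - (l - 1) by omega] at this
        rw [this.1] at e2
        push_cast [Nat.cast_sub (by omega : 1 ≤ l)] at e2
        linarith
    have hα := T.m_pos (v 0)
    have hβ := T.m_pos (v (i + 1 + l - 0))
    have hfac : ((i : ℤ) + 2) * ((l : ℤ) + 2) = 2 * ((l + 1) * (i + 1)) := by
      refine mul_right_cancel₀ (mul_pos hα hβ).ne' ?_
      calc ((i : ℤ) + 2) * ((l : ℤ) + 2) * (α * β) = (((i : ℤ) + 2) * α) * (((l : ℤ) + 2) * β) := by ring
        _ = (q * ((l + 1) * β)) * (q' * ((i + 1) * α)) := by rw [f1, f2]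
        _ = (q * q') * ((l + 1) * (i + 1)) * (α * β) := by ring
        _ = 2 * ((l + 1) * (i + 1)) * (α * β) := by rw [hqq]
    have hfac' : i * l = 2 := by
      have : (i : ℤ) * l = 2 := by linarith
      exact_mod_cast this
    have hi4 : i ≤ 2 := Nat.le_of_dvd (by omega) ⟨l, hfac'.symm⟩
    rcases (show i = 1 ∧ l = 2 ∨ i = 2 ∧ l = 1 by
      rcases (show i = 0 ∨ i = 1 ∨ i = 2 by omega) with rfl | rfl | rfl <;> omega) with ⟨rfl, rfl⟩ | ⟨rfl, rfl⟩
    · refine f4_case hv.rev ?_
      show P T (v (4 - 2)) (v (4 - 3)) = 2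
      rw [P_comm]; exact hi2
    · exact f4_case hv hi2
  · push Not at hone
    have hs : ∀ i < r, c T (v i) (v (i + 1)) = 1 ∧ c T (v (i + 1)) (v i) = 1 := fun i hi =>
      hc1 i hi ((hP i hi).resolve_right (hone i hi))
    have hL := grow rowv r le_rfl hs
    have := rowv r le_rfl
    rw [if_neg (by omega), if_pos rfl, hL r le_rfl, hL (r - 1) (by omega)] at this
    have h' := (hs (r - 1) (by omega)).2
    rw [Nat.sub_add_cancel (by omega : 1 ≤ r)] at h'
    rw [h'] at this
    push_cast [Nat.cast_sub (by omega : 1 ≤ r)] at this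
    have := T.m_pos (v 0)
    nlinarith

/-- A numerical type on at least four indices, all of which are `(-2)`-indices, is an affine diagram. -/
theorem affine_class (hn : 4 ≤ n) (h2 : ∀ i, T.IsMinusTwo i) : AffineShape T := by
  classical
  obtain ⟨v, r, hv, hrn, hmax⟩ := exists_longest h2
  by_cases hc : ∃ i j, i + 2 ≤ j ∧ j ≤ r ∧ T.a (v i) (v j) ≠ 0
  · obtain ⟨i, j, hij, hj, h⟩ := hc
    refine shape_of_cycle (hv.seg (p := i) (q := j - i) (by omega)) (by omega) ?_
    simpa [show i + (j - i) = j by omega] using a_pos T (hv.ne (by omega) hj (by omega)) h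
  push Not at hc
  rcases eq_or_lt_of_le (show r + 1 ≤ n by omega) with hr | hr
  · exact chain_case hn h2 hv hr hc
  have hne : verts v r ≠ univ := fun e => by
    have := hv.card_verts
    rw [e, card_univ, Fintype.card_fin] at this
    omega
  obtain ⟨x, hx, u, hu, hxu⟩ := T.connected (verts v r) ⟨v 0, mem_verts.2 ⟨0, Nat.zero_le _, rfl⟩⟩ hne
  obtain ⟨b, hb, rfl⟩ := mem_verts.1 hx
  have hu' : ∀ k ≤ r, v k ≠ u := fun k hk e => hu (mem_verts.2 ⟨k, hk, e⟩)
  exact branch_case hn h2 hv hmax hc hb hu' (a_pos T (hu' b hb) hxu)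

end Groth.Agent.NumType
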