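import Groth.Agent.NumType.Core
import Groth.Agent.NumType.Classify
import Groth.Agent.S2182

/-!
# The bound `m i * |a i j| ≤ 768 g`
-/

namespace Groth.Agent.NumType

open Finset Models

variable {n : ℕ} {T : Models.NumericalType n}

theorem two_of_not_bad {i : Fin n} (h : i ∉ bad T) : T.IsMinusTwo i := by
  by_contra hc; exact h ((mem_bad T).2 hc)

variable (T) in
/-- A good index adjacent to a bad one. -/
def JAdj (x : Fin n) : Prop := ∃ j ∈ bad T, 0 < T.a x j

theorem card_good {u : ℕ → Fin n} {R : ℕ} (hu : IsPath T u R) (hne : (bad T).Nonempty)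
    (extra : Finset (Fin n)) (he : ∀ x ∈ extra, x ∉ bad T ∧ ∀ k ≤ R, u k ≠ x) : R + 1 + #extra < n := by
  classical
  obtain ⟨j, hj⟩ := hne
  have hd : Disjoint (verts u R) extra := Finset.disjoint_right.2 fun x hx h => by
    obtain ⟨k, hk, e⟩ := mem_verts.1 h
    exact (he x hx).2 k hk e
  have hnot : j ∉ verts u R ∪ extra := by
    rw [mem_union, not_or]
    refine ⟨fun h => ?_, fun h => (he j h).1 hj⟩
    obtain ⟨k, hk, e⟩ := mem_verts.1 h
    exact (mem_bad T).1 hj (e ▸ hu.two k hk)
  have := card_le_univ (insert j (verts u R ∪ extra))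
  rw [card_insert_of_notMem hnot, card_union_of_disjoint hd, hu.card_verts, Fintype.card_fin] at this
  omega

/-- The row relation when all neighbours are known. -/
theorem row_only (x : Fin n) (hx : T.IsMinusTwo x) (s : Finset (Fin n)) (hs : x ∉ s)
    (h : ∀ j, j ≠ x → 0 < T.a x j → j ∈ s) : ∑ j ∈ s, T.a x j * T.m j = 2 * T.w x * T.m x := by
  have hsum := row_sum T x
  rw [← sum_subset (subset_univ (insert x s)) (fun j _ hj => ?_), sum_insert hs, a_diag T hx] at hsum
  · linarith
  · simp only [mem_insert, not_or] at hj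
    rw [le_antisymm (not_lt.1 fun hp => hj.2 (h j hj.1 hp)) (T.offDiag_nonneg x j (Ne.symm hj.1))]
    ring

/-- A chain with a non-simple last edge and no further neighbours has constant multiplicities. -/
theorem flat_double {u : ℕ → Fin n} {R : ℕ} (hu : IsPath T u R) (hR : 2 ≤ R)
    (hs : ∀ i, i + 1 < R → P T (u i) (u (i + 1)) = 1) (hlast : P T (u (R - 1)) (u R) = 2)
    (honly : ∀ i, 1 ≤ i → i ≤ R → ∀ j, 0 < T.a (u i) j → j ≠ u i → ∃ k ≤ R, u k = j ∧ (k + 1 = i ∨ k = i + 1)) :
    T.m (u (R - 1)) = T.m (u 0) := by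
  have hl : T.a (u R) (u (R - 1)) * T.m (u (R - 1)) = 2 * T.w (u R) * T.m (u R) := by
    have h := row_only (u R) (hu.two R le_rfl) {u (R - 1)}
      (by simpa using hu.ne le_rfl (by omega : R - 1 ≤ R) (by omega)) (fun j hj hp => ?_)
    · rwa [sum_singleton] at h
    · obtain ⟨k, hk, rfl, hk'⟩ := honly R (by omega) le_rfl j hp hj
      rw [mem_singleton, show k = R - 1 by omega]
  have hmid : ∀ i, 1 ≤ i → i < R → T.a (u i) (u (i - 1)) * T.m (u (i - 1)) +
      T.a (u i) (u (i + 1)) * T.m (u (i + 1)) = 2 * T.w (u i) * T.m (u i) := fun i h1 h2 => by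
    have h := row_only (u i) (hu.two i h2.le) {u (i - 1), u (i + 1)} (by
      simp [hu.ne h2.le (by omega : i - 1 ≤ R) (by omega), hu.ne h2.le (by omega : i + 1 ≤ R) (by omega)])
      (fun j hj hp => ?_)
    · rwa [sum_pair (hu.ne (by omega) (by omega) (by omega))] at h
    · obtain ⟨k, hk, rfl, hk'⟩ := honly i h1 h2.le j hp hj
      rcases hk' with e | e
      · simp [show k = i - 1 by omega]
      · simp [e]
  obtain ⟨hw, ha⟩ := w_seg hu (p := 0) (q := R - 1) (by omega) (fun i _ hi => hs i (by omega))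
  set W := T.w (u 0)
  have hW0 : 0 < W := T.w_pos _
  -- descending induction
  have hflat : ∀ d, d + 2 ≤ R → T.m (u (R - 1 - d)) = T.m (u (R - 1 - (d + 1))) := by
    intro d
    induction d with
    | zero =>
      intro _
      have h := hmid (R - 1) (by omega) (by omega)
      rw [Nat.sub_add_cancel (by omega : 1 ≤ R)] at h
      have e1 := ha (R - 1 - 1) (Nat.zero_le _) (by omega)
      rw [show R - 1 - 1 + 1 = R - 1 by omega] at e1
      rw [a_symm T (u (R - 1)) (u (R - 1 - 1)), e1, hw (R - 1) (Nat.zero_le _) le_rfl] at h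
      have hP := c_mul_a T (u (R - 1)) (u R)
      rw [hlast] at hP
      have e2 : T.a (u (R - 1)) (u R) * T.m (u R) = W * T.m (u (R - 1)) := by
        have hc := w_mul_c T (u R) (u (R - 1))
        rw [hw (R - 1) (Nat.zero_le _) le_rfl] at hP
        refine mul_left_cancel₀ (show (2 : ℤ) * T.w (u R) ≠ 0 from (mul_pos two_pos (T.w_pos _)).ne') ?_
        linear_combination (-(T.a (u (R - 1)) (u R))) * hl + T.m (u (R - 1)) * T.w (u R) * hP -
          T.a (u (R - 1)) (u R) * T.m (u (R - 1)) * hc
      refine mul_left_cancel₀ hW0.ne' ?_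
      simp only [Nat.sub_zero, Nat.zero_add]
      linarith
    | succ d ih =>
      intro hd
      have h := hmid (R - 1 - (d + 1)) (by omega) (by omega)
      have e1 := ha (R - 1 - (d + 1)) (Nat.zero_le _) (by omega)
      have e0 := ha (R - 1 - (d + 1 + 1)) (Nat.zero_le _) (by omega)
      rw [show R - 1 - (d + 1 + 1) + 1 = R - 1 - (d + 1) by omega] at e0
      rw [show R - 1 - (d + 1) - 1 = R - 1 - (d + 1 + 1) by omega,
        a_symm T (u (R - 1 - (d + 1))) (u (R - 1 - (d + 1 + 1))), e0,
        show R - 1 - (d + 1) + 1 = R - 1 - d by omega] at h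
      rw [show R - 1 - (d + 1) + 1 = R - 1 - d by omega] at e1
      rw [e1, hw (R - 1 - (d + 1)) (Nat.zero_le _) (by omega), ih (by omega)] at h
      refine mul_left_cancel₀ hW0.ne' ?_
      linarith
  have hall : ∀ d, d + 1 ≤ R → T.m (u (R - 1 - d)) = T.m (u (R - 1)) := by
    intro d
    induction d with
    | zero => intro _; rw [Nat.sub_zero]
    | succ d ih => intro hd; rw [← hflat d (by omega)]; exact ih (by omega)
  have := hall (R - 1) (by omega)
  rw [Nat.sub_self] at this
  exact this.symm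

/-- The neighbour of a short arm at the end of a long chain has no other neighbour. -/
theorem no_long_arm {w : ℕ → Fin n} {r : ℕ} (hw : IsPath T w r) (hr : 5 ≤ r) {x y z : Fin n}
    (hx : T.IsMinusTwo x) (hy : T.IsMinusTwo y) (hz : T.IsMinusTwo z) (hx' : ∀ k ≤ r, w k ≠ x)
    (hy' : ∀ k ≤ r, w k ≠ y) (hz' : ∀ k ≤ r, w k ≠ z) (hxy : x ≠ y) (hxz : x ≠ z) (hyz : y ≠ z)
    (hcx : 0 < T.a (w r) x) (hcy : 0 < T.a (w r) y) (hxz' : 0 < T.a x z) (hn : 9 < n) : False := by
  let v : Fin 9 → Fin n := ![w (r - 5), w (r - 4), w (r - 3), w (r - 2), w (r - 1), w r, x, z, y]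
  have hinj : Function.Injective v := by
    intro p q hpq
    fin_cases p <;> fin_cases q <;> first | rfl | (exfalso; simp only [v] at hpq; revert hpq; simp) <;>
      first
        | exact hw.ne (by omega) (by omega) (by omega)
        | exact hx' _ (by omega)
        | exact hy' _ (by omega)
        | exact hz' _ (by omega)
        | exact (hx' _ (by omega)).symm
        | exact (hy' _ (by omega)).symm
        | exact (hz' _ (by omega)).symm
        | exact hxy
        | exact hxy.symm
        | exact hxz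
        | exact hxz.symm
        | exact hyz
        | exact hyz.symm
  refine no_config T (k := 9) (by omega) hn v hinj (fun p => ?_) ![1, 2, 3, 4, 5, 6, 4, 2, 3] (by decide)
    ![{1}, {0, 2}, {1, 3}, {2, 4}, {3, 5}, {4, 6, 8}, {5, 7}, {6}, {5}] ?_ (by decide)
  · fin_cases p <;> simp [v] <;> first | exact hw.two _ (by omega) | assumption
  intro p q hq
  have a1 := hw.adj (r - 5) (by omega)
  have a2 := hw.adj (r - 4) (by omega)
  have a3 := hw.adj (r - 3) (by omega)
  have a4 := hw.adj (r - 2) (by omega)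
  have a5 := hw.adj (r - 1) (by omega)
  rw [show r - 5 + 1 = r - 4 by omega] at a1
  rw [show r - 4 + 1 = r - 3 by omega] at a2
  rw [show r - 3 + 1 = r - 2 by omega] at a3
  rw [show r - 2 + 1 = r - 1 by omega] at a4
  rw [show r - 1 + 1 = r by omega] at a5
  have := a1.ne'; have := a2.ne'; have := a3.ne'; have := a4.ne'; have := a5.ne'
  have := hcx.ne'; have := hcy.ne'; have := hxz'.ne'
  fin_cases p <;> fin_cases q <;> simp_all (config := { decide := true }) [v] <;>
    (rw [a_symm]; assumption)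

/-- A chain ending in a fork, with no further neighbours, has constant multiplicities. -/
theorem flat_fork {w : ℕ → Fin n} {r : ℕ} (hw : IsPath T w r) (hr : 1 ≤ r) {x y : Fin n} (hxy : x ≠ y)
    (hx : T.IsMinusTwo x) (hy : T.IsMinusTwo y) (hx' : ∀ k ≤ r, w k ≠ x) (hy' : ∀ k ≤ r, w k ≠ y)
    {W : ℤ} (hW : ∀ i ≤ r, T.w (w i) = W) (hwx : T.w x = W) (hwy : T.w y = W)
    (ha : ∀ i < r, T.a (w i) (w (i + 1)) = W) (hax : T.a (w r) x = W) (hay : T.a (w r) y = W)
    (honly : ∀ i, 1 ≤ i → i ≤ r → ∀ j, 0 < T.a (w i) j → j ≠ w i →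
      (∃ k ≤ r, w k = j ∧ (k + 1 = i ∨ k = i + 1)) ∨ (i = r ∧ (j = x ∨ j = y)))
    (honlyx : ∀ j, 0 < T.a x j → j ≠ x → j = w r) (honlyy : ∀ j, 0 < T.a y j → j ≠ y → j = w r) :
    T.m (w r) = T.m (w 0) := by
  have hW0 : 0 < W := hW 0 (Nat.zero_le _) ▸ T.w_pos _
  have hleaf : ∀ z, T.IsMinusTwo z → T.w z = W → T.a (w r) z = W → (∀ j, 0 < T.a z j → j ≠ z → j = w r) →
      z ≠ w r → 2 * T.m z = T.m (w r) := fun z hz hwz haz ho hne => by
    have h := row_only z hz {w r} (by simpa using hne) (fun j hj hp => mem_singleton.2 (ho j hp hj))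
    rw [sum_singleton, a_symm, haz, hwz] at h
    refine mul_left_cancel₀ hW0.ne' ?_
    linarith
  have ex := hleaf x hx hwx hax honlyx (hx' r le_rfl).symm
  have ey := hleaf y hy hwy hay honlyy (hy' r le_rfl).symm
  have hflat : ∀ d, d < r → T.m (w (r - d)) = T.m (w (r - (d + 1))) := by
    intro d
    induction d with
    | zero =>
      intro _
      have hnot : w r ∉ ({w (r - 1), x, y} : Finset (Fin n)) := by
        simp [hw.ne le_rfl (by omega : r - 1 ≤ r) (by omega), hx' r le_rfl, hy' r le_rfl]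
      have h := row_only (w r) (hw.two r le_rfl) {w (r - 1), x, y} hnot (fun j hj hp => ?_)
      · have e1 := ha (r - 1) (by omega)
        rw [Nat.sub_add_cancel hr] at e1
        rw [sum_insert (by simp [hx' (r - 1) (by omega), hy' (r - 1) (by omega)]), sum_pair hxy,
          a_symm T (w r) (w (r - 1)), e1, hax, hay, hW r le_rfl] at h
        refine mul_left_cancel₀ hW0.ne' ?_
        simp only [Nat.sub_zero, Nat.zero_add]
        nlinarith
      · rcases honly r hr le_rfl j hp hj with ⟨k, hk, rfl, hk'⟩ | ⟨-, rfl | rfl⟩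
        · simp [show k = r - 1 by omega]
        · simp
        · simp
    | succ d ih =>
      intro hd
      have hi : r - (d + 1) < r := by omega
      have h := row_only (w (r - (d + 1))) (hw.two _ hi.le) {w (r - (d + 2)), w (r - d)} (by
        simp [hw.ne hi.le (by omega : r - (d + 2) ≤ r) (by omega), hw.ne hi.le (by omega : r - d ≤ r) (by omega)])
        (fun j hj hp => ?_)
      · have e1 := ha (r - (d + 1)) hi
        have e0 := ha (r - (d + 2)) (by omega)
        rw [show r - (d + 1) + 1 = r - d by omega] at e1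
        rw [show r - (d + 2) + 1 = r - (d + 1) by omega] at e0
        rw [sum_pair (hw.ne (by omega) (by omega) (by omega)), a_symm T (w (r - (d + 1))) (w (r - (d + 2))),
          e0, e1, hW _ hi.le, ih (by omega)] at h
        refine mul_left_cancel₀ hW0.ne' ?_
        linarith
      · rcases honly _ (by omega) hi.le j hp hj with ⟨k, hk, rfl, hk'⟩ | ⟨e, -⟩
        · rcases hk' with e | e
          · simp [show k = r - (d + 2) by omega]
          · simp [show k = r - d by omega]
        · omega
  have hall : ∀ d ≤ r, T.m (w (r - d)) = T.m (w r) := by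
    intro d
    induction d with
    | zero => intro _; rw [Nat.sub_zero]
    | succ d ih => intro hd; rw [← hflat d (by omega)]; exact ih (by omega)
  have := hall r le_rfl
  rw [Nat.sub_self] at this
  exact this.symm

theorem exists_critical_max (hn : 1 < n) (hne : (bad T).Nonempty) {i : Fin n} (hi : i ∉ bad T) :
    ∃ c, c ∉ bad T ∧ T.w i * T.m i ≤ T.w c * T.m c ∧
      (JAdj T c ∨ (∃ y, y ∉ bad T ∧ 0 < T.a c y ∧ 2 ≤ P T c y) ∨
        ∃ x y z, x ∉ bad T ∧ y ∉ bad T ∧ z ∉ bad T ∧ x ≠ y ∧ x ≠ z ∧ y ≠ z ∧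
          0 < T.a c x ∧ 0 < T.a c y ∧ 0 < T.a c z) := by
  classical
  obtain ⟨c₀, hc₀, hmax⟩ := exists_max_image ((univ : Finset (Fin n)).filter (· ∉ bad T))
    (fun x => T.w x * T.m x) ⟨i, mem_filter.2 ⟨mem_univ _, hi⟩⟩
  replace hc₀ := (mem_filter.1 hc₀).2
  have hle : ∀ y, y ∉ bad T → T.w y * T.m y ≤ T.w c₀ * T.m c₀ := fun y hy =>
    hmax y (mem_filter.2 ⟨mem_univ _, hy⟩)
  by_contra hcon
  push Not at hcon
  let S := (univ : Finset (Fin n)).filter fun x => x ∉ bad T ∧ T.w x * T.m x = T.w c₀ * T.m c₀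
  have hall : ∀ z, z ∈ S := closed_univ ⟨c₀, mem_filter.2 ⟨mem_univ _, hc₀, rfl⟩⟩ fun x hx y hy => by
    obtain ⟨hxb, hxeq⟩ := (mem_filter.1 hx).2
    obtain ⟨h1, h2, h3⟩ := hcon x hxb (le_of_le_of_eq (hle i hi) hxeq.symm)
    have hgood : ∀ z, 0 < T.a x z → z ∉ bad T := fun z hz hb => h1 ⟨z, hb, hz⟩
    have hxx : ∀ z, 0 < T.a x z → z ≠ x := fun z hz e => (ne_of_two_pos (two_of_not_bad hxb) hz) e.symm
    let N := (univ : Finset (Fin n)).filter fun z => 0 < T.a x z
    have hN := row_only x (two_of_not_bad hxb) N (fun h => hxx x (mem_filter.1 h).2 rfl)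
      (fun j _ hp => mem_filter.2 ⟨mem_univ _, hp⟩)
    have hterm : ∀ z ∈ N, T.a x z * T.m z = T.w z * T.m z := fun z hz => by
      have hz' := (mem_filter.1 hz).2
      have h2' := h2 z (hgood z hz') hz'
      have := one_le_P T hz'
      obtain ⟨e, e'⟩ := P_eq_one T hz' (by omega)
      rw [e, e']
    rw [sum_congr rfl hterm] at hN
    have hcard : #N ≤ 2 := by
      by_contra hc
      obtain ⟨p, q, s, hp, hq, hs, hpq, hps, hqs⟩ := two_lt_card_iff.1 (not_le.1 hc)
      have hp' := (mem_filter.1 hp).2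
      have hq' := (mem_filter.1 hq).2
      have hs' := (mem_filter.1 hs).2
      linarith [h3 p q s (hgood p hp') (hgood q hq') (hgood s hs') hpq hps hqs hp' hq']
    by_contra hne'
    have hyN : y ∈ N := mem_filter.2 ⟨mem_univ _, hy⟩
    have hlt : T.w y * T.m y < T.w c₀ * T.m c₀ := lt_of_le_of_ne (hle y (hgood y hy))
      fun e => hne' (mem_filter.2 ⟨mem_univ _, hgood y hy, e⟩)
    have h' : ∑ z ∈ N, T.w z * T.m z < ∑ _z ∈ N, T.w c₀ * T.m c₀ :=
      sum_lt_sum (fun z hz => hle z (hgood z (mem_filter.1 hz).2)) ⟨y, hyN, hlt⟩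
    rw [hN, sum_const, nsmul_eq_mul] at h'
    have hpos := mul_pos (T.w_pos c₀) (T.m_pos c₀)
    have hc' : (#N : ℤ) ≤ 2 := by exact_mod_cast hcard
    nlinarith
  obtain ⟨j, hj⟩ := hne
  exact (mem_filter.1 (hall j)).2.1 hj

theorem exists_short_path (hne : (bad T).Nonempty) {c : Fin n} (hc : c ∉ bad T) :
    ∃ (p : ℕ) (v : ℕ → Fin n), IsPath T v p ∧ v 0 = c ∧ (∀ i ≤ p, v i ∉ bad T) ∧ JAdj T (v p) ∧
      (∀ i < p, ¬ JAdj T (v i)) ∧ (∀ x, x ∉ bad T → 0 < T.a c x → JAdj T x → p ≤ 1) := by
  classical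
  let W : ℕ → Fin n → Prop := fun p x => ∃ v : ℕ → Fin n,
    v 0 = c ∧ v p = x ∧ (∀ i ≤ p, v i ∉ bad T) ∧ ∀ i < p, 0 < T.a (v i) (v (i + 1))
  have hex : ∃ p, ∃ x, W p x ∧ JAdj T x := by
    by_contra hno
    push Not at hno
    let R := (univ : Finset (Fin n)).filter fun x => ∃ p, W p x
    have h0 : W 0 c := ⟨fun _ => c, rfl, rfl, fun _ _ => hc, fun i hi => absurd hi (by omega)⟩
    have hall : ∀ z, z ∈ R := closed_univ ⟨c, mem_filter.2 ⟨mem_univ _, 0, h0⟩⟩ fun x hx y hy => by
      obtain ⟨p, hp⟩ := (mem_filter.1 hx).2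
      have hyb : y ∉ bad T := fun hb => hno p x hp ⟨y, hb, hy⟩
      obtain ⟨v, v0, vp, vb, va⟩ := hp
      refine mem_filter.2 ⟨mem_univ _, p + 1, fun i => if i ≤ p then v i else y, by simp [v0], by simp, ?_, ?_⟩
      · intro i hi; beta_reduce; split_ifs with e
        · exact vb i e
        · exact hyb
      · intro i hi; beta_reduce
        rw [if_pos (by omega : i ≤ p)]
        split_ifs with e
        · exact va i (by omega)
        · rwa [show i = p by omega, vp]
    obtain ⟨j, hj⟩ := hne
    obtain ⟨p, v, -, vp, vb, -⟩ := (mem_filter.1 (hall j)).2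
    exact vb p le_rfl (vp ▸ hj)
  obtain ⟨x, ⟨v, v0, vp, vb, va⟩, hx⟩ := Nat.find_spec hex
  set p := Nat.find hex
  have hmin : ∀ q y, W q y → JAdj T y → p ≤ q := fun q y h1 h2 => Nat.find_min' hex ⟨y, h1, h2⟩
  refine ⟨p, v, ⟨fun i hi => two_of_not_bad (vb i hi), ?_, va⟩, v0, vb, vp ▸ hx, fun i hi hJ => ?_,
    fun y hy hadj hJ => hmin 1 y ?_ hJ⟩
  · intro i hi j hj he
    by_contra hne'
    wlog hij : i < j generalizing i j
    · exact this j hj i hi he.symm (Ne.symm hne') (by omega)
    have hW : W (p - (j - i)) x := by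
      refine ⟨fun k => if k < i then v k else v (k + (j - i)), ?_, ?_, fun k hk => ?_, fun k hk => ?_⟩ <;>
        beta_reduce
      · split_ifs with e
        · exact v0
        · rw [show 0 + (j - i) = j by omega, ← he, show i = 0 by omega, v0]
      · rw [if_neg (by omega), show p - (j - i) + (j - i) = p by omega, vp]
      · split_ifs <;> exact vb _ (by omega)
      · split_ifs with e1 e2
        · exact va k (by omega)
        · rw [show k + 1 + (j - i) = j by omega, ← he, show i = k + 1 by omega]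
          exact va k (by omega)
        · omega
        · rw [show k + 1 + (j - i) = k + (j - i) + 1 by omega]
          exact va _ (by omega)
    have := hmin _ x hW hx
    omega
  · have := hmin i (v i) ⟨v, v0, rfl, fun k hk => vb k (by omega), fun k hk => va k (by omega)⟩ hJ
    omega
  · refine ⟨fun k => if k = 0 then c else y, by simp, by simp, fun k _ => ?_, fun k hk => ?_⟩ <;> beta_reduce
    · split_ifs
      · exact hc
      · exact hy
    · rw [show k = 0 by omega]; simpa using hadj

theorem X_le (hmin : T.IsMinimal) (hn : 1 < n) (hg : 2 ≤ T.genus) {i : Fin n} (hi : i ∉ bad T) :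
    T.w i * T.m i ≤ 64 * (6 * T.genus - 6) := by
  classical
  have hne : (bad T).Nonempty := by
    by_contra he
    rw [not_nonempty_iff_eq_empty] at he
    have h2 := two_genus T
    have h0 : ∑ i, contrib T i = 0 := sum_eq_zero fun i _ => by
      have := two_of_not_bad (T := T) (i := i) (by rw [he]; exact notMem_empty i)
      rw [contrib, this.1, this.2]; ring
    omega
  obtain ⟨-, hK⟩ := sum_bad T hmin hn
  set K := 6 * T.genus - 6
  have hK0 : 0 ≤ K := by omega
  obtain ⟨c, hc, hle, hcrit⟩ := exists_critical_max hn hne hi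
  refine hle.trans ?_
  have hJ : ∀ x, x ∉ bad T → JAdj T x → T.w x * T.m x ≤ K := fun x hx ⟨j, hj, hp⟩ => by
    have h1 := (Groth.Agent.S2182.result T x j hp).2
    have h2 : T.m j * |T.a j j| ≤ K := le_trans (single_le_sum (f := fun i => T.m i * |T.a i i|)
      (fun i _ => mul_nonneg (T.m_pos i).le (abs_nonneg _)) hj) hK
    linarith
  have hstep : ∀ x y, x ∉ bad T → 0 < T.a x y → T.w y * T.m y ≤ 2 * (T.w x * T.m x) := fun x y hx hp => by
    have h := row_m T x (two_of_not_bad hx) {y} (by simpa using ne_of_two_pos (two_of_not_bad hx) hp)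
    rw [sum_singleton] at h
    have := mul_le_mul_of_nonneg_right (w_le_a' T hp) (T.m_pos y).le
    linarith
  obtain ⟨p, v, hv, v0, vb, vJ, vmin, vnb⟩ := exists_short_path hne hc
  rcases le_or_gt p 6 with hp6 | hp7
  · have hind : ∀ d ≤ p, T.w (v (p - d)) * T.m (v (p - d)) ≤ 2 ^ d * K := fun d => by
      induction d with
      | zero => intro _; simpa using hJ _ (vb p le_rfl) vJ
      | succ d ih =>
        intro hd
        have ha := hv.adj (p - (d + 1)) (by omega)
        rw [show p - (d + 1) + 1 = p - d by omega, a_symm] at ha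
        have := hstep _ _ (vb (p - d) (by omega)) ha
        have := ih (by omega)
        rw [pow_succ]; linarith
    have := hind p le_rfl
    rw [Nat.sub_self, v0] at this
    refine this.trans (mul_le_mul_of_nonneg_right ?_ hK0)
    calc (2 : ℤ) ^ p ≤ 2 ^ 6 := pow_le_pow_right₀ (by norm_num) hp6
      _ = 64 := by norm_num
  -- the long case
  let w : ℕ → Fin n := fun i => v (p - i)
  have hw : IsPath T w p := hv.rev
  have wb : ∀ i ≤ p, w i ∉ bad T := fun i _ => vb _ (by omega)
  have wJ : ∀ i, 1 ≤ i → i ≤ p → ¬ JAdj T (w i) := fun i h1 h2 => vmin _ (by omega)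
  have wp : w p = c := by simp [w, v0]
  have w0 : T.w (w 0) * T.m (w 0) ≤ K := by simpa [w] using hJ _ (vb p le_rfl) vJ
  have hn0 := card_good hw hne ∅ (by simp)
  simp only [card_empty, Nat.add_zero] at hn0
  have good_nbr : ∀ {x j}, ¬ JAdj T x → 0 < T.a x j → j ∉ bad T := fun h hp hb => h ⟨_, hb, hp⟩
  have nJx : ∀ x, x ∉ bad T → 0 < T.a c x → ¬ JAdj T x := fun x h1 h2 h3 => by
    have := vnb x h1 h2 h3; omega
  have cJ : ¬ JAdj T c := wp ▸ wJ p (by omega) le_rfl
  have chord0 : ∀ {u : ℕ → Fin n} {R : ℕ}, IsPath T u R → R + 1 < n → ∀ i ≤ R, ∀ k ≤ R,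
      0 < T.a (u i) (u k) → k = i ∨ k + 1 = i ∨ k = i + 1 := by
    intro u R hu hR i hi k hk hp
    by_contra hc
    push Not at hc
    rcases lt_trichotomy i k with h | h | h
    · rw [no_chord hu (by omega) hk (by omega)] at hp; exact lt_irrefl _ hp
    · omega
    · rw [a_symm, no_chord hu (by omega) hi (by omega)] at hp; exact lt_irrefl _ hp
  rcases hcrit with h | ⟨x, hx, hxa, hxP⟩ | hfork
  · exact absurd h cJ
  · -- a non-simple edge at `c`
    obtain ⟨u, R, hu, hR, hu0, hub, huJ, hlast, hcu⟩ : ∃ (u : ℕ → Fin n) (R : ℕ), IsPath T u R ∧ 7 ≤ R ∧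
        u 0 = w 0 ∧ (∀ i ≤ R, u i ∉ bad T) ∧ (∀ i, 1 ≤ i → i ≤ R → ¬ JAdj T (u i)) ∧
        2 ≤ P T (u (R - 1)) (u R) ∧ (u R = c ∨ u (R - 1) = c) := by
      by_cases hon : ∃ k ≤ p, w k = x
      · obtain ⟨k, hk, rfl⟩ := hon
        rw [← wp] at hxa hxP
        rcases chord0 hw hn0 p le_rfl k hk hxa with e | e | e
        · exact absurd (e ▸ hxa) (by rw [a_diag T (hw.two p le_rfl)]; linarith [T.w_pos (w p)])
        · refine ⟨w, p, hw, by omega, rfl, wb, wJ, ?_, Or.inl wp⟩
          rw [show p - 1 = k by omega, P_comm]; exact hxP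
        · omega
      · push Not at hon
        refine ⟨_, p + 1, isPath_snoc hw (two_of_not_bad hx) hon (wp.symm ▸ hxa), by omega, by simp,
          fun i hi => ?_, fun i h1 h2 => ?_, ?_, Or.inr ?_⟩ <;> beta_reduce
        · split_ifs with e
          · exact wb i e
          · exact hx
        · split_ifs with e
          · exact wJ i h1 e
          · exact nJx x hx hxa
        · rw [Nat.add_sub_cancel, if_pos le_rfl, if_neg (by omega), wp]; exact hxP
        · rw [Nat.add_sub_cancel, if_pos le_rfl, wp]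
    have hnR := card_good hu hne ∅ (by simp)
    simp only [card_empty, Nat.add_zero] at hnR
    obtain ⟨-, h12, huniq, hpos⟩ := chain_class hu (by omega) hnR
    have hlast2 : P T (u (R - 1)) (u R) = 2 := by
      have := h12 (R - 1) (by omega)
      rw [Nat.sub_add_cancel (by omega : 1 ≤ R)] at this
      omega
    have hs : ∀ i, i + 1 < R → P T (u i) (u (i + 1)) = 1 := fun i hi => (h12 i (by omega)).resolve_right fun h => by
      have := huniq i (by omega) (R - 1) (by omega) h (by rw [Nat.sub_add_cancel (by omega : 1 ≤ R)]; exact hlast2)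
      omega
    have honly : ∀ i, 1 ≤ i → i ≤ R → ∀ j, 0 < T.a (u i) j → j ≠ u i →
        ∃ k ≤ R, u k = j ∧ (k + 1 = i ∨ k = i + 1) := by
      intro i h1 h2 j hp hj
      by_cases hon : ∃ k ≤ R, u k = j
      · obtain ⟨k, hk, rfl⟩ := hon
        refine ⟨k, hk, rfl, (chord0 hu hnR i h2 k hk hp).resolve_left fun e => ?_⟩
        exact hj (by rw [e])
      push Not at hon
      exfalso
      have hjb : j ∉ bad T := good_nbr (huJ i h1 h2) hp
      have hn2 := card_good hu hne {j} (fun z hz => by rw [mem_singleton.1 hz]; exact ⟨hjb, hon⟩)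
      simp only [card_singleton] at hn2
      rcases eq_or_lt_of_le h2 with rfl | hiR
      · have hu' := isPath_snoc hu (two_of_not_bad hjb) hon hp
        obtain ⟨-, -, -, hpos'⟩ := chain_class hu' (by omega) hn2
        have := hpos' (i - 1) (by omega) (by
          beta_reduce
          rw [if_pos (by omega : i - 1 ≤ i), if_pos (by omega : i - 1 + 1 ≤ i), Nat.sub_add_cancel h1]
          exact hlast2)
        omega
      · obtain ⟨bw, ba, -, -, -⟩ := branch hu (b := i) (by omega) hiR (two_of_not_bad hjb) hon hp hn2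
        have e := ba (R - 1) (by omega)
        rw [Nat.sub_add_cancel (by omega : 1 ≤ R)] at e
        have e1 := bw (R - 1) (by omega)
        have e2 := bw R le_rfl
        have hP := c_mul_a T (u (R - 1)) (u R)
        have hc2 := w_mul_c T (u R) (u (R - 1))
        rw [a_symm T (u R) (u (R - 1)), e, e2] at hc2
        rw [hlast2, e, e1] at hP
        have : 0 < T.w j := T.w_pos j
        nlinarith
    have hflat := flat_double hu (by omega) hs hlast2 honly
    obtain ⟨hws, -⟩ := w_seg hu (p := 0) (q := R - 1) (by omega) (fun k _ hk => hs k (by omega))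
    have hX : T.w (u (R - 1)) * T.m (u (R - 1)) ≤ K := by
      rw [hflat, hws (R - 1) (Nat.zero_le _) le_rfl, hu0]; exact w0
    rcases hcu with e | e
    · rw [← e]
      have ha := hu.adj (R - 1) (by omega)
      rw [Nat.sub_add_cancel (by omega : 1 ≤ R)] at ha
      have := hstep _ _ (hub (R - 1) (by omega)) ha
      linarith
    · rw [← e]; linarith
  · -- a fork at `c`
    obtain ⟨q, y₀, z₀, hq, hy₀, hz₀, hqy, hqz, hyz₀, haq, hay₀, haz₀⟩ := hfork
    have two : ∃ x y, x ≠ y ∧ x ∉ bad T ∧ y ∉ bad T ∧ 0 < T.a c x ∧ 0 < T.a c y ∧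
        (∀ k ≤ p, w k ≠ x) ∧ (∀ k ≤ p, w k ≠ y) := by
      have off : ∀ z, 0 < T.a c z → z ≠ w (p - 1) → ∀ k ≤ p, w k ≠ z := fun z hz hne' k hk e => by
        subst e
        rw [← wp] at hz
        rcases chord0 hw hn0 p le_rfl k hk hz with e | e | e
        · subst e; rw [a_diag T (hw.two _ le_rfl)] at hz; linarith [T.w_pos (w k)]
        · exact hne' (by rw [show k = p - 1 by omega])
        · omega
      by_cases e1 : q = w (p - 1)
      · exact ⟨y₀, z₀, hyz₀, hy₀, hz₀, hay₀, haz₀, off _ hay₀ (fun e => hqy (e1.trans e.symm)),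
          off _ haz₀ (fun e => hqz (e1.trans e.symm))⟩
      by_cases e2 : y₀ = w (p - 1)
      · exact ⟨q, z₀, hqz, hq, hz₀, haq, haz₀, off _ haq e1, off _ haz₀ (fun e => hyz₀ (e2.trans e.symm))⟩
      exact ⟨q, y₀, hqy, hq, hy₀, haq, hay₀, off _ haq e1, off _ hay₀ e2⟩
    obtain ⟨x, y, hxy, hx, hy, hax, hay, hx', hy'⟩ := two
    have hu := isPath_snoc hw (two_of_not_bad hx) hx' (wp.symm ▸ hax)
    set u : ℕ → Fin n := fun k => if k ≤ p then w k else x with hudef
    have uw : ∀ k ≤ p, u k = w k := fun k hk => if_pos hk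
    have ux : u (p + 1) = x := if_neg (by omega)
    have hy'' : ∀ k ≤ p + 1, u k ≠ y := fun k hk => by
      rw [hudef]; beta_reduce; split_ifs with e
      · exact hy' k e
      · exact hxy
    have hub' : ∀ k ≤ p + 1, u k ∉ bad T := fun k hk => by
      rw [hudef]; beta_reduce; split_ifs with e
      · exact wb k e
      · exact hx
    have hn2 := card_good hu hne {y} (fun z hz => by rw [mem_singleton.1 hz]; exact ⟨hy, hy''⟩)
    simp only [card_singleton] at hn2
    obtain ⟨bw, ba, bau, bz, bzu⟩ := branch hu (b := p) (by omega) (by omega) (two_of_not_bad hy) hy''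
      (by rw [uw p le_rfl, wp]; exact hay) hn2
    have hW : ∀ k ≤ p, T.w (w k) = T.w y := fun k hk => uw k hk ▸ bw k (by omega)
    have hA : ∀ k < p, T.a (w k) (w (k + 1)) = T.w y := fun k hk => by
      rw [← uw k (by omega), ← uw (k + 1) (by omega)]; exact ba k (by omega)
    have hAx : T.a (w p) x = T.w y := by
      have := ba p (by omega); rwa [uw p le_rfl, ux] at this
    have hAy : T.a (w p) y = T.w y := by rwa [uw p le_rfl] at bau
    have hwx : T.w x = T.w y := ux ▸ bw (p + 1) le_rfl
    have hxyz : T.a x y = 0 := ux ▸ bzu (p + 1) le_rfl (by omega)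
    -- no further neighbours
    have hbig : ∀ z, z ∉ bad T → (∀ k ≤ p, w k ≠ z) → z ≠ x → z ≠ y → p + 5 ≤ n := fun z hz hz' hzx hzy => by
      have := card_good hw hne {x, y, z} (fun t ht => by
        simp only [mem_insert, mem_singleton] at ht
        rcases ht with rfl | rfl | rfl
        · exact ⟨hx, hx'⟩
        · exact ⟨hy, hy'⟩
        · exact ⟨hz, hz'⟩)
      rw [card_insert_of_notMem (by simp [hxy, hzx.symm]), card_pair hzy.symm] at this
      omega
    have honly : ∀ i, 1 ≤ i → i ≤ p → ∀ j, 0 < T.a (w i) j → j ≠ w i →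
        (∃ k ≤ p, w k = j ∧ (k + 1 = i ∨ k = i + 1)) ∨ (i = p ∧ (j = x ∨ j = y)) := by
      intro i h1 h2 j hp hj
      by_cases hon : ∃ k ≤ p, w k = j
      · obtain ⟨k, hk, rfl⟩ := hon
        exact Or.inl ⟨k, hk, rfl, (chord0 hw hn0 i h2 k hk hp).resolve_left fun e => hj (by rw [e])⟩
      push Not at hon
      by_cases ejx : j = x
      · subst ejx
        refine Or.inr ⟨?_, Or.inl rfl⟩
        by_contra hip
        have := bz i (p + 1) (by omega) le_rfl
        rw [uw i h2, ux] at this
        omega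
      by_cases ejy : j = y
      · subst ejy
        refine Or.inr ⟨?_, Or.inr rfl⟩
        by_contra hip
        have := bzu i (by omega) hip
        rw [uw i h2] at this
        omega
      exfalso
      have hjb : j ∉ bad T := good_nbr (wJ i h1 h2) hp
      have hn5 := hbig j hjb hon ejx ejy
      have hj2 := two_of_not_bad hjb
      have haj := hw.adj (i - 1) (by omega)
      rw [Nat.sub_add_cancel h1] at haj
      have hs := hw.seg (p := i) (q := p - i) (by omega)
      have e1 : i + (p - i) = p := by omega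
      have hne0 : w (i - 1) ≠ j := hon _ (by omega)
      have l0 : IsLeaves T (w (i + 0)) (verts (fun k => w (i + k)) (p - i)) {w (i - 1), j} := by
        refine ⟨fun s hs => ?_, fun s hs => ?_, fun s hs he => ?_⟩ <;>
          simp only [mem_insert, mem_singleton] at hs
        · rcases hs with rfl | rfl
          · exact hw.two _ (by omega)
          · exact hj2
        · rcases hs with rfl | rfl
          · exact haj
          · rw [a_symm]; exact hp
        · obtain ⟨k, hk, e⟩ := mem_verts.1 he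
          rcases hs with rfl | rfl
          · exact hw.ne (by omega) (by omega) (by omega) e
          · exact hon _ (by omega) e
      have l1 : IsLeaves T (w (i + (p - i))) (verts (fun k => w (i + k)) (p - i)) {x, y} := by
        refine ⟨fun s hs => ?_, fun s hs => ?_, fun s hs he => ?_⟩ <;>
          simp only [mem_insert, mem_singleton] at hs
        · rcases hs with rfl | rfl <;> exact two_of_not_bad (by assumption)
        · rw [e1, wp, a_symm]
          rcases hs with rfl | rfl <;> assumption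
        · obtain ⟨k, hk, e⟩ := mem_verts.1 he
          rcases hs with rfl | rfl
          · exact hx' _ (by omega) e
          · exact hy' _ (by omega) e
      have t0 : 2 ≤ sumP T (w (i + 0)) {w (i - 1), j} := by
        rw [sumP, sum_pair hne0, Nat.add_zero, P_comm T (w i) (w (i - 1))]
        linarith [one_le_P T haj, one_le_P T hp]
      have t1 : 2 ≤ sumP T (w (i + (p - i))) {x, y} := by
        rw [sumP, sum_pair hxy, e1, wp]
        linarith [one_le_P T hax, one_le_P T hay]
      have hd : Disjoint ({w (i - 1), j} : Finset (Fin n)) {x, y} := by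
        simp [hx' (i - 1) (by omega), hy' (i - 1) (by omega), ejx, ejy, Ne.symm ejx, Ne.symm ejy,
          (hx' (i - 1) (by omega)).symm, (hy' (i - 1) (by omega)).symm]
      have hf := (ends hs l0 l1 hd (fun _ => by linarith) (fun _ => ⟨t0, t1⟩)).card_le hs
      rw [card_pair hne0, card_pair hxy] at hf
      omega
    have leaf : ∀ x y, x ∉ bad T → y ∉ bad T → x ≠ y → 0 < T.a c x → 0 < T.a c y → (∀ k ≤ p, w k ≠ x) →
        (∀ k ≤ p, w k ≠ y) → T.a x y = 0 → (∀ k < p, T.a x (w k) = 0) → ∀ j, 0 < T.a x j → j ≠ x → j = w p := by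
      intro x y hx hy hxy hax hay hx' hy' hz hk j hp hj
      by_cases hon : ∃ k ≤ p, w k = j
      · obtain ⟨k, hk', rfl⟩ := hon
        rcases eq_or_lt_of_le hk' with rfl | hlt
        · rfl
        · rw [hk k hlt] at hp; exact absurd hp (lt_irrefl _)
      push Not at hon
      have hjy : j ≠ y := fun e => by rw [e, hz] at hp; exact lt_irrefl _ hp
      have hjb : j ∉ bad T := good_nbr (nJx x hx hax) hp
      have hn5 := card_good hw hne {x, y, j} (fun t ht => by
        simp only [mem_insert, mem_singleton] at ht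
        rcases ht with rfl | rfl | rfl
        · exact ⟨hx, hx'⟩
        · exact ⟨hy, hy'⟩
        · exact ⟨hjb, hon⟩)
      rw [card_insert_of_notMem (by simp [hxy, hj.symm]), card_pair hjy.symm] at hn5
      exact (no_long_arm hw (by omega) (two_of_not_bad hx) (two_of_not_bad hy) (two_of_not_bad hjb) hx' hy' hon
        hxy hj.symm hjy.symm (wp.symm ▸ hax) (wp.symm ▸ hay) hp (by omega)).elim
    have hxk : ∀ k < p, T.a x (w k) = 0 := fun k hk => by
      have := bz k (p + 1) (by omega) le_rfl
      rw [uw k hk.le, ux] at this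
      rwa [a_symm]
    have hyk : ∀ k < p, T.a y (w k) = 0 := fun k hk => by
      have := bzu k (by omega) (by omega)
      rw [uw k hk.le] at this
      rwa [a_symm]
    have hflat := flat_fork hw (by omega) hxy (two_of_not_bad hx) (two_of_not_bad hy) hx' hy' hW hwx rfl hA hAx hAy
      honly (leaf x y hx hy hxy hax hay hx' hy' hxyz hxk)
      (leaf y x hy hx hxy.symm hay hax hy' hx' (by rw [a_symm]; exact hxyz) hyk)
    have : T.w c * T.m c ≤ K := by
      rw [← wp, hflat, hW p le_rfl, ← hW 0 (Nat.zero_le _)]; exact w0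
    linarith

theorem m_a_le (hmin : T.IsMinimal) (hg : 2 ≤ T.genus) (i j : Fin n) : T.m i * |T.a i j| ≤ 768 * T.genus := by
  rcases Nat.lt_or_ge 1 n with hn | hn
  · obtain ⟨-, hK⟩ := sum_bad T hmin hn
    have hdiag : ∀ k, T.m k * |T.a k k| ≤ 768 * T.genus := fun k => by
      by_cases hk : k ∈ bad T
      · have := le_trans (single_le_sum (f := fun i => T.m i * |T.a i i|)
          (fun i _ => mul_nonneg (T.m_pos i).le (abs_nonneg _)) hk) hK
        linarith
      · have h := X_le hmin hn hg hk
        rw [(two_of_not_bad hk).2, abs_mul, abs_of_pos (T.w_pos k)]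
        norm_num
        linarith
    rcases eq_or_ne i j with rfl | hij
    · exact hdiag i
    by_cases hp : 0 < T.a i j
    · rw [abs_of_pos hp]
      exact ((Groth.Agent.S2182.result T i j hp).1).trans (hdiag j)
    · rw [le_antisymm (not_lt.1 hp) (T.offDiag_nonneg i j hij)]
      simp; linarith
  · have := T.pos
    obtain rfl : n = 1 := by omega
    have hr := row_sum T 0
    rw [Fin.sum_univ_one] at hr
    rw [Subsingleton.elim i 0, Subsingleton.elim j 0, (mul_eq_zero.1 hr).resolve_right (T.m_pos 0).ne']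
    simp; linarith

end Groth.Agent.NumType
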