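import Groth.Agent.NumType.Genus

/-!
# Contraction of a `(-1)`-index
-/

namespace Groth.Agent.NumType

open Finset Models

variable {n : ℕ} {T : Models.NumericalType (n + 1)}

theorem pos_of_minusOne (h : T.IsMinusOne (Fin.last n)) : 0 < n := by
  by_contra hn
  obtain rfl : n = 0 := by omega
  have hr := row_sum T (Fin.last 0)
  rw [Fin.sum_univ_one, show (0 : Fin 1) = Fin.last 0 from rfl, h.2] at hr
  have := T.w_pos (Fin.last 0)
  have := T.m_pos (Fin.last 0)
  nlinarith

/-- `a i l = w l * (a l i / w l)`. -/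
theorem w_mul_p (T : Models.NumericalType (n + 1)) (i : Fin n) :
    T.w (Fin.last n) * c T (Fin.last n) i.castSucc = T.a i.castSucc (Fin.last n) := by
  rw [w_mul_c, a_symm]

theorem a_contract (h : T.IsMinusOne (Fin.last n)) (i j : Fin n) :
    T.a i.castSucc j.castSucc -
      T.a i.castSucc (Fin.last n) * T.a j.castSucc (Fin.last n) / T.a (Fin.last n) (Fin.last n) =
    T.a i.castSucc j.castSucc + T.a i.castSucc (Fin.last n) * c T (Fin.last n) j.castSucc := by
  rw [h.2, ← w_mul_p T j, Int.ediv_neg, mul_left_comm (T.a i.castSucc (Fin.last n)) (T.w (Fin.last n)),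
    Int.mul_ediv_cancel_left _ (T.w_pos _).ne']
  ring

/-- The parity condition in the definition of the contracted weights. -/
def Halved (T : Models.NumericalType (n + 1)) (i : Fin n) : Prop :=
  2 ∣ c T (Fin.last n) i.castSucc ∧ ¬ 2 ∣ c T i.castSucc (Fin.last n)

theorem cond_iff (T : Models.NumericalType (n + 1)) (i : Fin n) :
    (2 ∣ T.a i.castSucc (Fin.last n) / T.w (Fin.last n) ∧
      ¬ 2 ∣ T.a i.castSucc (Fin.last n) / T.w i.castSucc) ↔ Halved T i := by
  rw [a_symm T i.castSucc (Fin.last n)]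
  constructor <;> intro ⟨h1, h2⟩ <;> refine ⟨h1, ?_⟩
  · show ¬ 2 ∣ T.a i.castSucc (Fin.last n) / T.w i.castSucc
    rwa [a_symm T i.castSucc (Fin.last n)]
  · have h2' : ¬ 2 ∣ T.a i.castSucc (Fin.last n) / T.w i.castSucc := h2
    rwa [a_symm T i.castSucc (Fin.last n)] at h2'

theorem even_of_halved {i : Fin n} (hc : Halved T i) : 2 ∣ T.w i.castSucc := by
  have h1 := w_mul_p T i
  have h2 := w_mul_c T i.castSucc (Fin.last n)
  have hd : (2 : ℤ) ∣ T.w i.castSucc * c T i.castSucc (Fin.last n) := by
    rw [h2, ← h1]; exact Dvd.dvd.mul_left hc.1 _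
  exact (Int.prime_two.dvd_or_dvd hd).resolve_right hc.2

/-- The data of the contracted weight and genus at an index. -/
theorem wg (h : T.IsMinusOne (Fin.last n)) (i : Fin n) {w' g' : ℤ}
    (hw' : w' = if 2 ∣ T.a i.castSucc (Fin.last n) / T.w (Fin.last n) ∧
          ¬ 2 ∣ T.a i.castSucc (Fin.last n) / T.w i.castSucc
      then T.w i.castSucc / 2 else T.w i.castSucc)
    (hg' : g' = T.w i.castSucc / w' * (T.g i.castSucc - 1) + 1 +
      (T.a i.castSucc (Fin.last n) ^ 2 - T.w (Fin.last n) * T.a i.castSucc (Fin.last n)) /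
        (2 * w' * T.w (Fin.last n))) :
    0 < w' ∧ w' ∣ T.w i.castSucc ∧ 0 ≤ g' ∧
      2 * w' * (g' - 1) = 2 * T.w i.castSucc * (T.g i.castSucc - 1) +
        T.a i.castSucc (Fin.last n) * (c T (Fin.last n) i.castSucc - 1) := by
  have hA := w_mul_p T i
  have hB := w_mul_c T i.castSucc (Fin.last n)
  have hw := T.w_pos i.castSucc
  have hwl := T.w_pos (Fin.last n)
  have hg := T.g_nonneg i.castSucc
  have ha0 := T.offDiag_nonneg i.castSucc (Fin.last n) (Fin.castSucc_lt_last i).ne
  set p := c T (Fin.last n) i.castSucc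
  set q := c T i.castSucc (Fin.last n)
  set w := T.w i.castSucc
  set wl := T.w (Fin.last n)
  set a := T.a i.castSucc (Fin.last n)
  have hp : 0 ≤ p := by nlinarith
  have hq : 0 ≤ q := by nlinarith
  have hp0 : p = 0 → q = 0 := fun e => by
    rw [e, mul_zero] at hA
    rw [← hA] at hB
    exact (mul_eq_zero.1 hB).resolve_left hw.ne'
  have num : a ^ 2 - wl * a = wl * (w * (q * (p - 1))) := by
    linear_combination -(a - wl) * hB - w * q * hA
  by_cases hc : Halved T i
  · rw [if_pos ((cond_iff T i).2 hc)] at hw'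
    obtain ⟨u, hu⟩ := even_of_halved hc
    have hu' : w' = u := by rw [hw']; change w / 2 = u; rw [show w = 2 * u from hu]; omega
    have hu0 : 0 < u := by linarith [show w = 2 * u from hu]
    have hdiv : (a ^ 2 - wl * a) / (2 * w' * wl) = q * (p - 1) := by
      rw [num, hu', show w = 2 * u from hu]
      exact Int.ediv_eq_of_eq_mul_left (by positivity) (by ring)
    have hq2 : w / w' = 2 := by
      rw [hu', show w = 2 * u from hu]; exact Int.ediv_eq_of_eq_mul_left hu0.ne' rfl
    rw [hdiv, hq2] at hg'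
    refine ⟨hu'.symm ▸ hu0, hu' ▸ ⟨2, by rw [show w = 2 * u from hu]; ring⟩, ?_, ?_⟩
    · obtain ⟨k, hk⟩ := hc.1
      have hq1 : 1 ≤ q := by
        rcases Nat.eq_zero_or_pos q.toNat with e | e
        · exact absurd (show (2 : ℤ) ∣ q by rw [show q = 0 by omega]; exact dvd_zero _) hc.2
        · omega
      have hp2 : 2 ≤ p := by
        rcases (show k = 0 ∨ 1 ≤ k by omega) with e | e
        · exact absurd (hp0 (by rw [show p = 2 * k from hk, e, mul_zero])) (by omega)
        · rw [show p = 2 * k from hk]; omega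
      nlinarith
    · rw [hg', hu', show w = 2 * u from hu]
      rw [← hB, show w = 2 * u from hu]
      ring
  · rw [if_neg (fun hh => hc ((cond_iff T i).1 hh))] at hw'
    change w' = w at hw'
    obtain ⟨s, hs⟩ : (2 : ℤ) ∣ q * (p - 1) := by
      by_cases h2 : 2 ∣ q
      · exact Dvd.dvd.mul_right h2 _
      · have h1 : ¬ 2 ∣ p := fun h1 => hc ⟨h1, h2⟩
        exact Dvd.dvd.mul_left (show (2 : ℤ) ∣ p - 1 by omega) _
    have hdiv : (a ^ 2 - wl * a) / (2 * w' * wl) = s := by
      rw [num, hw', hs]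
      exact Int.ediv_eq_of_eq_mul_left (by positivity) (by ring)
    rw [hdiv, hw', Int.ediv_self hw.ne'] at hg'
    refine ⟨hw' ▸ hw, hw' ▸ dvd_rfl, ?_, ?_⟩
    · rcases (show p = 0 ∨ 1 ≤ p by omega) with e | e
      · rw [hp0 e] at hs; linarith
      · nlinarith
    · rw [hg', hw', ← hB]
      linear_combination -w * hs

theorem exists_contraction (h : T.IsMinusOne (Fin.last n)) :
    ∃ T' : Models.NumericalType n, T.IsContraction T' := by
  let a' : Matrix (Fin n) (Fin n) ℤ := fun i j => T.a i.castSucc j.castSucc -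
    T.a i.castSucc (Fin.last n) * T.a j.castSucc (Fin.last n) / T.a (Fin.last n) (Fin.last n)
  let w' : Fin n → ℤ := fun i => if 2 ∣ T.a i.castSucc (Fin.last n) / T.w (Fin.last n) ∧
      ¬ 2 ∣ T.a i.castSucc (Fin.last n) / T.w i.castSucc then T.w i.castSucc / 2 else T.w i.castSucc
  let g' : Fin n → ℤ := fun i => T.w i.castSucc / w' i * (T.g i.castSucc - 1) + 1 +
    (T.a i.castSucc (Fin.last n) ^ 2 - T.w (Fin.last n) * T.a i.castSucc (Fin.last n)) /
      (2 * w' i * T.w (Fin.last n))
  have ha : ∀ i j, a' i j = T.a i.castSucc j.castSucc +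
      T.a i.castSucc (Fin.last n) * c T (Fin.last n) j.castSucc := fun i j => a_contract h i j
  have hnl : ∀ i : Fin n, i.castSucc ≠ Fin.last n := fun i => (Fin.castSucc_lt_last i).ne
  have hc0 : ∀ i : Fin n, 0 ≤ c T (Fin.last n) i.castSucc := fun i => c_nonneg T (hnl i).symm
  have hoff : ∀ i j, i ≠ j → 0 ≤ a' i j := fun i j hij => by
    rw [ha]
    have := T.offDiag_nonneg _ _ (fun e => hij (Fin.castSucc_injective _ e))
    have := T.offDiag_nonneg _ _ (hnl i)
    have := hc0 j
    positivity
  refine ⟨⟨fun i => T.m i.castSucc, a', w', g', pos_of_minusOne h, fun i => T.m_pos _, fun i => (wg h i rfl rfl).1,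
    fun i => (wg h i rfl rfl).2.2.1, ?_, hoff, ?_, ?_, fun i j => ?_⟩,
    fun i => rfl, fun i j => rfl, fun i => rfl, fun i => rfl⟩
  · ext i j
    simp only [Matrix.transpose_apply, a']
    rw [a_symm T j.castSucc i.castSucc, mul_comm]
  · intro I hI hIu
    classical
    have hS : ∀ k : Fin n, k.castSucc ∈ I.image Fin.castSucc ↔ k ∈ I := fun k => by simp
    have hl : Fin.last n ∉ I.image Fin.castSucc := by simp [hnl]
    obtain ⟨i, hi, j, hj, hij⟩ := T.connected (I.image Fin.castSucc) (hI.image _)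
      (fun e => hl (e ▸ mem_univ _))
    obtain ⟨i, hi', rfl⟩ := mem_image.1 hi
    rcases Fin.eq_castSucc_or_eq_last j with ⟨j, rfl⟩ | rfl
    · refine ⟨i, hi', j, fun hh => hj ((hS j).2 hh), ?_⟩
      have hne : i ≠ j := fun e => hj ((hS j).2 (e ▸ hi'))
      rw [ha]
      have h1 := a_pos T (fun e => hne (Fin.castSucc_injective _ e)) hij
      have h2 := T.offDiag_nonneg _ _ (hnl i)
      have h3 := hc0 j
      positivity
    · -- go through the last index
      obtain ⟨k, hk, j, hj', hkj⟩ := T.connected (insert (Fin.last n) (I.image Fin.castSucc))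
        ⟨_, mem_insert_self _ _⟩ (fun e => by
          obtain ⟨z, hz⟩ : ∃ z, z ∉ I := by
            by_contra hh; push Not at hh; exact hIu (eq_univ_of_forall hh)
          have : z.castSucc ∈ insert (Fin.last n) (I.image Fin.castSucc) := by rw [e]; exact mem_univ _
          rcases mem_insert.1 this with e' | e'
          · exact hnl z e'
          · exact hz ((hS z).1 e'))
      rcases Fin.eq_castSucc_or_eq_last j with ⟨j, rfl⟩ | rfl
      swap
      · exact absurd (mem_insert_self _ _) hj'
      have hjI : j ∉ I := fun hh => hj' (mem_insert_of_mem ((hS j).2 hh))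
      rcases mem_insert.1 hk with rfl | hk
      · refine ⟨i, hi', j, hjI, ?_⟩
        rw [ha]
        have h1 := T.offDiag_nonneg _ _ (fun e => hjI ((Fin.castSucc_injective _ e) ▸ hi') : i.castSucc ≠ j.castSucc)
        have h2 := a_pos T (hnl i) hij
        have h3 : 1 ≤ c T (Fin.last n) j.castSucc := one_le_c T (a_pos T (hnl j).symm hkj)
        nlinarith
      · obtain ⟨k, hk', rfl⟩ := mem_image.1 hk
        refine ⟨k, hk', j, hjI, ?_⟩
        rw [ha]
        have hne : k ≠ j := fun e => hjI (e ▸ hk')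
        have h1 := a_pos T (fun e => hne (Fin.castSucc_injective _ e)) hkj
        have h2 := T.offDiag_nonneg _ _ (hnl k)
        have h3 := hc0 j
        positivity
  · funext i
    simp only [Matrix.mulVec, dotProduct, Pi.zero_apply, ha]
    have h1 := row_sum T i.castSucc
    have h2 := row_sum T (Fin.last n)
    rw [Fin.sum_univ_castSucc] at h1 h2
    rw [h.2] at h2
    have e : ∀ j : Fin n, T.a (Fin.last n) j.castSucc * T.m j.castSucc =
        T.w (Fin.last n) * (c T (Fin.last n) j.castSucc * T.m j.castSucc) := fun j => by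
      rw [← mul_assoc, w_mul_c]
    simp only [e, ← mul_sum] at h2
    have h3 : ∑ j : Fin n, c T (Fin.last n) j.castSucc * T.m j.castSucc = T.m (Fin.last n) := by
      refine mul_left_cancel₀ (T.w_pos (Fin.last n)).ne' ?_; linarith
    simp only [add_mul, sum_add_distrib, mul_assoc, ← mul_sum, h3]
    linarith
  · rw [ha]
    refine dvd_trans (wg h i rfl rfl).2.1 (dvd_add (T.w_dvd _ _) (Dvd.dvd.mul_right (T.w_dvd _ _) _))

theorem genus_contraction (h : T.IsMinusOne (Fin.last n)) (T' : Models.NumericalType n)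
    (hT' : T.IsContraction T') : T'.genus = T.genus := by
  obtain ⟨hm, ha, hw, hg⟩ := hT'
  have hsum := two_genus T
  rw [Fin.sum_univ_castSucc] at hsum
  have hsum' := two_genus T'
  have hl : contrib T (Fin.last n) = -(T.m (Fin.last n) * T.w (Fin.last n)) := by
    rw [contrib, h.1, h.2]; ring
  have e : ∀ i, contrib T' i =
      contrib T i.castSucc - T.m i.castSucc * T.a i.castSucc (Fin.last n) := fun i => by
    rw [contrib, contrib, hm, ha, a_contract h, (wg h i (hw i) (hg i)).2.2.2]
    ring
  have h2 := row_sum T (Fin.last n)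
  rw [Fin.sum_univ_castSucc, h.2] at h2
  have e' : ∑ i : Fin n, T.m i.castSucc * T.a i.castSucc (Fin.last n) =
      ∑ i : Fin n, T.a (Fin.last n) i.castSucc * T.m i.castSucc :=
    sum_congr rfl fun i _ => by rw [a_symm T i.castSucc, mul_comm]
  simp only [e, sum_sub_distrib, e'] at hsum'
  rw [hl] at hsum
  linarith

end Groth.Agent.NumType
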