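import Groth.Agent.NumType.Genus

/-!
# Bounds for minimal numerical types
-/

namespace Groth.Agent.NumType

open Finset Models

variable {n : ℕ} (T : Models.NumericalType n)

/-- The neighbours of `i` inside `S`. -/
def nbrs (S : Finset (Fin n)) (i : Fin n) : Finset (Fin n) := S.filter fun j => j ≠ i ∧ 0 < T.a i j

/-- `2 (edges - vertices)` of the subgraph on `S`. -/
def excess (S : Finset (Fin n)) : ℤ := ∑ i ∈ S, ((#(nbrs T S i) : ℤ) - 2)

theorem excess_univ : excess T univ = 2 * (T.edgeCount : ℤ) - 2 * n := by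
  classical
  let E : Finset (Fin n × Fin n) := univ.filter fun p => p.1 < p.2 ∧ 0 < T.a p.1 p.2
  let E' : Finset (Fin n × Fin n) := univ.filter fun p => p.2 < p.1 ∧ 0 < T.a p.1 p.2
  have hA : ∀ i, #(nbrs T univ i) =
      ∑ j, ((if i < j ∧ 0 < T.a i j then 1 else 0) + (if j < i ∧ 0 < T.a i j then 1 else 0) : ℕ) := fun i => by
    rw [nbrs, card_filter]
    refine sum_congr rfl fun j _ => ?_
    rcases lt_trichotomy i j with h | h | h
    · simp [h, h.ne', not_lt.2 h.le]
    · simp [h]
    · simp [h, h.ne, not_lt.2 h.le]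
  have h1 : ∑ i, #(nbrs T univ i) = #E + #E' := by
    simp only [hA, sum_add_distrib, E, E', card_filter, Fintype.sum_prod_type]
  have h2 : #E' = #E := by
    refine card_bij (fun p _ => (p.2, p.1)) (fun p hp => ?_) (fun p _ q _ h => ?_) (fun p hp => ?_)
    · simp only [E', E, mem_filter, mem_univ, true_and] at hp ⊢
      exact ⟨hp.1, by rw [a_symm]; exact hp.2⟩
    · simp only [Prod.mk.injEq] at h
      exact Prod.ext h.2 h.1
    · simp only [E', E, mem_filter, mem_univ, true_and] at hp ⊢
      exact ⟨(p.2, p.1), ⟨hp.1, by rw [a_symm]; exact hp.2⟩, rfl⟩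
  have h3 : (∑ i, (#(nbrs T univ i) : ℤ)) = 2 * (T.edgeCount : ℤ) := by
    rw [← Nat.cast_sum, h1, h2]
    simp only [Models.NumericalType.edgeCount, E]
    push_cast
    ring
  rw [excess, sum_sub_distrib, h3, sum_const, card_univ, Fintype.card_fin]
  simp
  ring

theorem excess_erase (S : Finset (Fin n)) {k : Fin n} (hk : k ∈ S) :
    excess T (S.erase k) = excess T S - 2 * ((#(nbrs T S k) : ℤ) - 1) := by
  classical
  have h : ∀ i ∈ S.erase k, (#(nbrs T (S.erase k) i) : ℤ) - 2 =
      ((#(nbrs T S i) : ℤ) - 2) - if i ∈ nbrs T S k then 1 else 0 := fun i hi => by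
    obtain ⟨hik, hiS⟩ := mem_erase.1 hi
    have e : nbrs T (S.erase k) i = (nbrs T S i).erase k := filter_erase _ _ _
    rw [e]
    by_cases hc : i ∈ nbrs T S k
    · rw [if_pos hc]
      have hki : k ∈ nbrs T S i := by
        simp only [nbrs, mem_filter] at hc ⊢
        exact ⟨hk, hik.symm, by rw [a_symm]; exact hc.2.2⟩
      rw [card_erase_of_mem hki]
      have := card_pos.2 ⟨k, hki⟩
      omega
    · rw [if_neg hc, erase_eq_of_notMem]
      · ring
      intro hki
      simp only [nbrs, mem_filter] at hc hki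
      exact hc ⟨hiS, hik, by rw [a_symm]; exact hki.2.2⟩
  have e2 : (S.erase k).filter (fun i => i ∈ nbrs T S k) = nbrs T S k := by
    ext x
    simp only [nbrs, mem_filter, mem_erase]
    tauto
  rw [excess, excess, sum_congr rfl h, sum_sub_distrib, ← add_sum_erase S _ hk, sum_boole, e2]
  push_cast
  ring

/-- Every graph with more edges than vertices has a core with all degrees at least two and no fewer excess. -/
theorem exists_core : ∃ S : Finset (Fin n), excess T univ ≤ excess T S ∧ ∀ i ∈ S, 2 ≤ #(nbrs T S i) := by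
  classical
  obtain ⟨S, hS, hmin⟩ := exists_min_image
    ((univ : Finset (Finset (Fin n))).filter fun S => excess T univ ≤ excess T S) card
    ⟨univ, mem_filter.2 ⟨mem_univ _, le_rfl⟩⟩
  refine ⟨S, (mem_filter.1 hS).2, fun k hk => ?_⟩
  by_contra hc
  have h := excess_erase T S hk
  have := hmin (S.erase k) (mem_filter.2 ⟨mem_univ _, by
    have := (mem_filter.1 hS).2
    omega⟩)
  rw [card_erase_of_mem hk] at this
  have := card_pos.2 ⟨k, hk⟩
  omega

theorem excess_le_contrib (hmin : T.IsMinimal) (hn : 1 < n) : excess T univ ≤ ∑ i, contrib T i := by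
  classical
  obtain ⟨S, hS, hdeg⟩ := exists_core T
  refine hS.trans (le_trans ?_ (sum_le_sum_of_subset_of_nonneg (subset_univ S)
    fun i _ _ => contrib_nonneg T hmin hn i))
  -- bound each contribution from below by the edges inside `S`
  have h1 : ∀ i ∈ S, (∑ j ∈ nbrs T S i, T.a i j * T.m j) - 2 * (T.w i * T.m i) ≤ contrib T i := fun i _ => by
    have h := row_ge T T.m (fun k => (T.m_pos k).le) i (nbrs T S i) (by simp [nbrs])
    rw [row_sum] at h
    have := T.g_nonneg i
    have := mul_pos (T.w_pos i) (T.m_pos i)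
    unfold contrib
    nlinarith
  refine le_trans ?_ (sum_le_sum h1)
  rw [sum_sub_distrib]
  have hswap : ∑ i ∈ S, ∑ j ∈ nbrs T S i, T.a i j * T.m j = ∑ i ∈ S, ∑ j ∈ nbrs T S i, T.a i j * T.m i := by
    rw [sum_comm' (t' := S) (s' := fun j => nbrs T S j)
      (h := fun i j => by
        simp only [nbrs, mem_filter]
        constructor
        · rintro ⟨h1, h2, h3, h4⟩
          exact ⟨⟨h1, h3.symm, by rw [a_symm]; exact h4⟩, h2⟩
        · rintro ⟨⟨h1, h3, h4⟩, h2⟩
          exact ⟨h1, h2, h3.symm, by rw [a_symm]; exact h4⟩)]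
    exact sum_congr rfl fun i _ => sum_congr rfl fun j _ => by rw [a_symm T j i]
  rw [hswap, ← sum_sub_distrib, excess]
  refine sum_le_sum fun i hi => ?_
  have hX : 1 ≤ T.w i * T.m i := mul_pos (T.w_pos i) (T.m_pos i)
  have h2 : (#(nbrs T S i) : ℤ) * (T.w i * T.m i) ≤ ∑ j ∈ nbrs T S i, T.a i j * T.m i := by
    calc (#(nbrs T S i) : ℤ) * (T.w i * T.m i) = ∑ _j ∈ nbrs T S i, T.w i * T.m i := by simp
      _ ≤ _ := sum_le_sum fun j hj =>
        mul_le_mul_of_nonneg_right (w_le_a T (mem_filter.1 hj).2.2) (T.m_pos i).le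
  have : (2 : ℤ) ≤ #(nbrs T S i) := by exact_mod_cast hdeg i hi
  nlinarith

theorem topGenus_le_genus (hmin : T.IsMinimal) (hn : 1 < n) : T.topGenus ≤ T.genus := by
  have h1 := excess_le_contrib T hmin hn
  have h2 := excess_univ T
  have h3 := two_genus T
  unfold Models.NumericalType.topGenus
  omega

/-- Indices which are not `(-2)`-indices. -/
noncomputable def bad : Finset (Fin n) :=
  haveI := Classical.decPred fun i => T.IsMinusTwo i
  univ.filter fun i => ¬ T.IsMinusTwo i

theorem mem_bad {i : Fin n} : i ∈ bad T ↔ ¬ T.IsMinusTwo i := by simp [bad]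

theorem contrib_bad (hmin : T.IsMinimal) (hn : 1 < n) {i : Fin n} (hi : i ∈ bad T) :
    1 ≤ contrib T i ∧ T.m i * |T.a i i| ≤ 3 * contrib T i := by
  have h0 := contrib_nonneg T hmin hn i
  have h1 : contrib T i ≠ 0 := fun h => (mem_bad T).1 hi (Groth.Agent.S7317.result T hn i h)
  refine ⟨by omega, ?_⟩
  have hd := diag_neg T hn i
  have hg := T.g_nonneg i
  have hm := T.m_pos i
  have hw := T.w_pos i
  rw [abs_of_neg hd]
  rcases (show T.g i = 0 ∨ 1 ≤ T.g i by omega) with g0 | g1
  · have hpos : 0 < contrib T i := by omega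
    unfold contrib at hpos ⊢
    rw [g0] at hpos ⊢
    have hc := w_mul_c T i i
    have h' : T.a i i < -2 * T.w i := by
      by_contra hh
      have := mul_nonpos_of_nonneg_of_nonpos hm.le (show 2 * T.w i * (0 - 1) - T.a i i ≤ 0 by linarith)
      linarith
    have hc2 : c T i i < -2 := by nlinarith
    have h3 : T.a i i ≤ -3 * T.w i := by
      rw [← hc]
      have := mul_le_mul_of_nonneg_left (show c T i i ≤ -3 by omega) hw.le
      linarith
    nlinarith [mul_le_mul_of_nonneg_left h3 hm.le]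
  · unfold contrib
    nlinarith [mul_nonneg hw.le (show (0 : ℤ) ≤ T.g i - 1 by omega)]

theorem sum_bad (hmin : T.IsMinimal) (hn : 1 < n) :
    (#(bad T) : ℤ) ≤ 2 * T.genus - 2 ∧ ∑ i ∈ bad T, T.m i * |T.a i i| ≤ 6 * T.genus - 6 := by
  have hle : ∑ i ∈ bad T, contrib T i ≤ 2 * T.genus - 2 := by
    rw [two_genus]
    exact sum_le_sum_of_subset_of_nonneg (subset_univ _) fun i _ _ => contrib_nonneg T hmin hn i
  constructor
  · calc (#(bad T) : ℤ) = ∑ _i ∈ bad T, (1 : ℤ) := by simp
      _ ≤ _ := sum_le_sum fun i hi => (contrib_bad T hmin hn hi).1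
      _ ≤ _ := hle
  · calc ∑ i ∈ bad T, T.m i * |T.a i i| ≤ ∑ i ∈ bad T, 3 * contrib T i :=
          sum_le_sum fun i hi => (contrib_bad T hmin hn hi).2
      _ ≤ _ := by rw [← mul_sum]; linarith

end Groth.Agent.NumType
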