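import Groth.Agent.NumType.Classify

/-!
# Normal forms of genus one numerical types
-/

namespace Groth.Agent.NumType

open Finset Models

variable {n : ℕ} {T : Models.NumericalType n}

variable (T) in
/-- `T` is, up to a permutation and two scalars, given by the functions `μ`, `ω`, `α`. -/
structure Form (σ : Equiv.Perm (Fin n)) (m w : ℤ) (μ ω : ℕ → ℤ) (α : ℕ → ℕ → ℤ) : Prop where
  hm : ∀ i : Fin n, T.m (σ i) = μ i.val * m
  hw : ∀ i : Fin n, T.w (σ i) = ω i.val * w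
  hd : ∀ i : Fin n, T.a (σ i) (σ i) = -2 * (ω i.val * w)
  ha : ∀ i j : Fin n, i.val < j.val → T.a (σ i) (σ j) = α i.val j.val * w

variable (T) in
/-- Existence of a normal form. -/
def HasForm (μ ω : ℕ → ℤ) (α : ℕ → ℕ → ℤ) : Prop := ∃ σ m w, Form T σ m w μ ω α

namespace Sh

/-- cycle: multiplicities -/
def cM : ℕ → ℤ := fun _ => 1
/-- cycle: entries -/
def cA (n : ℕ) : ℕ → ℕ → ℤ := fun i j => if j = i + 1 ∨ (i = 0 ∧ j + 1 = n) then 1 else 0
/-- multiplicities: all `2` but the last -/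
def m221 (n : ℕ) : ℕ → ℤ := fun i => if i + 1 = n then 1 else 2
/-- weights of the family `(w, 2w, …, 2w, 4w)` -/
def w124 (n : ℕ) : ℕ → ℤ := fun i => if i = 0 then 1 else if i + 1 = n then 4 else 2
/-- entries of the family `(w, 2w, …, 2w, 4w)` -/
def a124 (n : ℕ) : ℕ → ℕ → ℤ := fun i j => if j = i + 1 then (if j + 1 = n then 4 else 2) else 0
/-- weights of the family `(w, 2w, …, 2w, w)` -/
def w121 (n : ℕ) : ℕ → ℤ := fun i => if i = 0 ∨ i + 1 = n then 1 else 2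
/-- entries of the family `(w, 2w, …, 2w, w)` -/
def a121 : ℕ → ℕ → ℤ := fun i j => if j = i + 1 then 2 else 0
/-- multiplicities `(m, 2m, …, 2m, m)` -/
def m121 (n : ℕ) : ℕ → ℤ := fun i => if i = 0 ∨ i + 1 = n then 1 else 2
/-- weights `(2w, w, …, w, 2w)` -/
def w212 (n : ℕ) : ℕ → ℤ := fun i => if i = 0 ∨ i + 1 = n then 2 else 1
/-- entries of the family `(2w, w, …, w, 2w)` -/
def a212 (n : ℕ) : ℕ → ℕ → ℤ := fun i j => if j = i + 1 then (if i = 0 ∨ j + 1 = n then 2 else 1) else 0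
/-- multiplicities `(m, 2m, …, 2m, m, m)` -/
def m1211 (n : ℕ) : ℕ → ℤ := fun i => if i = 0 ∨ n ≤ i + 2 then 1 else 2
/-- weights `(2w, w, …, w)` -/
def w21 : ℕ → ℤ := fun i => if i = 0 then 2 else 1
/-- entries of the long leaf and fork family -/
def aLF (n : ℕ) : ℕ → ℕ → ℤ := fun i j =>
  if i = 0 ∧ j = 1 then 2 else if (j = i + 1 ∧ j + 2 ≤ n) ∨ (i + 3 = n ∧ j + 1 = n) then 1 else 0
/-- multiplicities `(2m, …, 2m, m, m)` -/
def m2211 (n : ℕ) : ℕ → ℤ := fun i => if n ≤ i + 2 then 1 else 2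
/-- weights `(w, 2w, …, 2w)` -/
def w12 : ℕ → ℤ := fun i => if i = 0 then 1 else 2
/-- entries of the short leaf and fork family -/
def aSF (n : ℕ) : ℕ → ℕ → ℤ := fun i j =>
  if (j = i + 1 ∧ j + 2 ≤ n) ∨ (i + 3 = n ∧ j + 1 = n) then 2 else 0
/-- multiplicities of the double fork -/
def mFF (n : ℕ) : ℕ → ℤ := fun i => if i ≤ 1 ∨ n ≤ i + 2 then 1 else 2
/-- entries of the double fork -/
def aFF (n : ℕ) : ℕ → ℕ → ℤ := fun i j =>
  if (i = 0 ∧ j = 2) ∨ (i = 1 ∧ j = 2) ∨ (j = i + 1 ∧ 2 ≤ i ∧ j + 2 ≤ n) ∨ (i + 3 = n ∧ j + 1 = n) then 1 else 0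
/-- a list as a function -/
def ofList (l : List ℤ) : ℕ → ℤ := fun i => l.getD i 0
/-- entries of an exceptional diagram -/
def ofEdges (E : List (ℕ × ℕ)) : ℕ → ℕ → ℤ := fun i j => if (i, j) ∈ E ∨ (j, i) ∈ E then 1 else 0
/-- weights of `F4` (first kind) -/
def wF41 : ℕ → ℤ := ofList [1, 1, 1, 2, 2]
/-- weights of `F4` (second kind) -/
def wF42 : ℕ → ℤ := ofList [2, 2, 2, 1, 1]
/-- entries of `F4` (first kind) -/
def aF41 : ℕ → ℕ → ℤ := fun i j => if j = i + 1 then (if 2 ≤ i then 2 else 1) else 0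
/-- entries of `F4` (second kind) -/
def aF42 : ℕ → ℕ → ℤ := fun i j => if j = i + 1 then (if i ≤ 2 then 2 else 1) else 0

end Sh

open Sh in
variable (T) in
/-- The possible forms. -/
inductive Forms : Prop
  | cyc (h : HasForm T cM cM (cA n))
  | sl (h : HasForm T (m221 n) (w124 n) (a124 n))
  | ss (h : HasForm T cM (w121 n) a121)
  | ll (h : HasForm T (m121 n) (w212 n) (a212 n))
  | lf (h : HasForm T (m1211 n) w21 (aLF n))
  | sf (h : HasForm T (m2211 n) w12 (aSF n))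
  | ff (hn : 5 ≤ n) (h : HasForm T (mFF n) cM (aFF n))
  | f41 (hn : n = 5) (h : HasForm T (ofList [1, 2, 3, 2, 1]) wF41 aF41)
  | f42 (hn : n = 5) (h : HasForm T (ofList [1, 2, 3, 4, 2]) wF42 aF42)
  | e6 (hn : n = 7) (h : HasForm T (ofList [1, 2, 3, 1, 2, 1, 2]) cM (ofEdges eE6))
  | e7 (hn : n = 8) (h : HasForm T (ofList [1, 2, 3, 4, 3, 2, 1, 2]) cM (ofEdges eE7))
  | e8 (hn : n = 9) (h : HasForm T (ofList [1, 2, 3, 4, 5, 6, 4, 2, 3]) cM (ofEdges eE8))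

theorem HasForm.perm {μ ω μ' ω' : ℕ → ℤ} {α α' : ℕ → ℕ → ℤ} (h : HasForm T μ ω α) (τ : Equiv.Perm (Fin n))
    (hμ : ∀ i : Fin n, μ (τ i).val = μ' i.val) (hω : ∀ i : Fin n, ω (τ i).val = ω' i.val)
    (hα : ∀ i j : Fin n, i.val < j.val →
      ((τ i).val < (τ j).val ∧ α (τ i).val (τ j).val = α' i.val j.val) ∨
        ((τ j).val < (τ i).val ∧ α (τ j).val (τ i).val = α' i.val j.val)) : HasForm T μ' ω' α' := by
  obtain ⟨σ, m, w, hf⟩ := h
  refine ⟨τ.trans σ, m, w, fun i => ?_, fun i => ?_, fun i => ?_, fun i j hij => ?_⟩ <;>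
    simp only [Equiv.trans_apply]
  · rw [hf.hm, hμ]
  · rw [hf.hw, hω]
  · rw [hf.hd, hω]
  · rcases hα i j hij with ⟨h1, h2⟩ | ⟨h1, h2⟩
    · rw [hf.ha _ _ h1, h2]
    · rw [a_symm, hf.ha _ _ h1, h2]

/-- The position of an index in a chain with two ends: middle, left leaf, right leaf. -/
theorem Fam.mdata {k0 k1 : Kind} {σ : Equiv.Perm (Fin n)} {M W : ℤ} (h : Fam T k0 k1 σ M W) (i : Fin n) :
    (k0.size ≤ i.val ∧ i.val + k1.size < n ∧ T.m (σ i) = M ∧ T.w (σ i) = W) ∨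
      (i.val < k0.size ∧ ∃ j, LeafData T k0 M W (σ j) (σ i)) ∨
      (n ≤ i.val + k1.size ∧ ∃ j, LeafData T k1 M W (σ j) (σ i)) := by
  have := h.hn
  rcases lt_or_ge i.val k0.size with a | a
  · exact Or.inr (Or.inl ⟨a, ⟨k0.size, by omega⟩, h.left i _ a rfl⟩)
  rcases lt_or_ge (i.val + k1.size) n with b | b
  · exact Or.inl ⟨a, b, h.mid i a b⟩
  · exact Or.inr (Or.inr ⟨b, ⟨n - k1.size - 1, by omega⟩, h.right _ i (by simp only; omega) b⟩)

theorem Fam.adata {k0 k1 : Kind} {σ : Equiv.Perm (Fin n)} {M W : ℤ} (h : Fam T k0 k1 σ M W) (i j : Fin n)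
    (hij : i.val < j.val) :
    (k0.size ≤ i.val ∧ j.val = i.val + 1 ∧ j.val + k1.size < n ∧ T.a (σ i) (σ j) = W) ∨
      (i.val < k0.size ∧ j.val = k0.size ∧ LeafData T k0 M W (σ j) (σ i)) ∨
      (i.val + k1.size + 1 = n ∧ n ≤ j.val + k1.size ∧ LeafData T k1 M W (σ i) (σ j)) ∨
      (¬ (k0.size ≤ i.val ∧ j.val = i.val + 1 ∧ j.val + k1.size < n) ∧ ¬ (i.val < k0.size ∧ j.val = k0.size) ∧
        ¬ (i.val + k1.size + 1 = n ∧ n ≤ j.val + k1.size) ∧ T.a (σ i) (σ j) = 0) := by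
  by_cases c1 : k0.size ≤ i.val ∧ j.val = i.val + 1 ∧ j.val + k1.size < n
  · exact Or.inl ⟨c1.1, c1.2.1, c1.2.2, h.midE i j c1.1 c1.2.1 c1.2.2⟩
  by_cases c2 : i.val < k0.size ∧ j.val = k0.size
  · exact Or.inr (Or.inl ⟨c2.1, c2.2, h.left i j c2.1 c2.2⟩)
  by_cases c3 : i.val + k1.size + 1 = n ∧ n ≤ j.val + k1.size
  · exact Or.inr (Or.inr (Or.inl ⟨c3.1, c3.2, h.right i j c3.1 c3.2⟩))
  exact Or.inr (Or.inr (Or.inr ⟨c1, c2, c3, h.zero i j hij c1 c2 c3⟩))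

theorem forms_of_fam (hn : 4 ≤ n) (h2 : ∀ i, T.IsMinusTwo i) {σ : Equiv.Perm (Fin n)} {M W : ℤ}
    {k0 k1 : Kind} (h : Fam T k0 k1 σ M W)
    (hord : (k0 = .S ∨ k1 = .F) ∨ (k0 = .L ∧ k1 = .L)) : Forms T := by
  have hd : ∀ i, T.a (σ i) (σ i) = -2 * T.w (σ i) := fun i => a_diag T (h2 _)
  have hnn := h.hn
  set first : Fin n := ⟨0, by omega⟩
  set last : Fin n := ⟨n - 1, by omega⟩
  have hfirst : first.val = 0 := rfl
  have hlast : last.val = n - 1 := rfl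
  match k0, k1, hord with
  | .S, .L, _ =>
    refine .sl ⟨σ, T.m (σ last), T.w (σ first), fun i => ?_, fun i => ?_, fun i => ?_, fun i j hij => ?_⟩
    all_goals
      rcases h.mdata first with ⟨_, _, f1, f2⟩ | ⟨_, _, f1, f2, f3⟩ | ⟨_, _, f1, f2, f3⟩ <;>
        simp only [Kind.size] at * <;> try omega
    all_goals
      rcases h.mdata last with ⟨_, _, g1, g2⟩ | ⟨_, _, g1, g2, g3⟩ | ⟨_, _, g1, g2, g3⟩ <;>
        simp only [Kind.size] at * <;> try omega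
    · rcases h.mdata i with ⟨_, _, e1, e2⟩ | ⟨_, _, e1, e2, e3⟩ | ⟨_, _, e1, e2, e3⟩ <;>
        simp only [Kind.size] at * <;> simp only [Sh.m221] <;> split_ifs <;> first | omega | linarith
    · rcases h.mdata i with ⟨_, _, e1, e2⟩ | ⟨_, _, e1, e2, e3⟩ | ⟨_, _, e1, e2, e3⟩ <;>
        simp only [Kind.size] at * <;> simp only [Sh.w124] <;> split_ifs <;> first | omega | linarith
    · rcases h.mdata i with ⟨_, _, e1, e2⟩ | ⟨_, _, e1, e2, e3⟩ | ⟨_, _, e1, e2, e3⟩ <;>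
        simp only [Kind.size] at * <;> simp only [Sh.w124, hd] <;> split_ifs <;> first | omega | linarith
    · rcases h.adata i j hij with ⟨_, _, _, e⟩ | ⟨_, _, e1, e2, e⟩ | ⟨_, _, e1, e2, e⟩ | ⟨_, _, _, e⟩ <;>
        simp only [Kind.size] at * <;> simp only [Sh.a124] <;> split_ifs <;>
        first | omega | linarith | (rw [a_symm]; linarith)
  | .S, .S, _ =>
    refine .ss ⟨σ, M, T.w (σ first), fun i => ?_, fun i => ?_, fun i => ?_, fun i j hij => ?_⟩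
    all_goals
      rcases h.mdata first with ⟨_, _, f1, f2⟩ | ⟨_, _, f1, f2, f3⟩ | ⟨_, _, f1, f2, f3⟩ <;>
        simp only [Kind.size] at * <;> try omega
    · rcases h.mdata i with ⟨_, _, e1, e2⟩ | ⟨_, _, e1, e2, e3⟩ | ⟨_, _, e1, e2, e3⟩ <;>
        simp only [Kind.size] at * <;> simp only [Sh.cM] <;> linarith
    · rcases h.mdata i with ⟨_, _, e1, e2⟩ | ⟨_, _, e1, e2, e3⟩ | ⟨_, _, e1, e2, e3⟩ <;>
        simp only [Kind.size] at * <;> simp only [Sh.w121] <;> split_ifs <;> first | omega | linarith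
    · rcases h.mdata i with ⟨_, _, e1, e2⟩ | ⟨_, _, e1, e2, e3⟩ | ⟨_, _, e1, e2, e3⟩ <;>
        simp only [Kind.size] at * <;> simp only [Sh.w121, hd] <;> split_ifs <;> first | omega | linarith
    · rcases h.adata i j hij with ⟨_, _, _, e⟩ | ⟨_, _, e1, e2, e⟩ | ⟨_, _, e1, e2, e⟩ | ⟨_, _, _, e⟩ <;>
        simp only [Kind.size] at * <;> simp only [Sh.a121] <;> split_ifs <;>
        first | omega | linarith | (rw [a_symm]; linarith)
  | .L, .L, _ =>
    refine .ll ⟨σ, T.m (σ first), W, fun i => ?_, fun i => ?_, fun i => ?_, fun i j hij => ?_⟩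
    all_goals
      rcases h.mdata first with ⟨_, _, f1, f2⟩ | ⟨_, _, f1, f2, f3⟩ | ⟨_, _, f1, f2, f3⟩ <;>
        simp only [Kind.size] at * <;> try omega
    · rcases h.mdata i with ⟨_, _, e1, e2⟩ | ⟨_, _, e1, e2, e3⟩ | ⟨_, _, e1, e2, e3⟩ <;>
        simp only [Kind.size] at * <;> simp only [Sh.m121] <;> split_ifs <;> first | omega | linarith
    · rcases h.mdata i with ⟨_, _, e1, e2⟩ | ⟨_, _, e1, e2, e3⟩ | ⟨_, _, e1, e2, e3⟩ <;>
        simp only [Kind.size] at * <;> simp only [Sh.w212] <;> split_ifs <;> first | omega | linarith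
    · rcases h.mdata i with ⟨_, _, e1, e2⟩ | ⟨_, _, e1, e2, e3⟩ | ⟨_, _, e1, e2, e3⟩ <;>
        simp only [Kind.size] at * <;> simp only [Sh.w212, hd] <;> split_ifs <;> first | omega | linarith
    · rcases h.adata i j hij with ⟨_, _, _, e⟩ | ⟨_, _, e1, e2, e⟩ | ⟨_, _, e1, e2, e⟩ | ⟨_, _, _, e⟩ <;>
        simp only [Kind.size] at * <;> simp only [Sh.a212] <;> split_ifs <;>
        first | omega | linarith | (rw [a_symm]; linarith)
  | .L, .F, _ =>
    refine .lf ⟨σ, T.m (σ first), W, fun i => ?_, fun i => ?_, fun i => ?_, fun i j hij => ?_⟩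
    all_goals
      rcases h.mdata first with ⟨_, _, f1, f2⟩ | ⟨_, _, f1, f2, f3⟩ | ⟨_, _, f1, f2, f3⟩ <;>
        simp only [Kind.size] at * <;> try omega
    · rcases h.mdata i with ⟨_, _, e1, e2⟩ | ⟨_, _, e1, e2, e3⟩ | ⟨_, _, e1, e2, e3⟩ <;>
        simp only [Kind.size] at * <;> simp only [Sh.m1211] <;> split_ifs <;> first | omega | linarith
    · rcases h.mdata i with ⟨_, _, e1, e2⟩ | ⟨_, _, e1, e2, e3⟩ | ⟨_, _, e1, e2, e3⟩ <;>
        simp only [Kind.size] at * <;> simp only [Sh.w21] <;> split_ifs <;> first | omega | linarith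
    · rcases h.mdata i with ⟨_, _, e1, e2⟩ | ⟨_, _, e1, e2, e3⟩ | ⟨_, _, e1, e2, e3⟩ <;>
        simp only [Kind.size] at * <;> simp only [Sh.w21, hd] <;> split_ifs <;> first | omega | linarith
    · rcases h.adata i j hij with ⟨_, _, _, e⟩ | ⟨_, _, e1, e2, e⟩ | ⟨_, _, e1, e2, e⟩ | ⟨_, _, _, e⟩ <;>
        simp only [Kind.size] at * <;> simp only [Sh.aLF] <;> split_ifs <;>
        first | omega | linarith | (rw [a_symm]; linarith)
  | .S, .F, _ =>
    refine .sf ⟨σ, T.m (σ last), T.w (σ first), fun i => ?_, fun i => ?_, fun i => ?_, fun i j hij => ?_⟩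
    all_goals
      rcases h.mdata first with ⟨_, _, f1, f2⟩ | ⟨_, _, f1, f2, f3⟩ | ⟨_, _, f1, f2, f3⟩ <;>
        simp only [Kind.size] at * <;> try omega
    all_goals
      rcases h.mdata last with ⟨_, _, g1, g2⟩ | ⟨_, _, g1, g2, g3⟩ | ⟨_, _, g1, g2, g3⟩ <;>
        simp only [Kind.size] at * <;> try omega
    · rcases h.mdata i with ⟨_, _, e1, e2⟩ | ⟨_, _, e1, e2, e3⟩ | ⟨_, _, e1, e2, e3⟩ <;>
        simp only [Kind.size] at * <;> simp only [Sh.m2211] <;> split_ifs <;> first | omega | linarith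
    · rcases h.mdata i with ⟨_, _, e1, e2⟩ | ⟨_, _, e1, e2, e3⟩ | ⟨_, _, e1, e2, e3⟩ <;>
        simp only [Kind.size] at * <;> simp only [Sh.w12] <;> split_ifs <;> first | omega | linarith
    · rcases h.mdata i with ⟨_, _, e1, e2⟩ | ⟨_, _, e1, e2, e3⟩ | ⟨_, _, e1, e2, e3⟩ <;>
        simp only [Kind.size] at * <;> simp only [Sh.w12, hd] <;> split_ifs <;> first | omega | linarith
    · rcases h.adata i j hij with ⟨_, _, _, e⟩ | ⟨_, _, e1, e2, e⟩ | ⟨_, _, e1, e2, e⟩ | ⟨_, _, _, e⟩ <;>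
        simp only [Kind.size] at * <;> simp only [Sh.aSF] <;> split_ifs <;>
        first | omega | linarith | (rw [a_symm]; linarith)
  | .F, .F, _ =>
    refine .ff (by simp only [Kind.size] at hnn; omega)
      ⟨σ, T.m (σ first), W, fun i => ?_, fun i => ?_, fun i => ?_, fun i j hij => ?_⟩
    all_goals
      rcases h.mdata first with ⟨_, _, f1, f2⟩ | ⟨_, _, f1, f2, f3⟩ | ⟨_, _, f1, f2, f3⟩ <;>
        simp only [Kind.size] at * <;> try omega
    · rcases h.mdata i with ⟨_, _, e1, e2⟩ | ⟨_, _, e1, e2, e3⟩ | ⟨_, _, e1, e2, e3⟩ <;>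
        simp only [Kind.size] at * <;> simp only [Sh.mFF] <;> split_ifs <;> first | omega | linarith
    · rcases h.mdata i with ⟨_, _, e1, e2⟩ | ⟨_, _, e1, e2, e3⟩ | ⟨_, _, e1, e2, e3⟩ <;>
        simp only [Kind.size] at * <;> simp only [Sh.cM] <;> linarith
    · rcases h.mdata i with ⟨_, _, e1, e2⟩ | ⟨_, _, e1, e2, e3⟩ | ⟨_, _, e1, e2, e3⟩ <;>
        simp only [Kind.size] at * <;> simp only [Sh.cM, hd] <;> linarith
    · rcases h.adata i j hij with ⟨_, _, _, e⟩ | ⟨_, _, e1, e2, e⟩ | ⟨_, _, e1, e2, e⟩ | ⟨_, _, _, e⟩ <;>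
        simp only [Kind.size] at * <;> simp only [Sh.aFF] <;> split_ifs <;>
        first | omega | linarith | (rw [a_symm]; linarith)
  | .F, .S, h' => simp at h'
  | .F, .L, h' => simp at h'
  | .L, .S, h' => simp at h'

theorem exc_form {k : ℕ} {x : Fin k → ℕ} {cl : Fin k → Fin k → ℕ} (h : Exc T x cl)
    (μ ω : ℕ → ℤ) (α : ℕ → ℕ → ℤ) (p₀ q₀ : Fin k) (hp₀ : μ p₀.val = 1) (hq₀ : ω q₀.val = 1)
    (hμ : ∀ p : Fin k, μ p.val = x p) (r : Fin k → Fin k) (rk : Fin k → ℕ)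
    (hrk : ∀ p, p ≠ q₀ → rk (r p) < rk p)
    (hr : ∀ p, p ≠ q₀ → r p ≠ p ∧ 0 < cl (r p) p ∧ ω (r p).val * cl (r p) p = ω p.val * cl p (r p))
    (hα : ∀ p q : Fin k, p.val < q.val → α p.val q.val = cl p q * ω p.val) :
    n = k ∧ HasForm T μ ω α := by
  obtain ⟨v, rfl, hbij, h2, hm, ha⟩ := h.ex
  refine ⟨rfl, Equiv.ofBijective v hbij, T.m (v p₀), T.w (v q₀), ?_⟩
  have hx₀ : (x p₀ : ℤ) = 1 := by rw [← hμ, hp₀]
  have hw : ∀ p, T.w (v p) = ω p.val * T.w (v q₀) := by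
    suffices ∀ N p, rk p < N → T.w (v p) = ω p.val * T.w (v q₀) from fun p => this _ p (Nat.lt_succ_self _)
    intro N
    induction N with
    | zero => exact fun p h => absurd h (Nat.not_lt_zero _)
    | succ N ih =>
      intro p hp
      by_cases hpq : p = q₀
      · subst hpq; rw [hq₀, one_mul]
      obtain ⟨hne, hpos, heq⟩ := hr p hpq
      have e1 := ha (r p) p hne
      have e2 := ha p (r p) hne.symm
      rw [a_symm T (v p) (v (r p)), e1, ih (r p) (by have := hrk p hpq; omega)] at e2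
      have hpos' : 0 < cl p (r p) := by
        rcases Nat.eq_zero_or_pos (cl p (r p)) with e | e
        · exfalso
          rw [e, Nat.cast_zero, zero_mul] at e2
          have h1 : ω (r p).val * T.w (v q₀) = T.w (v (r p)) := (ih (r p) (by have := hrk p hpq; omega)).symm
          rw [h1] at e2
          have := T.w_pos (v (r p))
          have h3 : (0 : ℤ) < cl (r p) p := by exact_mod_cast hpos
          nlinarith
        · exact e
      refine mul_left_cancel₀ (a := (cl p (r p) : ℤ)) (by positivity) ?_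
      rw [← e2]
      linear_combination T.w (v q₀) * heq
  refine ⟨fun i => ?_, fun i => hw i, fun i => ?_, fun i j hij => ?_⟩ <;> simp only [Equiv.ofBijective_apply]
  · rw [hμ]
    have := hm i p₀
    rw [hx₀] at this
    linarith
  · rw [a_diag T (h2 i), hw i]
  · rw [ha i j (fun e => by simp [e] at hij), hw i, hα i j hij]; ring

theorem forms (hn : 4 ≤ n) (h2 : ∀ i, T.IsMinusTwo i) : Forms T := by
  rcases affine_class hn h2 with ⟨σ, M, W, h⟩ | ⟨k0, k1, σ, M, W, h⟩ | h | h | h | h | h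
  · refine .cyc ⟨σ, M, W, fun i => by simp [Sh.cM, h.hm], fun i => by simp [Sh.cM, h.hw],
      fun i => by simp [Sh.cM, a_diag T (h2 _), h.hw], fun i j hij => ?_⟩
    simp only [Sh.cA]
    split_ifs with e
    · rcases e with e | ⟨e, e'⟩
      · rw [h.edge i j e]; ring
      · rw [h.close i j e e']; ring
    · push Not at e
      rw [h.zero i j hij e.1 (fun c => e.2 c.1 c.2)]; ring
  · by_cases ho : (k0 = .S ∨ k1 = .F) ∨ (k0 = .L ∧ k1 = .L)
    · exact forms_of_fam hn h2 h ho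
    · refine forms_of_fam hn h2 h.swap ?_
      cases k0 <;> cases k1 <;> simp_all
  · obtain ⟨e, hf⟩ := exc_form h (Sh.ofList [1, 2, 3, 2, 1]) Sh.wF41 Sh.aF41 0 0 rfl rfl (by decide)
      ![0, 0, 1, 2, 3] Fin.val (by decide) (by decide) (by decide)
    exact .f41 e hf
  · obtain ⟨e, hf⟩ := exc_form h (Sh.ofList [1, 2, 3, 4, 2]) Sh.wF42 Sh.aF42 0 4 rfl rfl (by decide)
      ![1, 2, 3, 4, 4] (fun p => 4 - p.val) (by decide) (by decide) (by decide)
    exact .f42 e hf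
  · obtain ⟨e, hf⟩ := exc_form h (Sh.ofList [1, 2, 3, 1, 2, 1, 2]) Sh.cM (Sh.ofEdges eE6) 0 2 rfl rfl (by decide)
      ![1, 2, 2, 4, 2, 6, 2] ![2, 1, 0, 2, 1, 2, 1] (by decide) (by decide) (by decide)
    exact .e6 e hf
  · obtain ⟨e, hf⟩ := exc_form h (Sh.ofList [1, 2, 3, 4, 3, 2, 1, 2]) Sh.cM (Sh.ofEdges eE7) 0 0 rfl rfl (by decide)
      ![0, 0, 1, 2, 3, 4, 5, 3] Fin.val (by decide) (by decide) (by decide)
    exact .e7 e hf
  · obtain ⟨e, hf⟩ := exc_form h (Sh.ofList [1, 2, 3, 4, 5, 6, 4, 2, 3]) Sh.cM (Sh.ofEdges eE8) 0 0 rfl rfl (by decide)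
      ![0, 0, 1, 2, 3, 4, 5, 6, 5] Fin.val (by decide) (by decide) (by decide)
    exact .e8 e hf

end Groth.Agent.NumType
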