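import Groth.Agent.NumType.Basic
import Groth.Agent.S2173
import Groth.Agent.S7316
import Groth.Agent.S7317
import Mathlib.Combinatorics.SimpleGraph.Acyclic

/-!
# Genus of a numerical type, and its dual graph
-/

namespace Groth.Agent.NumType

open Finset Models

variable {n : ℕ} (T : Models.NumericalType n)

/-- The contribution of an index to `2 g - 2`. -/
def contrib (i : Fin n) : ℤ := T.m i * (2 * T.w i * (T.g i - 1) - T.a i i)

theorem two_genus : 2 * T.genus - 2 = ∑ i, contrib T i := by
  obtain ⟨k, hk⟩ := Groth.Agent.S2173.result T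
  have e : ∀ i, contrib T i = 2 * (T.m i * T.w i * (T.g i - 1)) - T.m i * T.a i i := fun i => by
    unfold contrib; ring
  simp only [e, sum_sub_distrib, ← mul_sum, Models.NumericalType.genus, hk]
  omega

theorem contrib_nonneg (hmin : T.IsMinimal) (hn : 1 < n) (i : Fin n) : 0 ≤ contrib T i :=
  not_lt.1 fun h => hmin i (Groth.Agent.S7316.result T hn i h)

theorem isMinusTwo_of_genus_one (hmin : T.IsMinimal) (hn : 1 < n) (hg : T.genus = 1) (i : Fin n) :
    T.IsMinusTwo i := by
  refine Groth.Agent.S7317.result T hn i ?_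
  have h := two_genus T
  rw [hg] at h
  exact (sum_eq_zero_iff_of_nonneg fun j _ => contrib_nonneg T hmin hn j).1 (by linarith) i (mem_univ _)

theorem one_le_genus (hmin : T.IsMinimal) (hn : 1 < n) : 1 ≤ T.genus := by
  have h := two_genus T
  have : 0 ≤ ∑ i, contrib T i := sum_nonneg fun j _ => contrib_nonneg T hmin hn j
  linarith

/-- The dual graph. -/
def graph : SimpleGraph (Fin n) where
  Adj i j := i ≠ j ∧ 0 < T.a i j
  symm := ⟨fun i j h => ⟨h.1.symm, a_symm T i j ▸ h.2⟩⟩
  loopless := ⟨fun _ h => h.1 rfl⟩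

theorem graph_connected : (graph T).Connected := by
  classical
  refine (SimpleGraph.connected_iff _).2 ⟨fun i j => ?_, ⟨⟨0, T.pos⟩⟩⟩
  by_contra hcon
  obtain ⟨p, hp, q, hq, hpq⟩ := T.connected (univ.filter fun k => (graph T).Reachable i k)
    ⟨i, by simp⟩ (fun hu => hcon (by
      have : j ∈ univ.filter fun k => (graph T).Reachable i k := by rw [hu]; exact mem_univ j
      exact (mem_filter.1 this).2))
  simp only [mem_filter, mem_univ, true_and] at hp hq
  have hne : p ≠ q := fun h => hq (h ▸ hp)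
  exact hq (hp.trans (SimpleGraph.Adj.reachable (G := graph T) ⟨hne, a_pos T hne hpq⟩))

theorem card_edgeSet : Nat.card (graph T).edgeSet = T.edgeCount := by
  classical
  rw [Models.NumericalType.edgeCount, ← Fintype.card_coe, ← Nat.card_eq_fintype_card]
  let e : {p : Fin n × Fin n // p ∈ univ.filter fun p => p.1 < p.2 ∧ 0 < T.a p.1 p.2} →
      (graph T).edgeSet := fun p => ⟨s(p.1.1, p.1.2), (mem_filter.1 p.2).2.1.ne, (mem_filter.1 p.2).2.2⟩
  refine (Nat.card_eq_of_bijective e ⟨fun p q h => ?_, fun s => ?_⟩).symm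
  · have hp := (mem_filter.1 p.2).2.1
    have hq := (mem_filter.1 q.2).2.1
    have h' := Sym2.eq_iff.1 (congrArg Subtype.val h)
    rcases h' with ⟨h1, h2⟩ | ⟨h1, h2⟩
    · exact Subtype.ext (Prod.ext h1 h2)
    · exfalso; rw [h1, h2] at hp; exact lt_asymm hp hq
  · obtain ⟨s, hs⟩ := s
    induction s using Sym2.ind with
    | _ i j =>
      obtain ⟨hne, hpos⟩ : i ≠ j ∧ 0 < T.a i j := hs
      rcases lt_or_gt_of_ne hne with h | h
      · exact ⟨⟨(i, j), by simp [h, hpos]⟩, rfl⟩
      · exact ⟨⟨(j, i), by simp [h, a_symm T j i, hpos]⟩, Subtype.ext Sym2.eq_swap⟩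

theorem topGenus_nonneg : 0 ≤ T.topGenus := by
  have := (graph_connected T).card_vert_le_card_edgeSet_add_one
  rw [card_edgeSet, Nat.card_fin] at this
  unfold Models.NumericalType.topGenus
  omega

end Groth.Agent.NumType
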