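import Mathlib.LinearAlgebra.BilinearForm.Orthogonal
import Mathlib.LinearAlgebra.Matrix.BilinearForm
import Mathlib.LinearAlgebra.Matrix.NonsingularInverse
import Mathlib.LinearAlgebra.Matrix.ToLinearEquiv
import Mathlib.LinearAlgebra.FreeModule.PID
import Mathlib.Algebra.Module.Projective
import Mathlib.Tactic

/-!
# Positive definite lattices
-/

namespace Groth.Agent.NumType.Lattice

open Matrix

/-- The map to the dual of a positive definite lattice has finite index. -/
theorem exists_smul_eq {M : Type*} [AddCommGroup M] [Module.Finite ℤ M] [Module.Free ℤ M]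
    (G : LinearMap.BilinForm ℤ M) (hpos : ∀ x, x ≠ 0 → 0 < G x x) (f : Module.Dual ℤ M) :
    ∃ (c : ℤ) (a : M), c ≠ 0 ∧ G a = c • f := by
  classical
  set b := Module.Free.chooseBasis ℤ M
  set N : Matrix _ _ ℤ := Matrix.of fun i j => G (b j) (b i) with hN
  have hkey : ∀ v i, G (∑ j, v j • b j) (b i) = (N *ᵥ v) i := fun v i => by
    simp [hN, Matrix.mulVec, dotProduct, LinearMap.sum_apply, mul_comm]
  have hdet : N.det ≠ 0 := fun h => by
    obtain ⟨v, hv, hv0⟩ := Matrix.exists_mulVec_eq_zero_iff.2 h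
    set x := ∑ j, v j • b j with hx
    have hx0 : x ≠ 0 := fun e => hv (funext fun j => by
      have := congrArg (fun z => b.repr z j) e
      simpa [hx, Finsupp.single_apply] using this)
    have h0 : G x = 0 := b.ext fun i => by rw [hx, hkey, hv0]; rfl
    have := hpos x hx0
    simp [h0] at this
  refine ⟨N.det, ∑ j, (N.adjugate *ᵥ fun i => f (b i)) j • b j, hdet, b.ext fun i => ?_⟩
  rw [hkey, Matrix.mulVec_mulVec, Matrix.mul_adjugate, Matrix.smul_mulVec, Matrix.one_mulVec]
  simp

/-- A functional on a saturated submodule extends. -/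
theorem exists_extend {L : Type*} [AddCommGroup L] [Module.Finite ℤ L] (A : Submodule ℤ L)
    (htf : ∀ (c : ℤ) (x : L), c ≠ 0 → c • x ∈ A → x ∈ A) (ψ : Module.Dual ℤ A) :
    ∃ φ : Module.Dual ℤ L, φ ∘ₗ A.subtype = ψ := by
  have : Module.IsTorsionFree ℤ (L ⧸ A) := by
    refine ⟨fun c hc x y h => ?_⟩
    induction x using Submodule.Quotient.induction_on with
    | _ x =>
      induction y using Submodule.Quotient.induction_on with
      | _ y =>
        simp only [← Submodule.Quotient.mk_smul, Submodule.Quotient.eq, ← smul_sub] at h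
        exact (Submodule.Quotient.eq _).2 (htf c _ hc.ne_zero h)
  haveI : Module.Free ℤ (L ⧸ A) := Module.free_of_finite_type_torsion_free'
  obtain ⟨s, hs⟩ := Module.projective_lifting_property A.mkQ LinearMap.id (Submodule.mkQ_surjective A)
  let r : L →ₗ[ℤ] A := LinearMap.codRestrict A (LinearMap.id - s ∘ₗ A.mkQ) fun x => by
    rw [← Submodule.Quotient.mk_eq_zero A, LinearMap.sub_apply, Submodule.Quotient.mk_sub]
    have := LinearMap.congr_fun hs (A.mkQ x)
    simp only [LinearMap.comp_apply, LinearMap.id_apply, Submodule.mkQ_apply] at this ⊢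
    rw [this, sub_self]
  refine ⟨ψ ∘ₗ r, LinearMap.ext fun a => ?_⟩
  simp only [LinearMap.comp_apply, Submodule.subtype_apply]
  congr 1
  apply Subtype.ext
  simp [r, (Submodule.Quotient.mk_eq_zero A).2 a.2]

/-- Saturated submodules are their own double orthogonals. -/
theorem mem_of_orthogonal {L : Type*} [AddCommGroup L] [Module.Finite ℤ L] [Module.Free ℤ L]
    (B : LinearMap.BilinForm ℤ L) (hsymm : B.IsSymm) (hpos : ∀ x, x ≠ 0 → 0 < B x x) (A : Submodule ℤ L)
    (htf : ∀ (c : ℤ) (x : L), c ≠ 0 → c • x ∈ A → x ∈ A) {y : L}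
    (hy : ∀ b ∈ B.orthogonal A, B y b = 0) : y ∈ A := by
  haveI : Module.Finite ℤ A := Module.Finite.iff_fg.2 (IsNoetherian.noetherian A)
  haveI : Module.Free ℤ A := Module.free_of_finite_type_torsion_free'
  obtain ⟨c, a, hc, h⟩ := exists_smul_eq (B.restrict A)
    (fun x hx => hpos x.1 (fun e => hx (Subtype.ext e))) ((B y).comp A.subtype)
  refine htf c y hc ?_
  have hb : c • y - (a : L) ∈ B.orthogonal A := by
    rw [LinearMap.BilinForm.mem_orthogonal_iff]
    intro z hz
    show B z (c • y - (a : L)) = 0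
    rw [hsymm.eq z, map_sub, map_smul, LinearMap.sub_apply, LinearMap.smul_apply]
    have := LinearMap.congr_fun h ⟨z, hz⟩
    simp only [LinearMap.smul_apply, LinearMap.comp_apply, Submodule.subtype_apply] at this
    rw [sub_eq_zero, ← this]
    rfl
  have h0 : B (c • y - (a : L)) (c • y - (a : L)) = 0 := by
    have h1 := hy _ hb
    have h2 : B (a : L) (c • y - (a : L)) = 0 := (LinearMap.BilinForm.mem_orthogonal_iff.1 hb) _ a.2
    set d := c • y - (a : L) with hd
    calc B d d = B d (c • y - (a : L)) := by rw [← hd]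
      _ = 0 := by rw [map_sub, map_smul, hsymm.eq d y, h1, hsymm.eq d (a : L), h2, smul_zero, sub_zero]
  rcases eq_or_ne (c • y - (a : L)) 0 with e | e
  · rw [sub_eq_zero.1 e]; exact a.2
  · exact absurd h0 (hpos _ e).ne'

end Groth.Agent.NumType.Lattice
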