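import Groth.Agent.NumType.Contract

/-!
# Picard groups and contraction
-/

namespace Groth.Agent.NumType

open Finset Models

variable {n : ℕ}

theorem picMatrix_mulVec (T : Models.NumericalType n) (y : Fin n → ℤ) (i : Fin n) :
    T.w i * (Matrix.mulVecLin T.picMatrix y) i = ∑ k, T.a i k * y k := by
  simp only [Matrix.mulVecLin_apply, Matrix.mulVec, dotProduct, mul_sum, ← mul_assoc, w_mul_c]

theorem contraction_pic {T : Models.NumericalType (n + 1)} (h : T.IsMinusOne (Fin.last n))
    (T' : Models.NumericalType n) (hT' : T.IsContraction T') :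
    ∃ f : T.Pic →+ T'.Pic, Function.Injective f ∧ ∀ y : T'.Pic, ∃ x : T.Pic, 2 • y = f x := by
  obtain ⟨-, ha, hw, hg⟩ := hT'
  have hwg := fun i => wg h i (hw i) (hg i)
  have hd : ∀ i, T'.w i ∣ T.w i.castSucc := fun i => (hwg i).2.1
  set r : Fin n → ℤ := fun i => T.w i.castSucc / T'.w i with hr
  have hr' : ∀ i, T'.w i * r i = T.w i.castSucc := fun i => Int.mul_ediv_cancel' (hd i)
  let F : (Fin (n + 1) → ℤ) →ₗ[ℤ] (Fin n → ℤ) := LinearMap.pi fun i =>
    r i • (LinearMap.proj i.castSucc + c T i.castSucc (Fin.last n) • LinearMap.proj (Fin.last n))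
  have hFw : ∀ x i, T'.w i * F x i =
      T.w i.castSucc * x i.castSucc + T.a i.castSucc (Fin.last n) * x (Fin.last n) := fun x i => by
    simp only [F, LinearMap.pi_apply, LinearMap.smul_apply, LinearMap.add_apply, LinearMap.proj_apply,
      smul_eq_mul, ← mul_assoc, hr', ← w_mul_c T i.castSucc (Fin.last n)]
    ring
  have ha' : ∀ i k, T'.a i k = T.a i.castSucc k.castSucc +
      T.a i.castSucc (Fin.last n) * c T (Fin.last n) k.castSucc := fun i k => by rw [ha, a_contract h]
  have hlast : ∀ z : Fin (n + 1) → ℤ, (Matrix.mulVecLin T.picMatrix z) (Fin.last n) =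
      (∑ k : Fin n, c T (Fin.last n) k.castSucc * z k.castSucc) - z (Fin.last n) := fun z => by
    simp only [Matrix.mulVecLin_apply, Matrix.mulVec, dotProduct]
    rw [Fin.sum_univ_castSucc]
    have hl : T.picMatrix (Fin.last n) (Fin.last n) = -1 := by
      refine mul_left_cancel₀ (T.w_pos (Fin.last n)).ne' ?_
      rw [show T.w (Fin.last n) * T.picMatrix (Fin.last n) (Fin.last n) = T.a (Fin.last n) (Fin.last n) from
        w_mul_c T _ _, h.2]
      ring
    rw [hl]
    ring
  have hcomm : ∀ z, F (Matrix.mulVecLin T.picMatrix z) =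
      Matrix.mulVecLin T'.picMatrix (fun k => z k.castSucc) := fun z => by
    funext i
    refine mul_left_cancel₀ (T'.w_pos i).ne' ?_
    rw [hFw, picMatrix_mulVec, picMatrix_mulVec, hlast, Fin.sum_univ_castSucc]
    simp only [ha', add_mul, sum_add_distrib, mul_assoc, ← mul_sum]
    ring
  refine ⟨(Submodule.mapQ _ _ F ?_).toAddMonoidHom, ?_, fun y => ?_⟩
  · rintro _ ⟨z, rfl⟩
    exact ⟨_, (hcomm z).symm⟩
  · refine (injective_iff_map_eq_zero _).2 fun q hq => ?_
    induction q using Submodule.Quotient.induction_on with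
    | _ x =>
      rw [LinearMap.toAddMonoidHom_coe, Submodule.mapQ_apply, Submodule.Quotient.mk_eq_zero] at hq
      obtain ⟨y, hy⟩ := hq
      rw [Submodule.Quotient.mk_eq_zero]
      set t : ℤ := (∑ k : Fin n, c T (Fin.last n) k.castSucc * y k) - x (Fin.last n)
      refine ⟨Fin.snoc y t, funext fun j => ?_⟩
      rcases Fin.eq_castSucc_or_eq_last j with ⟨i, rfl⟩ | rfl
      · refine mul_left_cancel₀ (T.w_pos i.castSucc).ne' ?_
        rw [picMatrix_mulVec, Fin.sum_univ_castSucc]
        simp only [Fin.snoc_castSucc, Fin.snoc_last]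
        have h1 := congrArg (fun v => T'.w i * v i) hy
        beta_reduce at h1
        rw [picMatrix_mulVec, hFw] at h1
        simp only [ha', add_mul, sum_add_distrib, mul_assoc, ← mul_sum] at h1
        linear_combination h1
      · rw [hlast]
        simp only [Fin.snoc_castSucc, Fin.snoc_last, t]
        ring
  · induction y using Submodule.Quotient.induction_on with
    | _ y =>
      have h2 : ∀ i, r i = 1 ∨ r i = 2 := fun i => by
        have hwi := hw i
        split_ifs at hwi with hc
        · right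
          obtain ⟨u, hu⟩ := even_of_halved ((cond_iff T i).1 hc)
          have hp := T'.w_pos i
          have := hr' i
          rw [hu] at hwi this
          have e : T'.w i = u := by omega
          rw [e] at this hp
          exact mul_left_cancel₀ hp.ne' (this.trans (mul_comm _ _))
        · left
          have := hr' i
          rw [hwi] at this
          exact mul_left_cancel₀ (T.w_pos i.castSucc).ne' (this.trans (mul_one _).symm)
      refine ⟨Submodule.Quotient.mk (Fin.snoc (fun i => if r i = 1 then 2 * y i else y i) 0), ?_⟩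
      rw [LinearMap.toAddMonoidHom_coe, Submodule.mapQ_apply, ← Submodule.Quotient.mk_smul]
      congr 1
      funext i
      rcases h2 i with e | e <;>
        simp [F, e, Fin.snoc_castSucc, Fin.snoc_last]

/-- Relabelling the indices. -/
def relabel (T : Models.NumericalType n) (σ : Equiv.Perm (Fin n)) : Models.NumericalType n where
  m i := T.m (σ i)
  a := fun i j => T.a (σ i) (σ j)
  w i := T.w (σ i)
  g i := T.g (σ i)
  pos := T.pos
  m_pos i := T.m_pos _
  w_pos i := T.w_pos _
  g_nonneg i := T.g_nonneg _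
  symm := by ext i j; exact T.symm.apply (σ i) (σ j)
  offDiag_nonneg i j h := T.offDiag_nonneg _ _ (fun e => h (σ.injective e))
  connected I hI hne := by
    classical
    obtain ⟨i, hi, j, hj, hij⟩ := T.connected (I.map σ.toEmbedding) (hI.map)
      (fun e => hne (eq_univ_of_forall fun k => by
        have : σ k ∈ I.map σ.toEmbedding := e ▸ mem_univ _
        simpa using this))
    refine ⟨σ.symm i, ?_, σ.symm j, ?_, by simpa using hij⟩
    · simpa using hi
    · simpa using hj
  mulVec_m := by
    funext i
    have h := row_sum T (σ i)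
    rw [← Equiv.sum_comp σ] at h
    simpa [Matrix.mulVec, dotProduct] using h
  w_dvd i j := T.w_dvd _ _

theorem genus_relabel (T : Models.NumericalType n) (σ : Equiv.Perm (Fin n)) :
    (relabel T σ).genus = T.genus := by
  simp only [Models.NumericalType.genus, relabel]
  rw [Equiv.sum_comp σ (fun i => T.m i * T.w i * (T.g i - 1)), Equiv.sum_comp σ (fun i => T.m i * T.a i i)]

theorem pic_relabel (T : Models.NumericalType n) (σ : Equiv.Perm (Fin n)) :
    ∃ f : T.Pic →+ (relabel T σ).Pic, Function.Injective f := by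
  let P : (Fin n → ℤ) ≃ₗ[ℤ] (Fin n → ℤ) := LinearEquiv.funCongrLeft ℤ ℤ σ
  have hP : ∀ x, P (Matrix.mulVecLin T.picMatrix x) = Matrix.mulVecLin (relabel T σ).picMatrix (P x) := fun x => by
    funext i
    simp only [P, LinearEquiv.funCongrLeft_apply, LinearMap.funLeft_apply, Matrix.mulVecLin_apply,
      Matrix.mulVec, dotProduct]
    rw [← Equiv.sum_comp σ]
    rfl
  refine ⟨(Submodule.Quotient.equiv _ _ P ?_).toAddEquiv.toAddMonoidHom,
    (Submodule.Quotient.equiv _ _ P _).toAddEquiv.injective⟩
  ext y
  constructor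
  · rintro ⟨_, ⟨x, rfl⟩, rfl⟩
    exact ⟨P x, (hP x).symm⟩
  · rintro ⟨x, rfl⟩
    exact ⟨_, ⟨P.symm x, rfl⟩, by
      rw [LinearEquiv.coe_coe, hP, LinearEquiv.apply_symm_apply]⟩

/-- Every type maps, with injective map on Picard groups, to a minimal one of the same genus. -/
theorem exists_minimal : ∀ {n : ℕ} (T : Models.NumericalType n),
    ∃ (k : ℕ) (T' : Models.NumericalType k) (f : T.Pic →+ T'.Pic),
      T'.IsMinimal ∧ T'.genus = T.genus ∧ Function.Injective f
  | 0, T => absurd T.pos (lt_irrefl 0)
  | n + 1, T => by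
    classical
    by_cases hmin : T.IsMinimal
    · exact ⟨n + 1, T, AddMonoidHom.id _, hmin, rfl, fun _ _ h => h⟩
    simp only [Models.NumericalType.IsMinimal, not_forall, not_not] at hmin
    obtain ⟨i, hi⟩ := hmin
    set σ := Equiv.swap i (Fin.last n)
    have hl : (relabel T σ).IsMinusOne (Fin.last n) := by
      simpa [relabel, σ, Models.NumericalType.IsMinusOne] using hi
    obtain ⟨T₁, hT₁⟩ := exists_contraction hl
    obtain ⟨f₁, hf₁, -⟩ := contraction_pic hl T₁ hT₁
    obtain ⟨f₀, hf₀⟩ := pic_relabel T σ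
    obtain ⟨k, T', f, h1, h2, h3⟩ := exists_minimal T₁
    exact ⟨k, T', f.comp (f₁.comp f₀), h1, by rw [h2, genus_contraction hl T₁ hT₁, genus_relabel],
      h3.comp (hf₁.comp hf₀)⟩

end Groth.Agent.NumType
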