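import Mathlib.LinearAlgebra.Matrix.Symmetric
import Mathlib.LinearAlgebra.Matrix.ToLin
import Mathlib.Tactic

/-!
# Quadratic forms of symmetric matrices with non-negative off-diagonal entries
-/

namespace Groth.Agent.NumType.QForm

open Finset Matrix

variable {ι K : Type*} [Fintype ι] [CommRing K] [LinearOrder K] [IsStrictOrderedRing K]
variable (A : Matrix ι ι K) (m : ι → K)

/-- For `x = m y`: `2 xᵀAx = 2 Σ (Am)_i m_i y_i² - Σ A_ij m_i m_j (y_i - y_j)²`. -/
theorem identity (hs : A.IsSymm) (y : ι → K) :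
    2 * (∑ i, (m i * y i) * (A *ᵥ fun j => m j * y j) i) =
      2 * (∑ i, (A *ᵥ m) i * (m i * y i ^ 2)) -
        ∑ i, ∑ j, A i j * m i * m j * (y i - y j) ^ 2 := by
  have e : ∀ i j, A i j * m i * m j * (y i - y j) ^ 2 =
      A i j * m j * (m i * y i ^ 2) + A j i * m i * (m j * y j ^ 2) -
        2 * ((m i * y i) * (A i j * (m j * y j))) := fun i j => by
    rw [hs.apply i j]; ring
  simp only [e, sum_sub_distrib, sum_add_distrib]
  rw [sum_comm (f := fun i j => A j i * m i * (m j * y j ^ 2))]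
  simp only [← mul_sum, ← sum_mul, Matrix.mulVec, dotProduct]
  ring

theorem term_nonneg (hA : ∀ i j, i ≠ j → 0 ≤ A i j) (hm : ∀ i, 0 < m i) (y : ι → K) (i j : ι) :
    0 ≤ A i j * m i * m j * (y i - y j) ^ 2 := by
  by_cases h : i = j
  · simp [h]
  · exact mul_nonneg (mul_nonneg (mul_nonneg (hA i j h) (hm i).le) (hm j).le) (sq_nonneg _)

theorem quad_nonpos (hs : A.IsSymm) (hA : ∀ i j, i ≠ j → 0 ≤ A i j) (hm : ∀ i, 0 < m i)
    (hle : ∀ i, (A *ᵥ m) i ≤ 0) (y : ι → K) :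
    (∑ i, (m i * y i) * (A *ᵥ fun j => m j * y j) i) ≤ 0 := by
  have h1 : 0 ≤ ∑ i, ∑ j, A i j * m i * m j * (y i - y j) ^ 2 :=
    sum_nonneg fun i _ => sum_nonneg fun j _ => term_nonneg A m hA hm y i j
  have h2 : (∑ i, (A *ᵥ m) i * (m i * y i ^ 2)) ≤ 0 := sum_nonpos fun i _ =>
    mul_nonpos_of_nonpos_of_nonneg (hle i) (mul_nonneg (hm i).le (sq_nonneg _))
  linarith [identity A m hs y]

theorem quad_eq_zero (hs : A.IsSymm) (hA : ∀ i j, i ≠ j → 0 ≤ A i j) (hm : ∀ i, 0 < m i)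
    (hle : ∀ i, (A *ᵥ m) i ≤ 0) (y : ι → K)
    (h : (∑ i, (m i * y i) * (A *ᵥ fun j => m j * y j) i) = 0) :
    (∀ i, y i ≠ 0 → (A *ᵥ m) i = 0) ∧ ∀ i j, A i j ≠ 0 → y i = y j := by
  have h1 : 0 ≤ ∑ i, ∑ j, A i j * m i * m j * (y i - y j) ^ 2 :=
    sum_nonneg fun i _ => sum_nonneg fun j _ => term_nonneg A m hA hm y i j
  have hterm : ∀ i, (A *ᵥ m) i * (m i * y i ^ 2) ≤ 0 := fun i =>
    mul_nonpos_of_nonpos_of_nonneg (hle i) (mul_nonneg (hm i).le (sq_nonneg _))
  have h2 : (∑ i, (A *ᵥ m) i * (m i * y i ^ 2)) ≤ 0 := sum_nonpos fun i _ => hterm i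
  have hid := identity A m hs y
  constructor
  · intro i hi
    have := (sum_eq_zero_iff_of_nonpos fun i _ => hterm i).1 (by linarith) i (mem_univ _)
    simpa [(hm i).ne', hi] using this
  · intro i j hij
    have h3 := (sum_eq_zero_iff_of_nonneg fun i _ => sum_nonneg fun j _ =>
      term_nonneg A m hA hm y i j).1 (by linarith) i (mem_univ _)
    have h4 := (sum_eq_zero_iff_of_nonneg fun j _ => term_nonneg A m hA hm y i j).1 h3 j (mem_univ _)
    simpa [hij, (hm i).ne', (hm j).ne', sub_eq_zero] using h4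

/-- A function constant across the edges of a connected graph is constant. -/
theorem const_of_connected [DecidableEq ι]
    (hc : ∀ I : Finset ι, I.Nonempty → I ≠ univ → ∃ i ∈ I, ∃ j ∉ I, A i j ≠ 0)
    {α : Type*} [DecidableEq α] (y : ι → α) (hy : ∀ i j, A i j ≠ 0 → y i = y j) (i j : ι) : y i = y j := by
  by_contra h
  obtain ⟨p, hp, q, hq, hpq⟩ := hc (univ.filter fun k => y k = y i) ⟨i, by simp⟩
    (fun hu => by
      have : j ∈ univ.filter fun k => y k = y i := by rw [hu]; exact mem_univ j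
      exact h (mem_filter.1 this).2.symm)
  simp only [mem_filter, mem_univ, true_and] at hp hq
  exact hq ((hy p q hpq).symm.trans hp)

end Groth.Agent.NumType.QForm
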