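import Groth.Agent.NumType.Basic

/-!
# Affine shapes inside a numerical type
-/

namespace Groth.Agent.NumType

open Finset Models

variable {n : ℕ} (T : Models.NumericalType n)

/-- `v 0, …, v r` is a path of `(-2)`-indices. -/
structure IsPath (v : ℕ → Fin n) (r : ℕ) : Prop where
  two : ∀ i ≤ r, T.IsMinusTwo (v i)
  inj : ∀ i ≤ r, ∀ j ≤ r, v i = v j → i = j
  adj : ∀ i < r, 0 < T.a (v i) (v (i + 1))

variable {T}

theorem IsPath.ne {v : ℕ → Fin n} {r : ℕ} (h : IsPath T v r) {i j : ℕ} (hi : i ≤ r) (hj : j ≤ r)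
    (hij : i ≠ j) : v i ≠ v j := fun he => hij (h.inj i hi j hj he)

theorem IsPath.seg {v : ℕ → Fin n} {r : ℕ} (h : IsPath T v r) {p q : ℕ} (hpq : p + q ≤ r) :
    IsPath T (fun i => v (p + i)) q :=
  ⟨fun i hi => h.two _ (by omega),
    fun i hi j hj he => by have := h.inj (p + i) (by omega) (p + j) (by omega) he; omega,
    fun i hi => by simpa [Nat.add_assoc] using h.adj (p + i) (by omega)⟩

theorem IsPath.rev {v : ℕ → Fin n} {r : ℕ} (h : IsPath T v r) : IsPath T (fun i => v (r - i)) r :=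
  ⟨fun i hi => h.two _ (by omega),
    fun i hi j hj he => by have := h.inj (r - i) (by omega) (r - j) (by omega) he; omega,
    fun i hi => by
      rw [a_symm]
      have := h.adj (r - (i + 1)) (by omega)
      rwa [show r - (i + 1) + 1 = r - i by omega] at this⟩

/-- The vertices of a path. -/
def verts (v : ℕ → Fin n) (r : ℕ) : Finset (Fin n) := (range (r + 1)).image v

theorem mem_verts {v : ℕ → Fin n} {r : ℕ} {x : Fin n} : x ∈ verts v r ↔ ∃ i ≤ r, v i = x := by
  simp [verts, Nat.lt_succ_iff]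

theorem IsPath.card_verts {v : ℕ → Fin n} {r : ℕ} (h : IsPath T v r) : #(verts v r) = r + 1 := by
  rw [verts, card_image_of_injOn, card_range]
  intro i hi j hj he
  simp only [coe_range, Set.mem_Iio] at hi hj
  exact h.inj i (by omega) j (by omega) he

variable (T) in
/-- Leaves attached to the vertex `u`, off the set `M`. -/
structure IsLeaves (u : Fin n) (M S : Finset (Fin n)) : Prop where
  two : ∀ s ∈ S, T.IsMinusTwo s
  adj : ∀ s ∈ S, 0 < T.a s u
  off : ∀ s ∈ S, s ∉ M

variable (T) in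
/-- Total weight of the leaves. -/
def sumP (u : Fin n) (S : Finset (Fin n)) : ℤ := ∑ s ∈ S, P T u s

/-- The conclusion for a shape with two ends. -/
structure EndsFull (T : Models.NumericalType n) (v : ℕ → Fin n) (r : ℕ) (S0 S1 : Finset (Fin n)) : Prop where
  cover : ∀ x, x ∈ verts v r ∨ x ∈ S0 ∨ x ∈ S1
  mM : ∀ i ≤ r, T.m (v i) = T.m (v 0)
  wM : ∀ i ≤ r, T.w (v i) = T.w (v 0)
  edge : ∀ i < r, T.a (v i) (v (i + 1)) = T.w (v 0)
  m0 : ∀ s ∈ S0, 2 * T.m s = c T s (v 0) * T.m (v 0)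
  m1 : ∀ s ∈ S1, 2 * T.m s = c T s (v r) * T.m (v 0)
  total : sumP T (v 0) S0 + sumP T (v r) S1 = 4
  each : 0 < r → sumP T (v 0) S0 = 2 ∧ sumP T (v r) S1 = 2
  z0 : ∀ s ∈ S0, ∀ x, x ≠ s → x ≠ v 0 → T.a s x = 0
  z1 : ∀ s ∈ S1, ∀ x, x ≠ s → x ≠ v r → T.a s x = 0
  zM : ∀ i ≤ r, ∀ j ≤ r, i + 1 < j → T.a (v i) (v j) = 0

theorem leaves_sum {u : Fin n} {M S : Finset (Fin n)} (_h : IsLeaves T u M S) :
    ∑ s ∈ S, T.a u s * c T s u = T.w u * sumP T u S := by
  rw [sumP, mul_sum]
  refine sum_congr rfl fun s _ => ?_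
  rw [mul_comm (T.a u s), c_mul_a, mul_comm]

/-- A path of `(-2)`-indices with enough weight attached at both ends exhausts all indices. -/
theorem ends {v : ℕ → Fin n} {r : ℕ} {S0 S1 : Finset (Fin n)} (hv : IsPath T v r)
    (h0 : IsLeaves T (v 0) (verts v r) S0) (h1 : IsLeaves T (v r) (verts v r) S1)
    (hd : Disjoint S0 S1) (hr0 : r = 0 → 4 ≤ sumP T (v 0) S0 + sumP T (v r) S1)
    (hr : 0 < r → 2 ≤ sumP T (v 0) S0 ∧ 2 ≤ sumP T (v r) S1) : EndsFull T v r S0 S1 := by
  classical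
  set M := verts v r with hM
  let x : Fin n → ℤ := fun i => if i ∈ M then 2 else if i ∈ S0 then c T i (v 0)
    else if i ∈ S1 then c T i (v r) else 0
  have hxM : ∀ i ≤ r, x (v i) = 2 := fun i hi => if_pos (mem_verts.2 ⟨i, hi, rfl⟩)
  have hx0 : ∀ s ∈ S0, x s = c T s (v 0) := fun s hs => by simp [x, h0.off s hs, hs]
  have hx1 : ∀ s ∈ S1, x s = c T s (v r) := fun s hs => by
    simp [x, h1.off s hs, hs, Finset.disjoint_right.1 hd hs]
  have hxnn : ∀ i, 0 ≤ x i := fun i => by
    by_cases h : i ∈ M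
    · simp [x, h]
    by_cases h' : i ∈ S0
    · rw [hx0 i h']; exact (one_le_c T (h0.adj i h')).trans' zero_le_one
    by_cases h'' : i ∈ S1
    · rw [hx1 i h'']; exact (one_le_c T (h1.adj i h'')).trans' zero_le_one
    simp [x, h, h', h'']
  let A : ℕ → Finset (Fin n) := fun i => if i = 0 then S0 else {v (i - 1)}
  let B : ℕ → Finset (Fin n) := fun i => if i = r then S1 else {v (i + 1)}
  have hAB : ∀ i ≤ r, Disjoint (A i) (B i) := fun i hi => by
    simp only [A, B]
    split_ifs with e e'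
    · exact hd
    · exact disjoint_singleton_right.2 fun hh => h0.off _ hh (mem_verts.2 ⟨i + 1, by omega, rfl⟩)
    · exact disjoint_singleton_left.2 fun hh => h1.off _ hh (mem_verts.2 ⟨i - 1, by omega, rfl⟩)
    · exact disjoint_singleton.2 (hv.ne (by omega) (by omega) (by omega))
  have hnot : ∀ i ≤ r, v i ∉ A i ∪ B i := fun i hi => by
    rw [mem_union, not_or]
    simp only [A, B]
    constructor <;> split_ifs
    · exact fun hh => h0.off _ hh (mem_verts.2 ⟨i, hi, rfl⟩)
    · simpa using hv.ne hi (by omega : i - 1 ≤ r) (by omega)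
    · exact fun hh => h1.off _ hh (mem_verts.2 ⟨i, hi, rfl⟩)
    · simpa using hv.ne hi (by omega : i + 1 ≤ r) (by omega)
  have sA : ∀ i ≤ r, ∑ s ∈ A i, T.a (v i) s * x s =
      if i = 0 then T.w (v i) * sumP T (v 0) S0 else T.a (v i) (v (i - 1)) * 2 := fun i hi => by
    simp only [A]
    split_ifs with e
    · subst e
      rw [← leaves_sum h0]
      exact sum_congr rfl fun s hs => by rw [hx0 s hs]
    · rw [sum_singleton, hxM _ (by omega)]
  have sB : ∀ i ≤ r, ∑ s ∈ B i, T.a (v i) s * x s =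
      if i = r then T.w (v i) * sumP T (v r) S1 else T.a (v i) (v (i + 1)) * 2 := fun i hi => by
    simp only [B]
    split_ifs with e
    · subst e
      rw [← leaves_sum h1]
      exact sum_congr rfl fun s hs => by rw [hx1 s hs]
    · rw [sum_singleton, hxM _ (by omega)]
  have geA : ∀ i, 0 < i → i ≤ r → T.w (v i) ≤ T.a (v i) (v (i - 1)) := fun i h1' h2' => by
    refine w_le_a T ?_
    rw [a_symm]
    simpa [Nat.sub_add_cancel h1'] using hv.adj (i - 1) (by omega)
  have geB : ∀ i < r, T.w (v i) ≤ T.a (v i) (v (i + 1)) := fun i hi => w_le_a T (hv.adj i hi)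
  have hrowM : ∀ i ≤ r, 0 ≤ T.a (v i) (v i) * x (v i) + ∑ s ∈ A i ∪ B i, T.a (v i) s * x s := fun i hi => by
    rw [sum_union (hAB i hi), sA i hi, sB i hi, hxM i hi, a_diag T (hv.two i hi)]
    have hw := T.w_pos (v i)
    rcases Nat.eq_zero_or_pos r with e | e
    · subst e
      obtain rfl : i = 0 := by omega
      have := hr0 rfl
      simp only [↓reduceIte]
      nlinarith
    · obtain ⟨e0, e1⟩ := hr e
      rcases Nat.eq_zero_or_pos i with ei | ei
      · subst ei
        rw [if_pos rfl, if_neg (by omega)]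
        nlinarith [geB 0 e]
      · rw [if_neg (by omega : ¬ i = 0)]
        rcases eq_or_lt_of_le hi with ej | ej
        · subst ej
          rw [if_pos rfl]
          nlinarith [geA i ei le_rfl]
        · rw [if_neg ej.ne]
          linarith [geA i ei hi, geB i ej]
  have hl0 : ∀ s ∈ S0, T.a s s * x s + ∑ t ∈ {v 0}, T.a s t * x t = 0 := fun s hs => by
    rw [sum_singleton, hxM 0 (Nat.zero_le _), hx0 s hs, a_diag T (h0.two s hs), ← w_mul_c T s (v 0)]
    ring
  have hl1 : ∀ s ∈ S1, T.a s s * x s + ∑ t ∈ {v r}, T.a s t * x t = 0 := fun s hs => by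
    rw [sum_singleton, hxM r le_rfl, hx1 s hs, a_diag T (h1.two s hs), ← w_mul_c T s (v r)]
    ring
  have hn0 : ∀ s ∈ S0, s ∉ ({v 0} : Finset (Fin n)) := fun s hs he =>
    h0.off s hs (mem_verts.2 ⟨0, Nat.zero_le _, (mem_singleton.1 he).symm⟩)
  have hn1 : ∀ s ∈ S1, s ∉ ({v r} : Finset (Fin n)) := fun s hs he =>
    h1.off s hs (mem_verts.2 ⟨r, le_rfl, (mem_singleton.1 he).symm⟩)
  obtain ⟨hpos, hprop, hzero⟩ := subharmonic T x hxnn ⟨v 0, by rw [hxM 0 (Nat.zero_le _)]; norm_num⟩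
    (fun i hi => by
      by_cases h : i ∈ M
      · obtain ⟨k, hk, rfl⟩ := mem_verts.1 h
        exact (hrowM k hk).trans (row_ge T x hxnn _ _ (hnot k hk))
      by_cases h' : i ∈ S0
      · exact (hl0 i h').symm.le.trans (row_ge T x hxnn _ _ (hn0 i h'))
      by_cases h'' : i ∈ S1
      · exact (hl1 i h'').symm.le.trans (row_ge T x hxnn _ _ (hn1 i h''))
      simp [x, h, h', h''] at hi)
  have tM : ∀ i ≤ r, _ := fun i hi => row_tight T x hpos (v i) _ (hnot i hi) (hzero _) (hrowM i hi)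
  have exA : ∀ i, 0 < i → i ≤ r → T.a (v i) (v (i - 1)) = T.w (v i) ∧
      (i < r → T.a (v i) (v (i + 1)) = T.w (v i)) ∧ (i = r → sumP T (v r) S1 = 2) := fun i ei hi => by
    have t := (tM i hi).1
    rw [sum_union (hAB i hi), sA i hi, sB i hi, hxM i hi, a_diag T (hv.two i hi), if_neg (by omega : ¬ i = 0)] at t
    have hw := T.w_pos (v i)
    rcases eq_or_lt_of_le hi with ej | ej
    · subst ej
      rw [if_pos rfl] at t
      have := (hr ei).2
      have := geA i ei le_rfl
      refine ⟨by nlinarith, fun h => absurd h (lt_irrefl i), fun _ => by nlinarith⟩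
    · rw [if_neg ej.ne] at t
      have := geA i ei hi
      have := geB i ej
      exact ⟨by linarith, fun _ => by linarith, fun h => absurd h ej.ne⟩
  have h00 : 0 < r → T.a (v 0) (v 1) = T.w (v 0) ∧ sumP T (v 0) S0 = 2 := fun e => by
    have t := (tM 0 (Nat.zero_le _)).1
    rw [sum_union (hAB 0 (Nat.zero_le _)), sA 0 (Nat.zero_le _), sB 0 (Nat.zero_le _), hxM 0 (Nat.zero_le _),
      a_diag T (hv.two 0 (Nat.zero_le _)), if_pos rfl, if_neg (by omega)] at t
    have := geB 0 e
    have hw := T.w_pos (v 0)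
    have := (hr e).1
    constructor <;> nlinarith
  have hedge : ∀ i < r, T.a (v i) (v (i + 1)) = T.w (v i) := fun i hi => by
    rcases Nat.eq_zero_or_pos i with e | e
    · subst e; exact (h00 hi).1
    · exact (exA i e hi.le).2.1 hi
  have hwM : ∀ i ≤ r, T.w (v i) = T.w (v 0) := fun i => by
    induction i with
    | zero => exact fun _ => rfl
    | succ i ih =>
      intro hi
      rw [← ih (by omega), ← hedge i (by omega), ← (exA (i + 1) (by omega) hi).1, a_symm]
      simp
  refine ⟨fun y => ?_, fun i hi => ?_, hwM, fun i hi => (hedge i hi).trans (hwM i hi.le),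
    fun s hs => ?_, fun s hs => ?_, ?_, fun e => ⟨(h00 e).2, (exA r e le_rfl).2.2 rfl⟩, ?_, ?_, ?_⟩
  · have := hpos y
    by_contra hc
    push Not at hc
    simp [x, hc.1, hc.2.1, hc.2.2, hM] at this
  · have := hprop (v 0) (v i)
    rw [hxM 0 (Nat.zero_le _), hxM i hi] at this
    linarith
  · have := hprop s (v 0)
    rw [hxM 0 (Nat.zero_le _), hx0 s hs] at this
    linarith
  · have := hprop s (v 0)
    rw [hxM 0 (Nat.zero_le _), hx1 s hs] at this
    linarith
  · rcases Nat.eq_zero_or_pos r with e | e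
    · subst e
      have t := (tM 0 le_rfl).1
      rw [sum_union (hAB 0 le_rfl), sA 0 le_rfl, sB 0 le_rfl, hxM 0 le_rfl, a_diag T (hv.two 0 le_rfl),
        if_pos rfl, if_pos rfl] at t
      have hw := T.w_pos (v 0)
      nlinarith
    · linarith [(h00 e).2, (exA r e le_rfl).2.2 rfl]
  · intro s hs y hys hy0
    exact (row_tight T x hpos s _ (hn0 s hs) (hzero s) (hl0 s hs).symm.le).2 y (by simpa using hy0) hys
  · intro s hs y hys hy0
    exact (row_tight T x hpos s _ (hn1 s hs) (hzero s) (hl1 s hs).symm.le).2 y (by simpa using hy0) hys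
  · intro i hi j hj hij
    refine (tM i hi).2 (v j) ?_ (hv.ne hj hi (by omega))
    rw [mem_union, not_or]
    simp only [A, B]
    constructor <;> split_ifs
    · exact fun hh => h0.off _ hh (mem_verts.2 ⟨j, hj, rfl⟩)
    · simpa using hv.ne hj (by omega : i - 1 ≤ r) (by omega)
    · exact fun hh => h1.off _ hh (mem_verts.2 ⟨j, hj, rfl⟩)
    · simpa using hv.ne hj (by omega : i + 1 ≤ r) (by omega)

theorem EndsFull.card_le {v : ℕ → Fin n} {r : ℕ} {S0 S1 : Finset (Fin n)} (h : EndsFull T v r S0 S1)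
    (hv : IsPath T v r) : n ≤ r + 1 + #S0 + #S1 := by
  have hs : (univ : Finset (Fin n)) ⊆ verts v r ∪ S0 ∪ S1 := fun x _ => by
    simpa [or_assoc] using h.cover x
  have h1 := card_le_card hs
  have h2 := card_union_le (verts v r ∪ S0) S1
  have h3 := card_union_le (verts v r) S0
  rw [hv.card_verts] at h3
  rw [card_univ, Fintype.card_fin] at h1
  omega

/-- The conclusion for a cycle. -/
structure CycleFull (T : Models.NumericalType n) (v : ℕ → Fin n) (r : ℕ) : Prop where
  card : r + 1 = n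
  cover : ∀ x, x ∈ verts v r
  mM : ∀ i ≤ r, T.m (v i) = T.m (v 0)
  wM : ∀ i ≤ r, T.w (v i) = T.w (v 0)
  edge : ∀ i < r, T.a (v i) (v (i + 1)) = T.w (v 0)
  close : T.a (v 0) (v r) = T.w (v 0)
  zM : ∀ i ≤ r, ∀ j ≤ r, i + 1 < j → (i ≠ 0 ∨ j ≠ r) → T.a (v i) (v j) = 0

/-- A cycle of `(-2)`-indices exhausts all indices. -/
theorem cycle {v : ℕ → Fin n} {r : ℕ} (hv : IsPath T v r) (hr : 2 ≤ r) (hc : 0 < T.a (v 0) (v r)) :
    CycleFull T v r := by
  classical
  set M := verts v r with hM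
  let x : Fin n → ℤ := fun i => if i ∈ M then 1 else 0
  have hxM : ∀ i ≤ r, x (v i) = 1 := fun i hi => if_pos (mem_verts.2 ⟨i, hi, rfl⟩)
  have hxnn : ∀ i, 0 ≤ x i := fun i => by simp only [x]; split <;> norm_num
  let pr : ℕ → ℕ := fun i => if i = 0 then r else i - 1
  let nx : ℕ → ℕ := fun i => if i = r then 0 else i + 1
  have hpr : ∀ i ≤ r, pr i ≤ r ∧ nx i ≤ r ∧ pr i ≠ i ∧ nx i ≠ i ∧ pr i ≠ nx i := fun i hi => by
    simp only [pr, nx]; split_ifs <;> omega
  have adjp : ∀ i ≤ r, 0 < T.a (v i) (v (pr i)) := fun i hi => by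
    simp only [pr]; split_ifs with e
    · subst e; exact hc
    · rw [a_symm]; simpa [Nat.sub_add_cancel (Nat.pos_of_ne_zero e)] using hv.adj (i - 1) (by omega)
  have adjn : ∀ i ≤ r, 0 < T.a (v i) (v (nx i)) := fun i hi => by
    simp only [nx]; split_ifs with e
    · subst e; rwa [a_symm]
    · exact hv.adj i (by omega)
  have hnot : ∀ i ≤ r, v i ∉ ({v (pr i), v (nx i)} : Finset (Fin n)) := fun i hi => by
    obtain ⟨a1, a2, a3, a4, -⟩ := hpr i hi
    simp [hv.ne hi a1 a3.symm, hv.ne hi a2 a4.symm]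
  have hs : ∀ i ≤ r, ∑ s ∈ ({v (pr i), v (nx i)} : Finset (Fin n)), T.a (v i) s * x s =
      T.a (v i) (v (pr i)) + T.a (v i) (v (nx i)) := fun i hi => by
    obtain ⟨a1, a2, -, -, a5⟩ := hpr i hi
    rw [sum_pair (hv.ne a1 a2 a5), hxM _ a1, hxM _ a2, mul_one, mul_one]
  have hrowM : ∀ i ≤ r, 0 ≤ T.a (v i) (v i) * x (v i) +
      ∑ s ∈ ({v (pr i), v (nx i)} : Finset (Fin n)), T.a (v i) s * x s := fun i hi => by
    rw [hs i hi, hxM i hi, a_diag T (hv.two i hi)]
    linarith [w_le_a T (adjp i hi), w_le_a T (adjn i hi)]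
  obtain ⟨hpos, hprop, hzero⟩ := subharmonic T x hxnn ⟨v 0, by rw [hxM 0 (Nat.zero_le _)]; norm_num⟩
    (fun i hi => by
      by_cases h : i ∈ M
      · obtain ⟨k, hk, rfl⟩ := mem_verts.1 h
        exact (hrowM k hk).trans (row_ge T x hxnn _ _ (hnot k hk))
      simp [x, h] at hi)
  have cover : ∀ y, y ∈ verts v r := fun y => by
    by_contra hc
    have := hpos y
    simp [x, hM, hc] at this
  have tM : ∀ i ≤ r, _ := fun i hi => row_tight T x hpos (v i) _ (hnot i hi) (hzero _) (hrowM i hi)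
  have ex : ∀ i ≤ r, T.a (v i) (v (pr i)) = T.w (v i) ∧ T.a (v i) (v (nx i)) = T.w (v i) := fun i hi => by
    have t := (tM i hi).1
    rw [hs i hi, hxM i hi, a_diag T (hv.two i hi)] at t
    have := w_le_a T (adjp i hi)
    have := w_le_a T (adjn i hi)
    constructor <;> linarith
  have hedge : ∀ i < r, T.a (v i) (v (i + 1)) = T.w (v i) := fun i hi => by
    simpa [nx, hi.ne] using (ex i hi.le).2
  have hwM : ∀ i ≤ r, T.w (v i) = T.w (v 0) := fun i => by
    induction i with
    | zero => exact fun _ => rfl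
    | succ i ih =>
      intro hi
      have := (ex (i + 1) hi).1
      simp only [pr, Nat.succ_ne_zero, if_false, Nat.add_sub_cancel] at this
      rw [← ih (by omega), ← hedge i (by omega), ← this, a_symm]
  refine ⟨?_, cover, fun i hi => ?_, hwM, fun i hi => (hedge i hi).trans (hwM i hi.le),
    by simpa [pr] using (ex 0 (Nat.zero_le _)).1, fun i hi j hj hij hne => ?_⟩
  · have h1 : verts v r = univ := eq_univ_of_forall cover
    rw [← hv.card_verts, h1, card_univ, Fintype.card_fin]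
  · have := hprop (v 0) (v i)
    rw [hxM 0 (Nat.zero_le _), hxM i hi] at this
    linarith
  · refine (tM i hi).2 (v j) ?_ (hv.ne hj hi (by omega))
    obtain ⟨a1, a2, -⟩ := hpr i hi
    simp only [mem_insert, mem_singleton, not_or]
    refine ⟨hv.ne hj a1 ?_, hv.ne hj a2 ?_⟩ <;> simp only [pr, nx] <;> split_ifs <;> omega

end Groth.Agent.NumType
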