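import Groth.Agent.NumType.Shapes

/-!
# Proper subgraphs of the dual graph on `(-2)`-indices
-/

namespace Groth.Agent.NumType

open Finset Models

variable {n : ℕ} {T : Models.NumericalType n}

theorem ne_of_two_pos {i j : Fin n} (hi : T.IsMinusTwo i) (h : 0 < T.a i j) : i ≠ j := fun e => by
  subst e
  rw [a_diag T hi] at h
  linarith [T.w_pos i]

/-- A single vertex with leaves of total weight `≥ 4` exhausts the index set. -/
theorem star_card {u : Fin n} {S : Finset (Fin n)} (hu : T.IsMinusTwo u)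
    (hS : ∀ s ∈ S, T.IsMinusTwo s ∧ 0 < T.a s u) (h : 4 ≤ sumP T u S) : n ≤ 1 + #S := by
  have hv : IsPath T (fun _ => u) 0 := ⟨fun _ _ => hu, fun _ _ _ _ _ => by omega, fun i hi => absurd hi (by omega)⟩
  have h0 : IsLeaves T u (verts (fun _ : ℕ => u) 0) S := ⟨fun s hs => (hS s hs).1, fun s hs => (hS s hs).2,
    fun s hs he => by
      obtain ⟨_, _, e⟩ := mem_verts.1 he
      exact ne_of_two_pos (hS s hs).1 (hS s hs).2 e.symm⟩
  have h1 : IsLeaves T u (verts (fun _ : ℕ => u) 0) (∅ : Finset (Fin n)) :=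
    ⟨by simp, by simp, by simp⟩
  have hf := ends hv h0 h1 (disjoint_empty_right _) (fun _ => by simpa [sumP] using h)
    (fun h => absurd h (lt_irrefl 0))
  have := hf.card_le hv
  simp at this
  omega

theorem P_le_three {i j : Fin n} (hi : T.IsMinusTwo i) (hj : T.IsMinusTwo j) (h : 0 < T.a i j)
    (hn : 2 < n) : P T i j ≤ 3 := by
  by_contra hc
  have := star_card (S := {j}) hi (fun s hs => by
    rw [mem_singleton.1 hs]; exact ⟨hj, by rwa [a_symm]⟩) (by simp [sumP]; omega)
  simp at this
  omega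

theorem two_le_three {i j k : Fin n} (hik : i ≠ k) (hi : T.IsMinusTwo i) (hj : T.IsMinusTwo j)
    (hk : T.IsMinusTwo k) (h1 : 0 < T.a i j) (h2 : 0 < T.a j k) (hn : 3 < n) :
    P T i j + P T j k ≤ 3 := by
  by_contra hc
  have := star_card (S := {i, k}) hj (fun s hs => by
    rcases mem_insert.1 hs with rfl | hs
    · exact ⟨hi, h1⟩
    · rw [mem_singleton.1 hs]; exact ⟨hk, by rwa [a_symm]⟩)
    (by rw [sumP, sum_pair hik, P_comm T j i]; omega)
  rw [card_pair hik] at this
  omega

theorem three_leaves {u i j k : Fin n} (hij : i ≠ j) (hik : i ≠ k) (hjk : j ≠ k)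
    (hu : T.IsMinusTwo u) (hi : T.IsMinusTwo i) (hj : T.IsMinusTwo j) (hk : T.IsMinusTwo k)
    (h1 : 0 < T.a u i) (h2 : 0 < T.a u j) (h3 : 0 < T.a u k) (hn : 4 < n) :
    P T u i = 1 ∧ P T u j = 1 ∧ P T u k = 1 := by
  have p1 := one_le_P T h1
  have p2 := one_le_P T h2
  have p3 := one_le_P T h3
  suffices P T u i + P T u j + P T u k ≤ 3 by omega
  by_contra hc
  have hne : i ∉ ({j, k} : Finset (Fin n)) := by simp [hij, hik]
  have := star_card (S := {i, j, k}) hu (fun s hs => by
    simp only [mem_insert, mem_singleton] at hs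
    rcases hs with rfl | rfl | rfl
    · exact ⟨hi, by rwa [a_symm]⟩
    · exact ⟨hj, by rwa [a_symm]⟩
    · exact ⟨hk, by rwa [a_symm]⟩) (by rw [sumP, sum_insert hne, sum_pair hjk]; omega)
  rw [card_insert_of_notMem hne, card_pair hjk] at this
  omega

/-- A chord of a short path vanishes. -/
theorem no_chord {v : ℕ → Fin n} {r : ℕ} (hv : IsPath T v r) {i j : ℕ} (hij : i + 2 ≤ j) (hj : j ≤ r)
    (hn : j - i + 1 < n) : T.a (v i) (v j) = 0 := by
  by_contra h
  have hp : 0 < T.a (v i) (v j) := a_pos T (hv.ne (by omega) hj (by omega)) h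
  have h' := (cycle (hv.seg (p := i) (q := j - i) (by omega)) (by omega)
    (by simpa [Nat.add_sub_cancel' (by omega : i ≤ j)] using hp)).card
  omega

theorem isLeaves_seg {v : ℕ → Fin n} {r : ℕ} (hv : IsPath T v r) {p q k : ℕ} (hpq : p + q ≤ r)
    (hk : k ≤ r) (hout : k < p ∨ p + q < k) {u : Fin n} (hadj : 0 < T.a (v k) u) :
    IsLeaves T u (verts (fun i => v (p + i)) q) {v k} := by
  refine ⟨fun s hs => ?_, fun s hs => ?_, fun s hs he => ?_⟩ <;> rw [mem_singleton.1 hs] at *
  · exact hv.two k hk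
  · exact hadj
  · obtain ⟨i, hi, e⟩ := mem_verts.1 he
    exact hv.ne (by omega) hk (by omega) e

/-- On a path there is at most one non-simple edge, unless it exhausts the indices. -/
theorem double_unique {v : ℕ → Fin n} {r : ℕ} (hv : IsPath T v r) {i j : ℕ} (hij : i < j) (hj : j < r)
    (hn : j - i + 2 < n) (hi2 : 2 ≤ P T (v i) (v (i + 1))) : P T (v j) (v (j + 1)) < 2 := by
  by_contra hj2
  push Not at hj2
  have hs := hv.seg (p := i + 1) (q := j - i - 1) (by omega)
  have e1 : i + 1 + (j - i - 1) = j := by omega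
  have h0 : IsLeaves T (v (i + 1 + 0)) (verts (fun k => v (i + 1 + k)) (j - i - 1)) {v i} :=
    isLeaves_seg hv (by omega) (by omega) (by omega) (hv.adj i (by omega))
  have h1 : IsLeaves T (v (i + 1 + (j - i - 1))) (verts (fun k => v (i + 1 + k)) (j - i - 1)) {v (j + 1)} :=
    isLeaves_seg hv (by omega) (by omega) (by omega) (by rw [e1, a_symm]; exact hv.adj j hj)
  have s0 : 2 ≤ sumP T (v (i + 1 + 0)) {v i} := by simpa [sumP, P_comm] using hi2
  have s1 : 2 ≤ sumP T (v (i + 1 + (j - i - 1))) {v (j + 1)} := by simpa [sumP, e1] using hj2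
  have hf := ends hs h0 h1 (by simpa using hv.ne (by omega) (by omega) (by omega : i ≠ j + 1))
    (fun _ => by linarith) (fun _ => ⟨s0, s1⟩)
  have := hf.card_le hs
  simp at this
  omega

/-- Version of `no_config` with lower bounds for the Cartan entries. -/
theorem no_config_c {k : ℕ} (hkn : k < n) (v : ℕ → Fin n) (hv : IsPath T v k)
    (hkn' : k + 1 < n) (x : ℕ → ℤ) (hx : ∀ p ≤ k, 0 < x p)
    (h0 : 2 * x 0 ≤ c T (v 0) (v 1) * x 1)
    (hmid : ∀ p, 0 < p → p < k → 2 * x p ≤ c T (v p) (v (p - 1)) * x (p - 1) + c T (v p) (v (p + 1)) * x (p + 1))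
    (hlast : 2 * x k ≤ c T (v k) (v (k - 1)) * x (k - 1)) (hk : 0 < k) : False := by
  classical
  let X : Fin n → ℤ := fun i => ∑ p ∈ range (k + 1), if v p = i then x p else 0
  have hXv : ∀ p ≤ k, X (v p) = x p := fun p hp => by
    rw [show X (v p) = ∑ q ∈ range (k + 1), if v q = v p then x q else 0 from rfl, sum_eq_single p]
    · simp
    · intro q hq hne
      rw [if_neg (hv.ne (by simpa [Nat.lt_succ_iff] using hq) hp hne)]
    · simp; omega
  have hX : ∀ i, 0 ≤ X i := fun i => sum_nonneg fun p hp => by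
    split
    · exact (hx p (by simpa [Nat.lt_succ_iff] using hp)).le
    · exact le_rfl
  have hout : ∀ i, i ∉ verts v k → X i = 0 := fun i hi => sum_eq_zero fun p hp => if_neg fun e =>
    hi (mem_verts.2 ⟨p, by simpa [Nat.lt_succ_iff] using hp, e⟩)
  have h := subharmonic T X hX ⟨v 0, by rw [hXv 0 (Nat.zero_le _)]; exact hx 0 (Nat.zero_le _)⟩ (fun i hi => ?_)
  · have h1 : verts v k = univ := eq_univ_of_forall fun i => by
      by_contra hc
      exact (h.1 i).ne' (hout i hc)
    have := hv.card_verts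
    rw [h1, card_univ, Fintype.card_fin] at this
    omega
  · obtain ⟨p, hp, rfl⟩ : ∃ p ≤ k, v p = i := mem_verts.1 (by
      by_contra hc
      exact hi.ne' (hout i hc))
    have hw := T.w_pos (v p)
    rcases Nat.eq_zero_or_pos p with e | e
    · subst e
      refine le_trans ?_ (row_ge T X hX (v 0) {v 1} (by simpa using hv.ne (Nat.zero_le _) hk zero_ne_one))
      rw [sum_singleton, hXv 0 hp, hXv 1 hk, a_diag T (hv.two 0 hp), ← w_mul_c T (v 0) (v 1)]
      nlinarith
    rcases eq_or_lt_of_le hp with e' | e'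
    · subst e'
      refine le_trans ?_ (row_ge T X hX (v p) {v (p - 1)}
        (by simpa using hv.ne hp (by omega : p - 1 ≤ p) (by omega)))
      rw [sum_singleton, hXv p hp, hXv (p - 1) (by omega), a_diag T (hv.two p hp), ← w_mul_c T (v p) (v (p - 1))]
      nlinarith
    · refine le_trans ?_ (row_ge T X hX (v p) {v (p - 1), v (p + 1)} (by
        simp [hv.ne hp (by omega : p - 1 ≤ k) (by omega), hv.ne hp (by omega : p + 1 ≤ k) (by omega)]))
      rw [sum_pair (hv.ne (by omega) (by omega) (by omega)), hXv p hp, hXv (p - 1) (by omega),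
        hXv (p + 1) (by omega), a_diag T (hv.two p hp), ← w_mul_c T (v p) (v (p - 1)),
        ← w_mul_c T (v p) (v (p + 1))]
      nlinarith [hmid p e e']

theorem one_le_c_adj {v : ℕ → Fin n} {r : ℕ} (hv : IsPath T v r) {i : ℕ} (hi : i < r) :
    1 ≤ c T (v i) (v (i + 1)) ∧ 1 ≤ c T (v (i + 1)) (v i) :=
  ⟨one_le_c T (hv.adj i hi), one_le_c T (a_symm T (v i) (v (i + 1)) ▸ hv.adj i hi)⟩

/-- A five-chain whose third edge is not simple exhausts the index set. -/
theorem five_chain {v : ℕ → Fin n} (hv : IsPath T v 4) (hn : 5 < n) : P T (v 2) (v 3) < 2 := by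
  by_contra h
  push Not at h
  obtain ⟨a01, a10⟩ := one_le_c_adj hv (show 0 < 4 by omega)
  obtain ⟨a12, a21⟩ := one_le_c_adj hv (show 1 < 4 by omega)
  obtain ⟨a23, a32⟩ := one_le_c_adj hv (show 2 < 4 by omega)
  obtain ⟨a34, a43⟩ := one_le_c_adj hv (show 3 < 4 by omega)
  simp only [Nat.reduceAdd] at a01 a10 a12 a21 a23 a32 a34 a43
  have hcase : 2 ≤ c T (v 2) (v 3) ∨ 2 ≤ c T (v 3) (v 2) := by
    by_contra hc
    push Not at hc
    unfold P at h
    nlinarith
  rcases hcase with hc | hc
  · refine no_config_c (by omega) v hv hn (fun p => [1, 2, 3, 2, 1].getD p 0) ?_ ?_ ?_ ?_ (by omega)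
    · intro p hp; interval_cases p <;> simp
    · simp; linarith
    · intro p h1 h2; interval_cases p <;> simp <;> linarith
    · simp; linarith
  · refine no_config_c (by omega) v hv hn (fun p => [1, 2, 3, 4, 2].getD p 0) ?_ ?_ ?_ ?_ (by omega)
    · intro p hp; interval_cases p <;> simp
    · simp; linarith
    · intro p h1 h2; interval_cases p <;> simp <;> linarith
    · simp; linarith

/-- Along a segment of simple edges the weights are equal. -/
theorem w_seg {v : ℕ → Fin n} {r : ℕ} (hv : IsPath T v r) {p q : ℕ} (hq : q ≤ r)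
    (hs : ∀ i, p ≤ i → i < q → P T (v i) (v (i + 1)) = 1) :
    (∀ i, p ≤ i → i ≤ q → T.w (v i) = T.w (v p)) ∧
      ∀ i, p ≤ i → i < q → T.a (v i) (v (i + 1)) = T.w (v p) := by
  have h : ∀ i, p ≤ i → i ≤ q → T.w (v i) = T.w (v p) := fun i => by
    induction i with
    | zero => intro h _; rw [Nat.le_zero.1 h]
    | succ i ih =>
      intro h1 h2
      rcases eq_or_lt_of_le h1 with e | e
      · rw [e]
      · rw [(P_eq_one T (hv.adj i (by omega)) (hs i (by omega) (by omega))).2]
        exact ih (by omega) (by omega)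
  exact ⟨h, fun i h1 h2 => by
    rw [(P_eq_one T (hv.adj i (by omega)) (hs i h1 h2)).1]; exact h i h1 h2.le⟩

/-- The edges of a chain which is a proper subgraph with at least four vertices. -/
theorem chain_class {v : ℕ → Fin n} {r : ℕ} (hv : IsPath T v r) (hr : 3 ≤ r) (hn : r + 1 < n) :
    (∀ i j, i + 2 ≤ j → j ≤ r → T.a (v i) (v j) = 0) ∧
      (∀ i < r, P T (v i) (v (i + 1)) = 1 ∨ P T (v i) (v (i + 1)) = 2) ∧
      (∀ i < r, ∀ j < r, P T (v i) (v (i + 1)) = 2 → P T (v j) (v (j + 1)) = 2 → i = j) ∧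
      (∀ i < r, P T (v i) (v (i + 1)) = 2 → i = 0 ∨ i + 1 = r ∨ (r = 3 ∧ i = 1)) := by
  refine ⟨fun i j hij hj => no_chord hv hij hj (by omega), fun i hi => ?_, fun i hi j hj h1 h2 => ?_,
    fun i hi h2 => ?_⟩
  · have h1 := one_le_P T (hv.adj i hi)
    rcases Nat.eq_zero_or_pos i with e | e
    · subst e
      have := two_le_three (hv.ne (by omega) (by omega) (by omega : (0:ℕ) ≠ 0 + 1 + 1)) (hv.two 0 (by omega))
        (hv.two (0 + 1) (by omega)) (hv.two (0 + 1 + 1) (by omega)) (hv.adj 0 hi) (hv.adj (0 + 1) (by omega)) (by omega)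
      have := one_le_P T (hv.adj (0 + 1) (by omega))
      omega
    · have hadj := hv.adj (i - 1) (by omega)
      rw [Nat.sub_add_cancel e] at hadj
      have := two_le_three (hv.ne (by omega) (by omega) (by omega : i - 1 ≠ i + 1)) (hv.two (i - 1) (by omega))
        (hv.two i (by omega)) (hv.two (i + 1) (by omega)) hadj (hv.adj i hi) (by omega)
      have := one_le_P T hadj
      omega
  · rcases lt_trichotomy i j with h | h | h
    · exact absurd h2 (double_unique hv h hj (by omega) h1.ge).ne
    · exact h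
    · exact absurd h1 (double_unique hv h hi (by omega) h2.ge).ne
  · by_contra hc
    push Not at hc
    obtain ⟨c0, c1, c2⟩ := hc
    rcases le_or_gt (i + 3) r with e | e
    · have := five_chain (hv.seg (p := i - 1) (q := 4) (by omega)).rev (by omega)
      simp only [Nat.reduceSub] at this
      rw [show i - 1 + 2 = i + 1 by omega, show i - 1 + 1 = i by omega, P_comm] at this
      omega
    · have h3 : ¬ (r = 3 ∧ i = 1) := fun h => c2 h.1 h.2
      have := five_chain (hv.seg (p := i - 2) (q := 4) (by omega)) (by omega)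
      rw [show i - 2 + 2 = i by omega, show i - 2 + 3 = i + 1 by omega] at this
      omega

/-- A double edge on one side of a branch point exhausts the index set. -/
theorem branch_left {v : ℕ → Fin n} {r b : ℕ} {u : Fin n} (hv : IsPath T v r) (hbr : b < r)
    (hu : T.IsMinusTwo u) (hu' : ∀ k ≤ r, v k ≠ u) (hub : 0 < T.a (v b) u) {i : ℕ} (hi : i < b)
    (hn : b - i + 3 < n) : P T (v i) (v (i + 1)) < 2 := by
  by_contra h
  push Not at h
  have hs := hv.seg (p := i + 1) (q := b - i - 1) (by omega)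
  have e1 : i + 1 + (b - i - 1) = b := by omega
  have h0 : IsLeaves T (v (i + 1 + 0)) (verts (fun k => v (i + 1 + k)) (b - i - 1)) {v i} :=
    isLeaves_seg hv (by omega) (by omega) (by omega) (hv.adj i (by omega))
  have hne : v (b + 1) ≠ u := hu' _ (by omega)
  have h1 : IsLeaves T (v (i + 1 + (b - i - 1))) (verts (fun k => v (i + 1 + k)) (b - i - 1)) {v (b + 1), u} := by
    refine ⟨fun s hs => ?_, fun s hs => ?_, fun s hs he => ?_⟩ <;>
      simp only [mem_insert, mem_singleton] at hs
    · rcases hs with rfl | rfl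
      · exact hv.two _ (by omega)
      · exact hu
    · rw [e1]
      rcases hs with rfl | rfl
      · rw [a_symm]; exact hv.adj b hbr
      · rwa [a_symm]
    · obtain ⟨k, hk, e⟩ := mem_verts.1 he
      rcases hs with rfl | rfl
      · exact hv.ne (by omega) (by omega) (by omega) e
      · exact hu' _ (by omega) e
  have s0 : 2 ≤ sumP T (v (i + 1 + 0)) {v i} := by simpa [sumP, P_comm] using h
  have s1 : 2 ≤ sumP T (v (i + 1 + (b - i - 1))) {v (b + 1), u} := by
    rw [sumP, sum_pair hne, e1]
    linarith [one_le_P T (hv.adj b hbr), one_le_P T hub]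
  have hd : Disjoint ({v i} : Finset (Fin n)) {v (b + 1), u} := by
    simp [hv.ne (by omega : i ≤ r) (by omega : b + 1 ≤ r) (by omega), hu' i (by omega)]
  have hf := ends hs h0 h1 hd (fun _ => by linarith) (fun _ => ⟨s0, s1⟩)
  have := hf.card_le hs
  rw [card_singleton, card_pair hne] at this
  omega

/-- Branched chains which are proper subgraphs are simply laced trees. -/
theorem branch {v : ℕ → Fin n} {r b : ℕ} {u : Fin n} (hv : IsPath T v r) (hb : 0 < b) (hbr : b < r)
    (hu : T.IsMinusTwo u) (hu' : ∀ k ≤ r, v k ≠ u) (hub : 0 < T.a (v b) u) (hn : r + 2 < n) :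
    (∀ i ≤ r, T.w (v i) = T.w u) ∧ (∀ i < r, T.a (v i) (v (i + 1)) = T.w u) ∧
      T.a (v b) u = T.w u ∧ (∀ i j, i + 2 ≤ j → j ≤ r → T.a (v i) (v j) = 0) ∧
      (∀ i ≤ r, i ≠ b → T.a (v i) u = 0) := by
  have hadj := hv.adj (b - 1) (by omega)
  rw [Nat.sub_add_cancel hb] at hadj
  obtain ⟨p1, p2, p3⟩ := three_leaves (hv.ne (by omega) (by omega) (by omega : b - 1 ≠ b + 1))
    (hu' _ (by omega)) (hu' _ (by omega)) (hv.two b hbr.le) (hv.two _ (by omega)) (hv.two _ (by omega)) hu
    (by rwa [a_symm]) (hv.adj b hbr) hub (by omega)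
  have hs : ∀ i < r, P T (v i) (v (i + 1)) = 1 := fun i hi => by
    have h1 := one_le_P T (hv.adj i hi)
    suffices P T (v i) (v (i + 1)) < 2 by omega
    rcases lt_or_ge i b with h | h
    · exact branch_left hv hbr hu hu' hub h (by omega)
    · have := branch_left hv.rev (b := r - b) (by omega) hu (fun k _ => hu' _ (by omega))
        (by rwa [Nat.sub_sub_self hbr.le]) (i := r - (i + 1))
      rcases eq_or_lt_of_le h with e | e
      · subst e; omega
      · have := this (by omega) (by omega)
        rwa [show r - (r - (i + 1)) = i + 1 by omega, show r - (r - (i + 1) + 1) = i by omega, P_comm] at this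
  obtain ⟨hw, ha⟩ := w_seg hv (p := 0) (q := r) le_rfl (fun i _ hi => hs i hi)
  obtain ⟨hau, hwu⟩ := P_eq_one T hub p3
  have hw' : ∀ i ≤ r, T.w (v i) = T.w u := fun i hi => by
    rw [hw i (Nat.zero_le _) hi, hwu, hw b (Nat.zero_le _) hbr.le]
  refine ⟨hw', fun i hi => by rw [ha i (Nat.zero_le _) hi, hw' 0 (Nat.zero_le _)], by rw [hau, hwu],
    fun i j hij hj => no_chord hv hij hj (by omega), fun i hi hib => ?_⟩
  by_contra hne
  have hp : 0 < T.a (v i) u := a_pos T (hu' i hi) hne
  let v' : ℕ → ℕ := fun k => if i < b then i + k else i - k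
  let L := if i < b then b - i else i - b
  have hL : 1 ≤ L ∧ L ≤ r := by simp only [L]; split_ifs <;> omega
  have hv' : ∀ k ≤ L, v' k ≤ r ∧ ((i < b ∧ v' k = i + k) ∨ (b < i ∧ v' k = i - k)) := fun k hk => by
    simp only [L] at hk
    simp only [v']; split_ifs at hk ⊢ <;> omega
  have hLb : v' L = b := by simp only [v', L]; split_ifs <;> omega
  have hpath : IsPath T (fun k => if k ≤ L then v (v' k) else u) (L + 1) := by
    refine ⟨fun k hk => ?_, fun k hk l hl he => ?_, fun k hk => ?_⟩
    · beta_reduce; split_ifs with h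
      · exact hv.two _ (hv' k h).1
      · exact hu
    · beta_reduce at he
      split_ifs at he with e1 e2 e2
      · have := hv.inj _ (hv' k e1).1 _ (hv' l e2).1 he
        have := hv' k e1
        have := hv' l e2
        simp only [L] at e1 e2
        split_ifs at e1 e2 <;> omega
      · exact absurd he (hu' _ (hv' k e1).1)
      · exact absurd he.symm (hu' _ (hv' l e2).1)
      · omega
    · beta_reduce
      split_ifs with e1 e2 e2
      · have := (hv' (k + 1) e2)
        rcases (hv' k e1).2 with ⟨hl, e⟩ | ⟨hl, e⟩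
        · rw [e, show v' (k + 1) = i + k + 1 by omega]
          exact hv.adj _ (by omega)
        · have hLe : L = i - b := if_neg (by omega)
          rw [e, show v' (k + 1) = i - (k + 1) by omega, a_symm]
          have h' := hv.adj (i - (k + 1)) (by omega)
          rwa [show i - (k + 1) + 1 = i - k by omega] at h'
      · rw [show k = L by omega, hLb]; exact hub
      all_goals omega
  have := (cycle hpath (by omega) (by simp [v']; exact hp)).card
  simp only [L] at this
  split_ifs at this <;> omega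

theorem row_m (T : Models.NumericalType n) (i : Fin n) (hi : T.IsMinusTwo i) (s : Finset (Fin n))
    (hs : i ∉ s) : ∑ j ∈ s, T.a i j * T.m j ≤ 2 * T.w i * T.m i := by
  have := row_ge T T.m (fun k => (T.m_pos k).le) i s hs
  rw [row_sum, a_diag T hi] at this
  linarith

end Groth.Agent.NumType
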