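import Groth.Agent.NumType.Sub

/-!
# Helpers to apply the subgraph lemmas to tuples
-/

namespace Groth.Agent.NumType

open Finset Models

variable {n : ℕ} {T : Models.NumericalType n}

/-- Extend a tuple to a sequence. -/
def ext {k : ℕ} (v : Fin (k + 1) → Fin n) : ℕ → Fin n := fun i => if h : i ≤ k then v ⟨i, by omega⟩ else v 0

theorem ext_eq {k : ℕ} (v : Fin (k + 1) → Fin n) {i : ℕ} (h : i ≤ k) : ext v i = v ⟨i, by omega⟩ := dif_pos h

theorem isPath_ext {k : ℕ} (v : Fin (k + 1) → Fin n) (hinj : Function.Injective v)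
    (hv : ∀ j, T.IsMinusTwo (v j)) (hadj : ∀ i : Fin k, T.a (v i.castSucc) (v i.succ) ≠ 0) :
    IsPath T (ext v) k := by
  refine ⟨fun i hi => by rw [ext_eq v hi]; exact hv _, fun i hi j hj he => ?_, fun i hi => ?_⟩
  · rw [ext_eq v hi, ext_eq v hj] at he
    simpa using congrArg Fin.val (hinj he)
  · rw [ext_eq v hi.le, ext_eq v hi]
    exact a_pos T (fun he => by simpa using congrArg Fin.val (hinj he)) (hadj ⟨i, hi⟩)

theorem m_ineq1 (T : Models.NumericalType n) {i j : Fin n} (hi : T.IsMinusTwo i) {k : ℤ}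
    (hne : j ≠ i) (h : T.a i j = k * T.w i) : k * T.m j ≤ 2 * T.m i := by
  have := row_m T i hi {j} (by simpa using hne.symm)
  rw [sum_singleton, h] at this
  have := T.w_pos i
  nlinarith

theorem m_ineq2 (T : Models.NumericalType n) {i j l : Fin n} (hi : T.IsMinusTwo i) {k k' : ℤ}
    (hne : j ≠ i) (hne' : l ≠ i) (hjl : j ≠ l) (h : T.a i j = k * T.w i) (h' : T.a i l = k' * T.w i) :
    k * T.m j + k' * T.m l ≤ 2 * T.m i := by
  have := row_m T i hi {j, l} (by simp [hne.symm, hne'.symm])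
  rw [sum_pair hjl, h, h'] at this
  have := T.w_pos i
  nlinarith

theorem m_ineq3 (T : Models.NumericalType n) {i j l q : Fin n} (hi : T.IsMinusTwo i)
    (hne : j ≠ i) (hne' : l ≠ i) (hne'' : q ≠ i) (hjl : j ≠ l) (hjq : j ≠ q) (hlq : l ≠ q)
    (h : T.a i j = T.w i) (h' : T.a i l = T.w i) (h'' : T.a i q = T.w i) :
    T.m j + T.m l + T.m q ≤ 2 * T.m i := by
  have := row_m T i hi {j, l, q} (by simp [hne.symm, hne'.symm, hne''.symm])
  rw [sum_insert (by simp [hjl, hjq]), sum_pair hlq, h, h', h''] at this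
  have := T.w_pos i
  nlinarith

end Groth.Agent.NumType

namespace Groth.Agent.NumType

open Finset Models

variable {n : ℕ} {T : Models.NumericalType n}

/-- The three possible shapes of a chain with simple interior edges: weights and edges. -/
theorem chain_cases {v : ℕ → Fin n} {r : ℕ} (hv : IsPath T v r) (hr : 3 ≤ r) (hn : r + 1 < n) :
    (∀ i < r, P T (v i) (v (i + 1)) = 1) ∨
      (∀ i < r, i + 1 ≠ r → P T (v i) (v (i + 1)) = 1) ∧ P T (v (r - 1)) (v r) = 2 ∨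
      (∀ i < r, i ≠ 0 → P T (v i) (v (i + 1)) = 1) ∧ P T (v 0) (v 1) = 2 ∨
      r = 3 ∧ P T (v 0) (v 1) = 1 ∧ P T (v 1) (v 2) = 2 ∧ P T (v 2) (v 3) = 1 := by
  obtain ⟨-, h12, huniq, hpos⟩ := chain_class hv hr hn
  by_cases h : ∃ i < r, P T (v i) (v (i + 1)) = 2
  · obtain ⟨i, hi, h2⟩ := h
    have ho : ∀ j < r, j ≠ i → P T (v j) (v (j + 1)) = 1 := fun j hj hne =>
      (h12 j hj).resolve_right fun h => hne (huniq j hj i hi h h2)
    rcases hpos i hi h2 with e | e | ⟨e, e'⟩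
    · subst e; exact Or.inr (Or.inr (Or.inl ⟨fun j hj hne => ho j hj hne, h2⟩))
    · refine Or.inr (Or.inl ⟨fun j hj hne => ho j hj (by omega), ?_⟩)
      rw [← e, Nat.add_sub_cancel]; exact h2
    · subst e e'
      exact Or.inr (Or.inr (Or.inr ⟨rfl, ho 0 (by omega) (by omega), h2, ho 2 (by omega) (by omega)⟩))
  · push Not at h
    exact Or.inl fun i hi => (h12 i hi).resolve_right (h i hi)

/-- A chain all of whose edges but the last are simple: types A, C, B. -/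
theorem chain_last {v : ℕ → Fin n} {r : ℕ} (hv : IsPath T v r) (hr : 2 ≤ r)
    (hs : ∀ i < r, i + 1 ≠ r → P T (v i) (v (i + 1)) = 1)
    (hlast : P T (v (r - 1)) (v r) = 1 ∨ P T (v (r - 1)) (v r) = 2) :
    ∃ w : ℤ, ((∀ i ≤ r, T.w (v i) = w) ∧ ∀ i < r, T.a (v i) (v (i + 1)) = w) ∨
      ((∀ i < r, T.w (v i) = w) ∧ T.w (v r) = 2 * w ∧
        (∀ i < r, i + 1 ≠ r → T.a (v i) (v (i + 1)) = w) ∧ T.a (v (r - 1)) (v r) = 2 * w) ∨
      ((∀ i < r, T.w (v i) = 2 * w) ∧ T.w (v r) = w ∧ ∀ i < r, T.a (v i) (v (i + 1)) = 2 * w) := by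
  obtain ⟨hw, ha⟩ := w_seg hv (p := 0) (q := r - 1) (by omega) (fun i _ hi => hs i (by omega) (by omega))
  have hadj := hv.adj (r - 1) (by omega)
  rw [Nat.sub_add_cancel (by omega : 1 ≤ r)] at hadj
  have hw' : ∀ i < r, T.w (v i) = T.w (v 0) := fun i hi => hw i (Nat.zero_le _) (by omega)
  have ha' : ∀ i < r, i + 1 ≠ r → T.a (v i) (v (i + 1)) = T.w (v 0) := fun i hi hne =>
    ha i (Nat.zero_le _) (by omega)
  have hl := hw' (r - 1) (by omega)
  have lastcase : ∀ i < r, i + 1 = r → T.a (v i) (v (i + 1)) = T.a (v (r - 1)) (v r) := fun i hi e => by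
    rw [e, show r - 1 = i by omega]
  rcases hlast with h | h
  · obtain ⟨e, e'⟩ := P_eq_one T hadj h
    refine ⟨T.w (v 0), Or.inl ⟨fun i hi => ?_, fun i hi => ?_⟩⟩
    · rcases eq_or_lt_of_le hi with q | q
      · rw [q, e', hl]
      · exact hw' i q
    · by_cases q : i + 1 = r
      · rw [lastcase i hi q, e, hl]
      · exact ha' i hi q
  · rcases P_eq_two T hadj h with ⟨-, -, e, e'⟩ | ⟨-, -, e, e'⟩
    · exact ⟨T.w (v 0), Or.inr (Or.inl ⟨hw', by rw [e', hl], ha', by rw [e, e', hl]⟩)⟩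
    · refine ⟨T.w (v r), Or.inr (Or.inr ⟨fun i hi => by rw [hw' i hi, ← hl, e'], rfl, fun i hi => ?_⟩)⟩
      by_cases q : i + 1 = r
      · rw [lastcase i hi q, e, e']
      · rw [ha' i hi q, ← hl, e']

/-- A chain with at least four vertices is, up to reversal, of type A, C, B, or the short type F. -/
theorem chain_norm {v : ℕ → Fin n} {r : ℕ} (hv : IsPath T v r) (hr : 3 ≤ r) (hn : r + 1 < n) :
    ∃ u : ℕ → Fin n, (u = v ∨ u = fun i => v (r - i)) ∧ IsPath T u r ∧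
      (((∀ i < r, i + 1 ≠ r → P T (u i) (u (i + 1)) = 1) ∧
          (P T (u (r - 1)) (u r) = 1 ∨ P T (u (r - 1)) (u r) = 2)) ∨
        r = 3 ∧ P T (u 0) (u 1) = 1 ∧ P T (u 1) (u 2) = 2 ∧ P T (u 2) (u 3) = 1 ∧ T.w (u 2) = 2 * T.w (u 1)) := by
  rcases chain_cases hv hr hn with h | ⟨h, h'⟩ | ⟨h, h'⟩ | ⟨rfl, h0, h1, h2⟩
  · refine ⟨v, Or.inl rfl, hv, Or.inl ⟨fun i hi _ => h i hi, Or.inl ?_⟩⟩
    have := h (r - 1) (by omega)
    rwa [Nat.sub_add_cancel (by omega : 1 ≤ r)] at this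
  · exact ⟨v, Or.inl rfl, hv, Or.inl ⟨h, Or.inr h'⟩⟩
  · refine ⟨fun i => v (r - i), Or.inr rfl, hv.rev, Or.inl ⟨fun i hi hne => ?_, Or.inr ?_⟩⟩
    · beta_reduce
      have := h (r - (i + 1)) (by omega) (by omega)
      rwa [show r - (i + 1) + 1 = r - i by omega, P_comm] at this
    · beta_reduce
      rw [Nat.sub_self, show r - (r - 1) = 1 by omega, P_comm]; exact h'
  · rcases P_eq_two T (hv.adj 1 (by omega)) h1 with ⟨-, -, -, e'⟩ | ⟨-, -, -, e'⟩
    · exact ⟨v, Or.inl rfl, hv, Or.inr ⟨rfl, h0, h1, h2, e'⟩⟩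
    · exact ⟨fun i => v (3 - i), Or.inr rfl, hv.rev, Or.inr ⟨rfl, (P_comm T _ _).trans h2,
        (P_comm T _ _).trans h1, (P_comm T _ _).trans h0, e'⟩⟩

theorem ext_rev {k : ℕ} (v : Fin (k + 1) → Fin n) (j : Fin (k + 1)) : ext v (k - j.val) = v (Fin.rev j) := by
  rw [ext_eq v (by omega)]
  congr 1
  ext
  simp

end Groth.Agent.NumType
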