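import Mathlib.LinearAlgebra.Matrix.BilinearForm
import Mathlib.LinearAlgebra.BilinearForm.Orthogonal
import Mathlib.LinearAlgebra.Matrix.Symmetric
import Mathlib.LinearAlgebra.FreeModule.Finite.Matrix
import Mathlib.FieldTheory.Finiteness
import Mathlib.Algebra.Field.ZMod
import Mathlib.Algebra.Module.Torsion.Basic
import Mathlib.LinearAlgebra.Dimension.RankNullity
import Mathlib.Tactic

/-!
# The `ℓ`-torsion of the cokernel of a weighted Laplacian
-/

namespace Groth.Agent.NumType.Torsion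

open Finset Matrix

variable {n : ℕ} (A : Matrix (Fin n) (Fin n) ℤ) (m : Fin n → ℤ)

/-- The edges. -/
abbrev Edge : Type := {p : Fin n × Fin n // p.1 < p.2 ∧ 0 < A p.1 p.2}

theorem card_edge : Fintype.card (Edge A) =
    (univ.filter fun p : Fin n × Fin n => p.1 < p.2 ∧ 0 < A p.1 p.2).card :=
  Fintype.card_subtype _

variable (ℓ : ℕ)

/-- The difference map. -/
def d : (Fin n → ZMod ℓ) →ₗ[ZMod ℓ] (Edge A → ZMod ℓ) :=
  LinearMap.pi fun e : Edge A =>
    (LinearMap.proj e.1.2 : (Fin n → ZMod ℓ) →ₗ[ZMod ℓ] ZMod ℓ) - LinearMap.proj e.1.1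

theorem key (hsymm : A.IsSymm) (hA : ∀ i j, i ≠ j → 0 ≤ A i j) (hAm : A.mulVec m = 0)
    (u u' : Fin n → ZMod ℓ) :
    ∑ e : Edge A, ((A e.1.1 e.1.2 * m e.1.1 * m e.1.2 : ℤ) : ZMod ℓ) * d A ℓ u e * d A ℓ u' e =
      -∑ i, ((m i : ℤ) : ZMod ℓ) * u' i * ∑ j, (A i j : ZMod ℓ) * ((m j : ZMod ℓ) * u j) := by
  have hrow : ∀ i, ∑ j, (A i j : ZMod ℓ) * (m j : ZMod ℓ) = 0 := fun i => by
    have := congrArg (fun v : Fin n → ℤ => ((v i : ℤ) : ZMod ℓ)) hAm
    simpa [Matrix.mulVec, dotProduct] using this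
  let F : Fin n × Fin n → ZMod ℓ := fun p =>
    ((A p.1 p.2 * m p.1 * m p.2 : ℤ) : ZMod ℓ) * u' p.1 * (u p.2 - u p.1)
  have h1 : ∑ i, ((m i : ℤ) : ZMod ℓ) * u' i * ∑ j, (A i j : ZMod ℓ) * ((m j : ZMod ℓ) * u j) = ∑ p, F p := by
    rw [Fintype.sum_prod_type]
    refine sum_congr rfl fun i _ => ?_
    have e : ∀ j, F (i, j) = ((m i : ℤ) : ZMod ℓ) * u' i * ((A i j : ZMod ℓ) * ((m j : ZMod ℓ) * u j)) -
        ((m i : ℤ) : ZMod ℓ) * u' i * u i * ((A i j : ZMod ℓ) * (m j : ZMod ℓ)) := fun j => by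
      simp only [F]; push_cast; ring
    simp only [e, sum_sub_distrib, ← mul_sum, hrow, mul_zero, sub_zero]
  have h2 : ∑ p, F p = ∑ p ∈ univ.filter (fun p : Fin n × Fin n => p.1 < p.2), (F p + F (p.2, p.1)) := by
    rw [sum_add_distrib, ← sum_filter_add_sum_filter_not univ (fun p : Fin n × Fin n => p.1 < p.2) F]
    congr 1
    have h3 : ∀ p : Fin n × Fin n, p.1 = p.2 → F p = 0 := fun p hp => by simp [F, hp]
    rw [← sum_filter_add_sum_filter_not (univ.filter fun p : Fin n × Fin n => ¬ p.1 < p.2)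
      (fun p => p.1 = p.2) F, sum_eq_zero (fun p hp => h3 p (mem_filter.1 hp).2), zero_add]
    refine sum_bij (fun p _ => (p.2, p.1)) (fun p hp => ?_) (fun p _ q _ h => ?_) (fun p hp => ?_) (fun p _ => rfl)
    · simp only [mem_filter, mem_univ, true_and] at hp ⊢
      exact lt_of_le_of_ne (not_lt.1 hp.1) (Ne.symm hp.2)
    · simp only [Prod.mk.injEq] at h
      exact Prod.ext h.2 h.1
    · simp only [mem_filter, mem_univ, true_and] at hp
      exact ⟨(p.2, p.1), by simp [hp.ne', hp.le], rfl⟩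
  rw [h1, h2, ← sum_neg_distrib]
  have h4 : ∀ p ∈ univ.filter (fun p : Fin n × Fin n => p.1 < p.2), -(F p + F (p.2, p.1)) ≠ 0 → 0 < A p.1 p.2 := by
    intro p hp hne
    simp only [mem_filter, mem_univ, true_and] at hp
    rcases (hA p.1 p.2 hp.ne).lt_or_eq with h | h
    · exact h
    · exact absurd (by simp [F, ← h, hsymm.apply p.1 p.2]) hne
  rw [← sum_filter_of_ne h4, filter_filter,
    sum_subtype _ (p := fun p : Fin n × Fin n => p.1 < p.2 ∧ 0 < A p.1 p.2) (fun p => by simp)]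
  refine sum_congr rfl fun p _ => ?_
  simp only [F, d, LinearMap.pi_apply, LinearMap.sub_apply, LinearMap.proj_apply, hsymm.apply p.1.1 p.1.2]
  push_cast
  ring

theorem eq_of_d [NeZero n] (hA : ∀ i j, i ≠ j → 0 ≤ A i j) (hsymm : A.IsSymm)
    (hconn : ∀ I : Finset (Fin n), I.Nonempty → I ≠ univ → ∃ i ∈ I, ∃ j ∉ I, A i j ≠ 0)
    (u : Fin n → ZMod ℓ) (h0 : u 0 = 0) (hd : d A ℓ u = 0) : u = 0 := by
  funext k
  by_contra hk
  obtain ⟨i, hi, j, hj, hij⟩ := hconn (univ.filter fun x => u x = 0) ⟨0, by simp [h0]⟩ (fun e => hk (by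
    have : k ∈ univ.filter fun x => u x = 0 := by rw [e]; exact mem_univ k
    simpa using this))
  simp only [mem_filter, mem_univ, true_and] at hi hj
  have hne : i ≠ j := fun e => hj (e ▸ hi)
  have hpos : 0 < A i j := lt_of_le_of_ne (hA i j hne) (Ne.symm hij)
  rcases lt_or_gt_of_ne hne with h | h
  · have := congrFun hd ⟨(i, j), h, hpos⟩
    simp [d, hi] at this
    exact hj this
  · have := congrFun hd ⟨(j, i), h, by rwa [← hsymm.apply j i]⟩
    simp [d, hi] at this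
    exact hj this

theorem card_torsion_le (hsymm : A.IsSymm) (hA : ∀ i j, i ≠ j → 0 ≤ A i j)
    (hAm : A.mulVec m = 0)
    (hconn : ∀ I : Finset (Fin n), I.Nonempty → I ≠ univ → ∃ i ∈ I, ∃ j ∉ I, A i j ≠ 0)
    (hℓ : ℓ.Prime) (hℓA : ∀ i j, A i j ≠ 0 → ¬ ((ℓ : ℤ) ∣ A i j))
    (hℓm : ∀ i, ¬ ((ℓ : ℤ) ∣ m i)) :
    Nat.card (Submodule.torsionBy ℤ ((Fin n → ℤ) ⧸ LinearMap.range (Matrix.mulVecLin A)) (ℓ : ℤ))
      ≤ ℓ ^ ((univ.filter fun p : Fin n × Fin n => p.1 < p.2 ∧ 0 < A p.1 p.2).card + 1 - n) := by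
  classical
  haveI := Fact.mk hℓ
  rcases Nat.eq_zero_or_pos n with rfl | hn
  · have : Subsingleton ((Fin 0 → ℤ) ⧸ LinearMap.range (Matrix.mulVecLin A)) :=
      Function.Surjective.subsingleton (Submodule.Quotient.mk_surjective _)
    rw [Nat.card_of_subsingleton (⟨0, Submodule.zero_mem _⟩)]
    exact Nat.one_le_iff_ne_zero.2 (pow_ne_zero _ hℓ.ne_zero)
  haveI : NeZero n := ⟨hn.ne'⟩
  have hmz : ∀ i, ((m i : ℤ) : ZMod ℓ) ≠ 0 := fun i h => hℓm i ((ZMod.intCast_zmod_eq_zero_iff_dvd _ _).1 h)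
  let Q : LinearMap.BilinForm (ZMod ℓ) (Edge A → ZMod ℓ) :=
    Matrix.toBilin' (Matrix.diagonal fun e => ((A e.1.1 e.1.2 * m e.1.1 * m e.1.2 : ℤ) : ZMod ℓ))
  let U₀ : Submodule (ZMod ℓ) (Fin n → ZMod ℓ) := LinearMap.ker (LinearMap.proj 0)
  let W : Submodule (ZMod ℓ) (Edge A → ZMod ℓ) := U₀.map (d A ℓ)
  have hQap : ∀ v v', Q v v' = ∑ e : Edge A, ((A e.1.1 e.1.2 * m e.1.1 * m e.1.2 : ℤ) : ZMod ℓ) * v e * v' e :=
    fun v v' => by
      simp only [Q, Matrix.toBilin'_apply, Matrix.diagonal_apply]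
      refine sum_congr rfl fun e _ => ?_
      rw [sum_eq_single e]
      · simp only [↓reduceIte]; ring
      · intro b _ hb; simp [Ne.symm hb]
      · simp
  have hU : Module.finrank (ZMod ℓ) U₀ = n - 1 := by
    have h := (LinearMap.proj (0 : Fin n) : (Fin n → ZMod ℓ) →ₗ[ZMod ℓ] ZMod ℓ).finrank_range_add_finrank_ker
    rw [LinearMap.range_eq_top.2 (fun y => ⟨fun _ => y, rfl⟩), finrank_top, Module.finrank_self,
      Module.finrank_fin_fun] at h
    simp only [U₀]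
    omega
  have hinj : ∀ u ∈ U₀, d A ℓ u = 0 → u = 0 := fun u hu h => eq_of_d A ℓ hA hsymm hconn u hu h
  have hW : Module.finrank (ZMod ℓ) W = n - 1 := by
    rw [← hU]
    refine (LinearEquiv.finrank_eq (LinearEquiv.ofBijective (((d A ℓ).domRestrict U₀).codRestrict W
      (fun u => ⟨u.1, u.2, rfl⟩)) ⟨?_, ?_⟩)).symm
    · rw [← LinearMap.ker_eq_bot, LinearMap.ker_eq_bot']
      intro u hu
      exact Subtype.ext (hinj u.1 u.2 (congrArg Subtype.val hu))
    · rintro ⟨_, u, hu, rfl⟩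
      exact ⟨⟨u, hu⟩, rfl⟩
  have hnd : Q.Nondegenerate := by
    refine Matrix.nondegenerate_toBilin'_iff.2 (Matrix.nondegenerate_of_det_ne_zero ?_)
    rw [Matrix.det_diagonal, prod_ne_zero_iff]
    intro e _
    push_cast
    refine mul_ne_zero (mul_ne_zero ?_ (hmz _)) (hmz _)
    exact fun h => hℓA _ _ e.2.2.ne' ((ZMod.intCast_zmod_eq_zero_iff_dvd _ _).1 h)
  have hrefl : Q.IsRefl := fun v v' h => by
    rw [hQap] at h ⊢
    rw [← h]
    exact sum_congr rfl fun e _ => by ring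
  have horth : Module.finrank (ZMod ℓ) (Q.orthogonal W) + (n - 1) = Fintype.card (Edge A) := by
    have h := LinearMap.BilinForm.finrank_orthogonal hnd W
    have h2 := Submodule.finrank_le W
    rw [Module.finrank_fintype_fun_eq_card] at h h2
    omega
  -- a representative for each torsion class
  have hrep : ∀ q : Submodule.torsionBy ℤ ((Fin n → ℤ) ⧸ LinearMap.range (Matrix.mulVecLin A)) (ℓ : ℤ),
      ∃ x y : Fin n → ℤ, Submodule.Quotient.mk x = q.1 ∧ (ℓ : ℤ) • x = A *ᵥ y ∧ ((y 0 : ℤ) : ZMod ℓ) = 0 := by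
    rintro ⟨q, hq⟩
    obtain ⟨x, rfl⟩ := Submodule.Quotient.mk_surjective _ q
    rw [Submodule.mem_torsionBy_iff, ← Submodule.Quotient.mk_smul, Submodule.Quotient.mk_eq_zero] at hq
    obtain ⟨y, hy⟩ := hq
    rw [Matrix.mulVecLin_apply] at hy
    obtain ⟨t, ht⟩ : ∃ t : ℤ, ((t : ℤ) : ZMod ℓ) = -((y 0 : ℤ) : ZMod ℓ) / ((m 0 : ℤ) : ZMod ℓ) :=
      ZMod.intCast_surjective _
    refine ⟨x, y + t • m, rfl, ?_, ?_⟩
    · rw [Matrix.mulVec_add, Matrix.mulVec_smul, hAm, smul_zero, add_zero, hy]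
    · simp only [Pi.add_apply, Pi.smul_apply, smul_eq_mul, Int.cast_add, Int.cast_mul, ht]
      rw [div_mul_cancel₀ _ (hmz 0)]
      ring
  choose x y hxq hxy hy0 using hrep
  let u : Submodule.torsionBy ℤ ((Fin n → ℤ) ⧸ LinearMap.range (Matrix.mulVecLin A)) (ℓ : ℤ) → Fin n → ZMod ℓ :=
    fun q i => ((y q i : ℤ) : ZMod ℓ) / ((m i : ℤ) : ZMod ℓ)
  have hu0 : ∀ q, u q ∈ U₀ := fun q => by simp [U₀, u, hy0]
  have hAu : ∀ q i, ∑ j, (A i j : ZMod ℓ) * ((m j : ZMod ℓ) * u q j) = 0 := fun q i => by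
    have h := congrArg (fun v : Fin n → ℤ => ((v i : ℤ) : ZMod ℓ)) (hxy q)
    simp only [Pi.smul_apply, smul_eq_mul, Int.cast_mul, Int.cast_natCast, ZMod.natCast_self, zero_mul,
      Matrix.mulVec, dotProduct, Int.cast_sum] at h
    rw [h]
    exact sum_congr rfl fun j _ => by rw [mul_div_cancel₀ _ (hmz j)]
  have hmem : ∀ q, d A ℓ (u q) ∈ Q.orthogonal W := fun q => by
    rw [LinearMap.BilinForm.mem_orthogonal_iff]
    rintro _ ⟨u', -, rfl⟩
    refine hrefl _ _ ?_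
    rw [hQap, key A m ℓ hsymm hA hAm (u q) u']
    simp only [hAu, mul_zero, sum_const_zero, neg_zero]
  have hinj' : Function.Injective fun q => (⟨d A ℓ (u q), hmem q⟩ : Q.orthogonal W) := fun q q' h => by
    have h1 : u q - u q' = 0 := hinj _ (Submodule.sub_mem _ (hu0 q) (hu0 q'))
      (by rw [map_sub, sub_eq_zero]; exact congrArg Subtype.val h)
    have h2 : ∀ i, (ℓ : ℤ) ∣ y q i - y q' i := fun i => by
      rw [← ZMod.intCast_zmod_eq_zero_iff_dvd, Int.cast_sub, sub_eq_zero]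
      have := congrFun h1 i
      simp only [u, Pi.sub_apply, Pi.zero_apply, sub_eq_zero] at this
      exact (div_left_inj' (hmz i)).1 this
    choose z hz using h2
    apply Subtype.ext
    rw [← hxq q, ← hxq q', Submodule.Quotient.eq]
    refine ⟨z, ?_⟩
    rw [Matrix.mulVecLin_apply]
    refine smul_right_injective (Fin n → ℤ) (Int.natCast_ne_zero.2 hℓ.ne_zero) ?_
    show (ℓ : ℤ) • (A *ᵥ z) = (ℓ : ℤ) • (x q - x q')
    rw [← Matrix.mulVec_smul, smul_sub, hxy, hxy, ← Matrix.mulVec_sub]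
    congr 1
    funext i
    simp only [Pi.smul_apply, Pi.sub_apply, smul_eq_mul]
    exact (hz i).symm
  refine (Nat.card_le_card_of_injective _ hinj').trans ?_
  rw [Module.natCard_eq_pow_finrank (K := ZMod ℓ), Nat.card_zmod, ← card_edge A]
  exact Nat.pow_le_pow_right hℓ.pos (by omega)

end Groth.Agent.NumType.Torsion
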